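import Groth.Agent.Fdesc.LocGenPullback
import Groth.Agent.Fdesc.LocGenTensor
import Groth.Agent.Smoothlim.LineSec
import Groth.Prelude.Def_Curv2

/-!
# Globally generated invertible modules have enough sections
-/

set_option autoImplicit false
universe u

open CategoryTheory CategoryTheory.Limits AlgebraicGeometry Opposite TopologicalSpace

namespace Groth.Agent.VarietyB.GenLocusTensor

open Groth.Agent.Fdesc.LocGen

variable {X : Scheme.{u}}

lemma app_fromSpecResidueField_eq_zero (x : X) {U : X.Opens} (a : Γ(X, U)) (h : x ∉ X.basicOpen a) :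
    (X.fromSpecResidueField x).app U a = 0 := by
  rw [← AlgebraicGeometry.basicOpen_eq_bot_iff, ← Scheme.preimage_basicOpen]
  ext y
  simp only [Opens.coe_bot, Set.mem_empty_iff_false, iff_false]
  intro hy
  apply h
  have : X.fromSpecResidueField x y = x := Scheme.fromSpecResidueField_apply x y
  rw [← this]
  exact hy

/-- A globally generated invertible module has, at each point, a section generating there. -/
theorem exists_mem_genLocus {L : X.Modules} (hL : PicF.IsInvertible L)
    (hg : Curv2.IsGloballyGenerated L) (x : X) :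
    ∃ s : Coh.structureModule X ⟶ L, x ∈ CohB1.genLocus L s := by
  obtain ⟨ι, p, hp⟩ := hg
  by_contra H
  push Not at H
  obtain ⟨U, e, hxU, he⟩ := (isInvertible_iff L).mp hL x
  let f := X.fromSpecResidueField x
  have hfU : f ⁻¹ᵁ U = ⊤ := by
    ext y
    simp only [Opens.coe_top, Set.mem_univ, iff_true]
    change f y ∈ U
    rw [show f y = x from Scheme.fromSpecResidueField_apply x y]
    exact hxU
  let η : L ⟶ (Scheme.Modules.pushforward f).obj ((Scheme.Modules.pullback f).obj L) :=
    (Scheme.Modules.pullbackPushforwardAdjunction f).unit.app L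
  have h1 : ∀ s : Coh.structureModule X ⟶ L, s ≫ η = 0 := by
    intro s
    apply hom_ext_sec
    have h2 : sec (s ≫ η) ⊤ = pullSec f (sec s ⊤) := rfl
    have h3 : res _ (f.preimage_mono (le_top : U ≤ ⊤)) (pullSec f (sec s ⊤)) = 0 := by
      rw [res_pullSec (h := le_top), res_sec]
      obtain ⟨a, ha⟩ := he.exists_eq (sec s U)
      rw [ha, pullSec_smul]
      have : f.app U a = 0 := by
        apply app_fromSpecResidueField_eq_zero
        rw [← genLocus_inf_eq s he ha]
        exact fun h => H s h.1
      rw [this, zero_smul]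
    rw [h2]
    have h4 : pullSec f (sec s ⊤) = 0 := by
      apply res_ext ((Scheme.Modules.pullback f).obj L) (fun _ : Unit => f ⁻¹ᵁ U)
        (fun _ => f.preimage_mono (le_top : U ≤ ⊤)) (by rw [hfU]; simp)
      intro _
      rw [h3, map_zero]
    rw [h4]
    rfl
  have h5 : p ≫ η = 0 := by
    refine Cofan.IsColimit.hom_ext (SheafOfModules.isColimitFreeCofan ι) _ _ fun i => ?_
    have h5' := h1 (SheafOfModules.ιFree i ≫ p)
    exact h5'.trans (comp_zero (C := X.Modules)).symm
  have h6 : η = 0 := hp.left_cancellation _ _ (h5.trans (comp_zero (C := X.Modules)).symm)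
  have h7 : pullSec f e = 0 := by
    change η.app U e = 0
    rw [h6]; rfl
  have h8 := he.pullSec f
  rw [h7] at h8
  have h9 : (1 : Γ(Spec (X.residueField x), f ⁻¹ᵁ U)) = 0 := h8.ext (by rw [smul_zero, smul_zero])
  have : Nonempty (f ⁻¹ᵁ U : (Spec (X.residueField x)).Opens) := by
    rw [hfU]; exact ⟨⟨Classical.arbitrary _, trivial⟩⟩
  exact one_ne_zero h9

/-- The tensor product of two global sections, as a morphism. -/
noncomputable def tmulHom {L M : X.Modules} (s : Coh.structureModule X ⟶ L)
    (t : Coh.structureModule X ⟶ M) : Coh.structureModule X ⟶ CohB1.tensorMod L M :=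
  homOf (tmul (sec s ⊤) (sec t ⊤))

lemma sec_tmulHom {L M : X.Modules} (s : Coh.structureModule X ⟶ L)
    (t : Coh.structureModule X ⟶ M) (U : X.Opens) :
    sec (tmulHom s t) U = tmul (sec s U) (sec t U) := by
  rw [tmulHom, sec_homOf, res_tmul, res_sec, res_sec]

/-- The generating locus of a tensor product of sections. -/
lemma genLocus_tmulHom {L M : X.Modules} (hL : PicF.IsInvertible L) (hM : PicF.IsInvertible M)
    (s : Coh.structureModule X ⟶ L) (t : Coh.structureModule X ⟶ M) :
    CohB1.genLocus _ (tmulHom s t) = CohB1.genLocus L s ⊓ CohB1.genLocus M t := by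
  apply le_antisymm
  · intro x hx
    obtain ⟨U, e, hxU, he⟩ := (isInvertible_iff L).mp hL x
    obtain ⟨V, f, hxV, hf⟩ := (isInvertible_iff M).mp hM x
    have he' := he.res (inf_le_left : U ⊓ V ≤ U)
    have hf' := hf.res (inf_le_right : U ⊓ V ≤ V)
    obtain ⟨a, ha⟩ := he'.exists_eq (sec s (U ⊓ V))
    obtain ⟨b, hb⟩ := hf'.exists_eq (sec t (U ⊓ V))
    have h1 : sec (tmulHom s t) (U ⊓ V) = (a * b) • tmul (res L inf_le_left e) (res M inf_le_right f) := by
      rw [sec_tmulHom, ha, hb, smul_tmul, tmul_smul, smul_smul]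
    have h2 := genLocus_inf_eq _ (he'.tmul hf') h1
    have h3 : x ∈ X.basicOpen (a * b) := by
      rw [← h2]; exact ⟨hx, hxU, hxV⟩
    rw [Scheme.basicOpen_mul] at h3
    refine ⟨?_, ?_⟩
    · have := genLocus_inf_eq s he' ha
      exact (this.symm.le h3.1).1
    · have := genLocus_inf_eq t hf' hb
      exact (this.symm.le h3.2).1
  · rw [le_genLocus_iff, sec_tmulHom]
    exact IsGen.tmul ((le_genLocus_iff s _).mp inf_le_left) ((le_genLocus_iff t _).mp inf_le_right)

lemma genLocus_id : CohB1.genLocus _ (𝟙 (Coh.structureModule X)) = ⊤ := by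
  apply top_le_iff.mp
  rw [le_genLocus_iff]
  exact isGen_one ⊤

/-- An affine open meets the generating locus of a section of an invertible module in an affine
open. -/
lemma isAffineOpen_inf_genLocus {L : X.Modules} (hL : PicF.IsInvertible L) {V : X.Opens}
    (hV : IsAffineOpen V) (s : Coh.structureModule X ⟶ L) :
    IsAffineOpen (V ⊓ CohB1.genLocus L s) := by
  rw [Groth.Agent.Smoothlim.LineSec.genLocus_eq, inf_comm]
  exact Groth.Agent.Smoothlim.LineSec.isAffineOpen_genOpen_inf hL hV _

/-- Finite tensor products of invertible modules with their sections. -/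
lemma exists_tensor (n : ℕ) (L : Fin n → X.Modules) (hL : ∀ i, PicF.IsInvertible (L i)) :
    ∃ M : X.Modules, PicF.IsInvertible M ∧ ∀ t : ∀ i, Coh.structureModule X ⟶ L i,
      ∃ s : Coh.structureModule X ⟶ M, CohB1.genLocus M s = ⨅ i, CohB1.genLocus (L i) (t i) := by
  induction n with
  | zero =>
    refine ⟨Coh.structureModule X, isInvertible_structureModule, fun t => ⟨𝟙 _, ?_⟩⟩
    rw [genLocus_id, iInf_of_empty]
  | succ n ih =>
    obtain ⟨M, hM, h⟩ := ih (fun i => L i.castSucc) (fun i => hL _)
    refine ⟨CohB1.tensorMod M (L (Fin.last n)), isInvertible_tensorMod hM (hL _), fun t => ?_⟩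
    obtain ⟨s, hs⟩ := h (fun i => t i.castSucc)
    refine ⟨tmulHom s (t (Fin.last n)), ?_⟩
    rw [genLocus_tmulHom hM (hL _), hs]
    apply le_antisymm
    · refine le_iInf fun i => ?_
      induction i using Fin.lastCases with
      | last => exact inf_le_right
      | cast i => exact inf_le_left.trans (iInf_le _ i)
    · exact le_inf (le_iInf fun i => iInf_le _ _) (iInf_le _ _)

lemma mem_iInf_fin {n : ℕ} (U : Fin n → X.Opens) {x : X} (h : ∀ i, x ∈ U i) : x ∈ ⨅ i, U i := by
  rw [← Finset.inf_univ_eq_iInf, ← SetLike.mem_coe, Opens.coe_finset_inf]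
  simpa using h

lemma isAffineOpen_inf_iInf {n : ℕ} (L : Fin n → X.Modules) (hL : ∀ i, PicF.IsInvertible (L i))
    (t : ∀ i, Coh.structureModule X ⟶ L i) {V : X.Opens} (hV : IsAffineOpen V) :
    IsAffineOpen (V ⊓ ⨅ i, CohB1.genLocus (L i) (t i)) := by
  induction n with
  | zero => simpa using hV
  | succ n ih =>
    have h1 := ih (fun i => L i.castSucc) (fun i => hL _) (fun i => t i.castSucc)
    have h2 := isAffineOpen_inf_genLocus (hL (Fin.last n)) h1 (t (Fin.last n))
    convert h2 using 1
    apply le_antisymm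
    · refine le_inf (le_inf inf_le_left (inf_le_right.trans (le_iInf fun i => iInf_le _ _)))
        (inf_le_right.trans (iInf_le _ _))
    · refine le_inf (inf_le_left.trans inf_le_left) (le_iInf fun i => ?_)
      induction i using Fin.lastCases with
      | last => exact inf_le_right
      | cast i => exact inf_le_left.trans (inf_le_right.trans (iInf_le _ i))

end Groth.Agent.VarietyB.GenLocusTensor
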