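import Groth.Prelude.Def_CohB1

/-!
# Projective space over a ring is proper
-/

set_option autoImplicit false
universe u
open CategoryTheory CategoryTheory.Limits AlgebraicGeometry

namespace Groth.Agent.VarietyB.ProjSpaceProper

open CohB1

/-- `R → R[T_0,…,T_n]_0` is bijective. -/
theorem algebraMap_bijective (n : ℕ) (R : Type u) [CommRing R] :
    Function.Bijective (algebraMap R (polyGrading n R 0)) := by
  constructor
  · intro a b hab
    have h1 : (algebraMap R (polyGrading n R 0) a : MvPolynomial (Fin (n + 1)) R) =
        (algebraMap R (polyGrading n R 0) b : MvPolynomial (Fin (n + 1)) R) := by rw [hab]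
    exact MvPolynomial.C_injective _ _ h1
  · rintro ⟨p, hp⟩
    have hp' : p.totalDegree = 0 := by
      rw [MvPolynomial.mem_homogeneousSubmodule] at hp
      exact Nat.le_zero.mp hp.totalDegree_le
    rw [MvPolynomial.totalDegree_eq_zero_iff_eq_C] at hp'
    exact ⟨_, Subtype.ext hp'.symm⟩

instance finiteType (n : ℕ) (R : Type u) [CommRing R] :
    Algebra.FiniteType (polyGrading n R 0) (MvPolynomial (Fin (n + 1)) R) := by
  have : IsScalarTower R (polyGrading n R 0) (MvPolynomial (Fin (n + 1)) R) :=
    ⟨fun r a x => by
      change (r • (a : MvPolynomial (Fin (n + 1)) R)) * x = r • ((a : MvPolynomial (Fin (n + 1)) R) * x)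
      rw [smul_mul_assoc]⟩
  exact Algebra.FiniteType.of_restrictScalars_finiteType R _ _

instance isIso_specMap (n : ℕ) (R : Type u) [CommRing R] :
    IsIso (Spec.map (CommRingCat.ofHom (algebraMap R (polyGrading n R 0)))) := by
  have : IsIso (CommRingCat.ofHom (algebraMap R (polyGrading n R 0))) :=
    (ConcreteCategory.isIso_iff_bijective _).mpr (algebraMap_bijective n R)
  infer_instance

instance isProper_toSpec (n : ℕ) (R : Type u) [CommRing R] : IsProper (ProjSpace.toSpec n R) := by
  have h1 : IsProper (Proj.toSpecZero (polyGrading n R)) := inferInstance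
  have h2 := isIso_specMap n R
  have h3 : IsProper (Proj.toSpecZero (polyGrading n R) ≫
    Spec.map (CommRingCat.ofHom (algebraMap R (polyGrading n R 0)))) := inferInstance
  exact h3

end Groth.Agent.VarietyB.ProjSpaceProper
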