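import Groth.Agent.VarietyB.DualFin502
import Groth.Agent.CurvesC.CohOmTwoChart
import Groth.Agent.CurvesC.ChartFin757

/-!
# The dualizing module of a proper scheme of dimension at most one over a field is coherent
-/

set_option autoImplicit false

universe u

open CategoryTheory CategoryTheory.Limits AlgebraicGeometry Opposite TopologicalSpace

namespace Groth.Agent.VarietyB.DualCoh

open Groth.Agent.CurvesC Groth.Agent.CohqB.QC2

theorem isCoh (k : Type u) [Field k] {X : Scheme.{u}} [X.Over (Spec (CommRingCat.of k))]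
    [IsProper (X ↘ Spec (CommRingCat.of k))] (hdim : topologicalKrullDim X ≤ 1) {w : X.Modules}
    {t : HV X w 1 →ₗ[k] k} (h : IsDual w t) (hw : Coh.IsQCoh w) : Coh.IsCoh w := by
  have hN : IsLocallyNoetherian X := LocallyOfFiniteType.isLocallyNoetherian (X ↘ Spec (CommRingCat.of k))
  have hS : X.IsSeparated := ⟨by
    have : Limits.terminal.from X = (X ↘ Spec (CommRingCat.of k)) ≫ Limits.terminal.from _ := Subsingleton.elim _ _
    rw [this]
    infer_instance⟩
  obtain ⟨D, -, -⟩ := CohOmTwoChart.exists_twoChart k hdim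
  refine DualFin.isCoh_of_charts D.cov h hw D.hU D.hV D.a D.h D.hb' D.hb D.mul ?_ ?_
  · exact ChartFin757.finite_eval_over k D.hU D.hV D.cov D.a D.h D.hb D.mul
  · refine ChartFin757.finite_eval_over k D.hV D.hU (by rw [sup_comm, D.cov]) D.h D.a (by rw [D.hb', inf_comm]) ?_
    have e : D.V ⊓ D.U ≤ D.U ⊓ D.V := by rw [inf_comm]
    have h3 := congrArg (resR e) D.mul
    rw [map_mul, map_one] at h3
    change resR e (resR inf_le_left D.a) * resR e (resR inf_le_right D.h) = 1 at h3
    rw [resR_resR, resR_resR, mul_comm] at h3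
    exact h3

end Groth.Agent.VarietyB.DualCoh
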