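import Mathlib.AlgebraicGeometry.IdealSheaf.IrreducibleComponent
import Mathlib.AlgebraicGeometry.Morphisms.ClosedImmersion
import Mathlib.AlgebraicGeometry.FunctionField
import Mathlib.Topology.KrullDimension
import Groth.Agent.CycB.CohStalk
import Groth.Agent.CycB.PushStalk
import Groth.Agent.VarietyB.DimTop

/-!
Integral closed subschemes of Noetherian schemes of dimension at most one.
-/

set_option autoImplicit false
universe u
open CategoryTheory CategoryTheory.Limits AlgebraicGeometry Opposite TopologicalSpace

namespace Groth.Agent.VarietyB.DegComp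

variable {X Z : Scheme.{u}}

/-- The kernel of a quasi-compact morphism from a reduced scheme is radical. -/
theorem ker_radical [IsReduced Z] (i : Z ⟶ X) [QuasiCompact i] : i.ker.radical = i.ker := by
  ext U : 2
  show (i.ker.ideal U).radical = i.ker.ideal U
  rw [i.ker_apply U]
  refine le_antisymm ?_ Ideal.le_radical
  rintro x ⟨n, hn⟩
  rw [RingHom.mem_ker, map_pow] at hn
  exact eq_zero_of_pow_eq_zero hn

/-- A closed immersion is identified with the closed subscheme of its kernel. -/
theorem exists_iso_of_ker_eq (i : Z ⟶ X) [IsClosedImmersion i] (J : X.IdealSheafData)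
    (h : i.ker = J) : ∃ e : Z ≅ J.subscheme, e.hom ≫ J.subschemeι = i := by
  subst h
  exact ⟨asIso i.toImage, i.toImage_imageι⟩

theorem exists_iso_of_range_eq [IsReduced Z] (i : Z ⟶ X) [IsClosedImmersion i]
    (J : X.IdealSheafData) (h : Set.range i = J.support) :
    ∃ e : Z ≅ J.radical.subscheme, e.hom ≫ J.radical.subschemeι = i := by
  refine exists_iso_of_ker_eq i _ ?_
  rw [← ker_radical i, ← Scheme.IdealSheafData.vanishingIdeal_support,
    ← Scheme.IdealSheafData.vanishingIdeal_support]
  congr 1
  apply SetLike.coe_injective
  rw [i.support_ker, i.isClosedEmbedding.isClosed_range.closure_eq, h]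

theorem topologicalKrullDim_range_eq (i : Z ⟶ X) [IsClosedImmersion i] :
    topologicalKrullDim (Set.range i) = topologicalKrullDim Z :=
  (IsHomeomorph.topologicalKrullDim_eq _ (i.isClosedEmbedding.isEmbedding.toHomeomorph).isHomeomorph).symm

/-- In a space of dimension at most one, an irreducible closed subset has dimension at most zero or
is an irreducible component of dimension one. -/
theorem mem_irreducibleComponents_of_dim {T : Type u} [TopologicalSpace T]
    (hT : topologicalKrullDim T ≤ 1) (C : Set T) (hC : IsIrreducible C) (hcl : IsClosed C) :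
    topologicalKrullDim C ≤ 0 ∨ (C ∈ irreducibleComponents T ∧ topologicalKrullDim C = 1) := by
  by_cases h0 : topologicalKrullDim C ≤ 0
  · exact Or.inl h0
  right
  have hle : topologicalKrullDim C ≤ 1 := (topologicalKrullDim_subspace_le T C).trans hT
  have hpos : 0 < topologicalKrullDim C := not_le.mp h0
  have h1 : topologicalKrullDim C = 1 := le_antisymm hle ((WithBot.one_le_iff_pos _).mpr hpos)
  refine ⟨?_, h1⟩
  obtain ⟨x, y, hxy⟩ := Order.krullDim_pos_iff.mp hpos
  let f : C → T := Subtype.val
  have hf : Topology.IsClosedEmbedding f := hcl.isClosedEmbedding_subtypeVal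
  let x' : IrreducibleCloseds T := IrreducibleCloseds.map f hf.continuous x
  let C' : IrreducibleCloseds T := ⟨C, hC, hcl⟩
  have hx'C : x' < C' := by
    refine lt_of_lt_of_le (b := IrreducibleCloseds.map f hf.continuous y)
      (IrreducibleCloseds.map_strictMono_of_isInducing hf.isInducing hxy) ?_
    show closure (f '' y) ⊆ C
    refine closure_minimal ?_ hcl
    rintro _ ⟨z, -, rfl⟩
    exact z.2
  have hmax : IsMax C' := by
    rcases Order.krullDim_le_one_iff.mp hT C' with h | h
    · exact absurd hx'C h.not_lt
    · exact h
  refine (irreducibleComponents_eq_maximals_closed T) ▸ ⟨⟨hcl, hC⟩, ?_⟩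
  rintro D ⟨hD, hD'⟩ hCD
  exact hmax (b := ⟨D, hD', hD⟩) hCD

/-- (d): an integral closed subscheme of positive dimension of a Noetherian scheme of dimension at most one is the
reduced structure on an irreducible component of dimension one. -/
theorem exists_component_iso [IsNoetherian X] (hdim : topologicalKrullDim X ≤ 1) [IsIntegral Z]
    (i : Z ⟶ X) [IsClosedImmersion i] (hZ : ¬ topologicalKrullDim Z ≤ 0) :
    ∃ C : irreducibleComponents (X : Type u), C.1 = Set.range i ∧
      topologicalKrullDim (C.1 : Set X) = 1 ∧
      ∃ e : Z ≅ (X.irreducibleComponentIdeal C.1 C.2).radical.subscheme,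
        e.hom ≫ (X.irreducibleComponentIdeal C.1 C.2).radical.subschemeι = i := by
  have hirr : IsIrreducible (Set.range i) := by
    rw [← Set.image_univ]
    exact (irreducibleSpace_def _ |>.mp inferInstance).image _ i.continuous.continuousOn
  rcases mem_irreducibleComponents_of_dim hdim (Set.range i) hirr i.isClosedEmbedding.isClosed_range with h | ⟨hC, h1⟩
  · rw [topologicalKrullDim_range_eq] at h
    exact absurd h hZ
  · exact ⟨⟨Set.range i, hC⟩, rfl, h1, exists_iso_of_range_eq i _ rfl⟩

/-- (e): finite length at the generic points of irreducible components. -/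
theorem length_stalk_ne_top [IsLocallyNoetherian X] (M : X.Modules) (hM : Coh.IsCoh M)
    (C : irreducibleComponents (X : Type u)) :
    Module.length (X.presheaf.stalk C.2.1.genericPoint) (M.presheaf.stalk C.2.1.genericPoint) ≠ ⊤ := by
  refine (Groth.Agent.CycB.CohStalk.length_stalk_lt_top M hM _ fun x _ hx => ?_).ne
  have hcl : IsClosed C.1 := isClosed_of_mem_irreducibleComponents _ C.2
  have hgen : IsGenericPoint C.2.1.genericPoint C.1 := C.2.1.isGenericPoint_genericPoint hcl
  have hle : C.1 ⊆ closure {x} := by
    rw [← hgen.def]
    exact closure_minimal (Set.singleton_subset_iff.mpr (specializes_iff_mem_closure.mp hx)) isClosed_closure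
  have heq : closure {x} ⊆ C.1 := C.2.2 isIrreducible_singleton.closure hle
  have hx' : C.2.1.genericPoint ⤳ x := by
    rw [specializes_iff_mem_closure, hgen.def]
    exact heq (subset_closure rfl)
  exact (hx.antisymm hx').eq

theorem genericPoint_mem_iff [IsIntegral Z] (i : Z ⟶ X) [IsClosedImmersion i]
    (C : irreducibleComponents (X : Type u)) :
    C.2.1.genericPoint ∈ Set.range i ↔ C.1 = Set.range i := by
  have hcl : IsClosed C.1 := isClosed_of_mem_irreducibleComponents _ C.2
  have hgen : IsGenericPoint C.2.1.genericPoint C.1 := C.2.1.isGenericPoint_genericPoint hcl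
  have hirr : IsIrreducible (Set.range i) := by
    rw [← Set.image_univ]
    exact (irreducibleSpace_def _ |>.mp inferInstance).image _ i.continuous.continuousOn
  constructor
  · intro h
    have h1 : C.1 ⊆ Set.range i := by
      rw [← hgen.def]
      exact closure_minimal (Set.singleton_subset_iff.mpr h) i.isClosedEmbedding.isClosed_range
    exact h1.antisymm (C.2.2 hirr h1)
  · intro h
    rw [← h]
    exact hgen.mem

theorem apply_genericPoint [IsIntegral Z] (i : Z ⟶ X) [IsClosedImmersion i]
    (C : irreducibleComponents (X : Type u)) (h : C.1 = Set.range i) :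
    i (genericPoint Z) = C.2.1.genericPoint := by
  have hcl : IsClosed C.1 := isClosed_of_mem_irreducibleComponents _ C.2
  have hgen : IsGenericPoint C.2.1.genericPoint C.1 := C.2.1.isGenericPoint_genericPoint hcl
  have h1 : IsGenericPoint (i (genericPoint Z)) C.1 := by
    have := (genericPoint_spec Z).image i.continuous
    rwa [Set.image_univ, ← h, hcl.closure_eq] at this
  exact h1.eq hgen

/-- Away from the closed subscheme the stalk of the direct image vanishes. -/
theorem subsingleton_stalk_push [IsIntegral Z] (i : Z ⟶ X) [IsClosedImmersion i] (F : Z.Modules)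
    (C : irreducibleComponents (X : Type u)) (h : C.1 ≠ Set.range i) :
    Subsingleton (((Coh.push i).obj F).presheaf.stalk C.2.1.genericPoint) := by
  refine Groth.Agent.CycB.PushStalk.subsingleton_stalk_push i F _ ?_
  rw [i.isClosedEmbedding.isClosed_range.closure_eq]
  exact fun h' => h ((genericPoint_mem_iff i C).mp h')

/-- For a closed immersion `i`, the length of the stalk of `i_* F` at `i z` is the length of the stalk of `F` at
`z`. -/
theorem length_stalk_push (i : Z ⟶ X) [IsClosedImmersion i] (F : Z.Modules) (z : Z) :
    Module.length (X.presheaf.stalk (i z)) (((Coh.push i).obj F).presheaf.stalk (i z)) =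
      Module.length (Z.presheaf.stalk z) (F.presheaf.stalk z) := by
  let : Algebra (X.presheaf.stalk (i z)) (Z.presheaf.stalk z) := (i.stalkMap z).hom.toAlgebra
  let : Module (X.presheaf.stalk (i z)) (F.presheaf.stalk z) := Module.compHom _ (i.stalkMap z).hom
  have : IsScalarTower (X.presheaf.stalk (i z)) (Z.presheaf.stalk z) (F.presheaf.stalk z) :=
    IsScalarTower.of_algebraMap_smul (fun r m => rfl)
  have hs : Function.Surjective (algebraMap (X.presheaf.stalk (i z)) (Z.presheaf.stalk z)) :=
    i.stalkMap_surjective z
  rw [← Module.length_eq_of_surjective (M := F.presheaf.stalk z) hs]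
  let φ := Groth.Agent.CycB.PushStalk.pushStalk i F z
  have hφ : Function.Bijective φ :=
    Groth.Agent.CycB.PushStalk.pushStalk_bijective i i.isClosedEmbedding.isInducing F z
  let ψ : ((Coh.push i).obj F).presheaf.stalk (i z) →ₗ[X.presheaf.stalk (i z)] F.presheaf.stalk z :=
    { toFun := φ
      map_add' := map_add φ
      map_smul' := fun r m => map_smulₛₗ φ r m }
  exact (LinearEquiv.ofBijective ψ hφ).length_eq

theorem length_stalk_structureModule_genericPoint [IsIntegral Z] :
    Module.length (Z.presheaf.stalk (genericPoint Z))
      ((Coh.structureModule Z).presheaf.stalk (genericPoint Z)) = 1 := by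
  rw [← (Groth.Agent.CycB.PushStalk.unitStalk Z (genericPoint Z)).length_eq]
  have : IsField (Z.presheaf.stalk (genericPoint Z)) := Field.toIsField Z.functionField
  have h2 : IsSimpleModule (Z.presheaf.stalk (genericPoint Z)) (Z.presheaf.stalk (genericPoint Z)) :=
    isSimpleModule_self_iff_isUnit.mpr
      ⟨inferInstance, fun x hx => isUnit_iff_exists_inv.mpr (this.mul_inv_cancel hx)⟩
  exact Module.length_eq_one _ _

/-- (f): the multiplicity of `i_* O_Z` at the generic point of `Z`. -/
theorem length_stalk_push_structureModule [IsIntegral Z] (i : Z ⟶ X) [IsClosedImmersion i]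
    (C : irreducibleComponents (X : Type u)) (h : C.1 = Set.range i) :
    Module.length (X.presheaf.stalk C.2.1.genericPoint)
      (((Coh.push i).obj (Coh.structureModule Z)).presheaf.stalk C.2.1.genericPoint) = 1 := by
  rw [← apply_genericPoint i C h, length_stalk_push, length_stalk_structureModule_genericPoint]

end Groth.Agent.VarietyB.DegComp
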