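import Groth.Agent.VarietyB.DegDev
import Groth.Agent.CycB.CohStalk
import Groth.Agent.CycB.DivNat

/-!
# The multiplicity functional `F ↦ Σ_C length(F_{η_C}) d_C`
-/

set_option autoImplicit false
universe u

open CategoryTheory CategoryTheory.Limits AlgebraicGeometry Opposite TopologicalSpace MonoidalCategory
open AlgebraicGeometry.Scheme.Modules
open Groth.Agent.CycB.StalkExact Groth.Agent.VarietyA.StalkCrit Groth.Agent.VarietyB.TensLoc
open Groth.Agent.VarietyB.ExactLoc Groth.Agent.VarietyB.AddFun Groth.Agent.VarietyB.UnitStalk

namespace Groth.Agent.VarietyB.DegMult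

variable {X : Scheme.{u}}

/-- the length of the stalk of `F` at the generic point of a component -/
noncomputable def len (F : X.Modules) (C : irreducibleComponents (X : Type u)) : ℤ :=
  ((Module.length (X.presheaf.stalk C.2.1.genericPoint) 
    (F.presheaf.stalk C.2.1.genericPoint)).toNat : ℤ)

/-- `Σ_C length(F_{η_C}) d_C` over the components of dimension one. -/
noncomputable def mult (d : irreducibleComponents (X : Type u) → ℤ) (F : X.Modules) : ℤ :=
  ∑ᶠ C : irreducibleComponents (X : Type u), 
    if topologicalKrullDim (C.1 : Set X) = 1 then len F C * d C else 0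

theorem closure_genericPoint (C : irreducibleComponents (X : Type u)) : 
    closure {C.2.1.genericPoint} = C.1 := by
  rw [C.2.1.genericPoint_closure_eq]
  exact (isClosed_of_mem_irreducibleComponents C.1 C.2).closure_eq

theorem eq_genericPoint (C : irreducibleComponents (X : Type u)) (x : X) 
    (hx : x ⤳ C.2.1.genericPoint) : x = C.2.1.genericPoint := by
  have h1 : C.1 ⊆ closure {x} := by
    rw [← closure_genericPoint C]
    exact closure_minimal (Set.singleton_subset_iff.mpr (specializes_iff_mem_closure.mp hx)) 
      isClosed_closure
  have h2 : closure {x} ⊆ C.1 := C.2.2 isIrreducible_singleton.closure h1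
  have h3 : C.2.1.genericPoint ⤳ x := by
    rw [specializes_iff_mem_closure, closure_genericPoint C]
    exact h2 (subset_closure rfl)
  exact (hx.antisymm h3).eq

theorem length_ne_top [IsLocallyNoetherian X] (F : X.Modules) (hF : Coh.IsCoh F) 
    (C : irreducibleComponents (X : Type u)) : 
    Module.length (X.presheaf.stalk C.2.1.genericPoint) (F.presheaf.stalk C.2.1.genericPoint) ≠ ⊤ :=
  (CycB.CohStalk.length_stalk_lt_top F hF _ fun x _ hx => eq_genericPoint C x hx).ne

theorem len_add [IsLocallyNoetherian X] (C : irreducibleComponents (X : Type u)) 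
    (S : ShortComplex X.Modules) (hS : S.ShortExact)
    (h₁ : Coh.IsCoh S.X₁) (h₃ : Coh.IsCoh S.X₃) : 
    len S.X₂ C = len S.X₁ C + len S.X₃ C := by
  unfold len
  rw [CycB.StalkExact.length_stalk_shortExact S hS, ENat.toNat_add (length_ne_top _ h₁ C) 
    (length_ne_top _ h₃ C)]
  push_cast
  rfl

theorem len_eq_zero (C : irreducibleComponents (X : Type u)) (F : X.Modules) 
    (h : Subsingleton (F.presheaf.stalk C.2.1.genericPoint)) : len F C = 0 := by
  unfold len
  rw [Module.length_eq_zero_iff.mpr h]
  rfl

theorem len_unit (C : irreducibleComponents (X : Type u)) : 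
    len (Coh.structureModule X) C = 
      ((Module.length (X.presheaf.stalk C.2.1.genericPoint) 
        (X.presheaf.stalk C.2.1.genericPoint)).toNat : ℤ) := by
  unfold len
  rw [← (CycB.PushStalk.unitStalk X C.2.1.genericPoint).length_eq]

theorem mult_unit (d : irreducibleComponents (X : Type u) → ℤ) : 
    mult d (Coh.structureModule X) = 
      ∑ᶠ C : irreducibleComponents (X : Type u), 
        if topologicalKrullDim (C.1 : Set X) = 1 then 
          ((Module.length (X.presheaf.stalk C.2.1.genericPoint) 
            (X.presheaf.stalk C.2.1.genericPoint)).toNat : ℤ) * d C else 0 := by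
  unfold mult
  simp_rw [len_unit]

theorem isAddFun_mult [IsNoetherian X] (d : irreducibleComponents (X : Type u) → ℤ) : 
    IsAddFun (mult d) where
  add S hS h₁ h₂ h₃ := by
    have hfin : Finite (irreducibleComponents (X : Type u)) := 
      TopologicalSpace.NoetherianSpace.finite_irreducibleComponents
    unfold mult
    rw [← finsum_add_distrib (Set.toFinite _) (Set.toFinite _)]
    refine finsum_congr fun C => ?_
    split_ifs
    · rw [len_add C S hS h₁ h₃, add_mul]
    · rw [add_zero]
  zero F hF hs := by
    unfold mult
    rw [finsum_eq_zero_of_forall_eq_zero]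
    intro C
    split_ifs with hC
    · rw [len_eq_zero C F, zero_mul]
      by_contra hc
      have hcl := VarietyA.GlobGen.isClosed_support F hF.2
      have h1 : (C.1 : Set X) ⊆ CohB1.support F := by
        rw [← closure_genericPoint C]
        exact closure_minimal (Set.singleton_subset_iff.mpr hc) hcl
      have h2 := (dim_mono h1).trans hs
      rw [hC] at h2
      exact absurd h2 (by decide)
    · rfl

/-- the value on `i_* O_Z` for `Z` integral and `i(Z)` a component. -/
theorem mult_push {Z : Scheme.{u}} (i : Z ⟶ X) [IsClosedImmersion i] [IsIntegral Z] 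
    (C : irreducibleComponents (X : Type u)) (hC : C.1 = Set.range i) 
    (hd : topologicalKrullDim (C.1 : Set X) = 1) 
    (d : irreducibleComponents (X : Type u) → ℤ) : 
    mult d ((Coh.push i).obj (Coh.structureModule Z)) = d C := by
  unfold mult
  rw [finsum_eq_single _ C, if_pos hd]
  · have h1 : len ((Coh.push i).obj (Coh.structureModule Z)) C = 1 := by
      have hη : i (genericPoint Z) = C.2.1.genericPoint := by
        have h2 : closure {i (genericPoint Z)} = closure {C.2.1.genericPoint} := by
          rw [closure_genericPoint C, hC, ← Set.image_singleton, 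
            i.isClosedEmbedding.closure_image_eq, (genericPoint_spec Z).def, Set.image_univ]
        exact (inseparable_iff_closure_eq.mpr h2).eq
      unfold len
      rw [← hη]
      have h1 := CycB.DivNat.length_eq_of_semilinear (i.stalkMap (genericPoint Z)).hom
        (i.stalkMap_surjective (genericPoint Z))
        (CycB.PushStalk.pushStalk i (Coh.structureModule Z) (genericPoint Z))
        (CycB.PushStalk.pushStalk_bijective i i.isClosedEmbedding.isInducing
          (Coh.structureModule Z) (genericPoint Z))
      have h2 := (CycB.PushStalk.unitStalk Z (genericPoint Z)).length_eq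
      have h3 : Module.length (Z.presheaf.stalk (genericPoint Z)) 
          (Z.presheaf.stalk (genericPoint Z)) = 1 := by
        rw [Module.length_eq_one_iff]
        letI : Field (Z.presheaf.stalk (genericPoint Z)) := inferInstanceAs (Field Z.functionField)
        exact inferInstanceAs (IsSimpleModule Z.functionField Z.functionField)
      change ((Module.length _ (((Scheme.Modules.pushforward i).obj 
        (Coh.structureModule Z)).presheaf.stalk (i (genericPoint Z)))).toNat : ℤ) = 1
      rw [h1, ← h2, h3]
      rfl
    rw [h1, one_mul]
  · intro C' hC'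
    split_ifs
    · rw [len_eq_zero, zero_mul]
      apply CycB.PushStalk.subsingleton_stalk_push
      rw [i.isClosedEmbedding.isClosed_range.closure_eq, ← hC]
      intro hmem
      apply hC'
      have h1 : C'.1 ⊆ C.1 := by
        rw [← closure_genericPoint C']
        exact closure_minimal (Set.singleton_subset_iff.mpr hmem) 
          (isClosed_of_mem_irreducibleComponents C.1 C.2)
      exact Subtype.ext (h1.antisymm (C'.2.2 C.2.1 h1))
    · rfl

end Groth.Agent.VarietyB.DegMult
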