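import Groth.Agent.VarietyB.CurvePole
import Groth.Agent.VarietyB.CurveTop
import Mathlib.AlgebraicGeometry.Noetherian

/-!
# Functions with poles at all points of a finite set
-/

set_option autoImplicit false
universe u

open CategoryTheory Limits Opposite TopologicalSpace AlgebraicGeometry

namespace Groth.Agent.VarietyB.CurvePole

open Groth.Agent.VarietyB.MVScheme Groth.Agent.VarietyB.CurveTop

variable {Y : Scheme.{u}}

/-- Adding a function regular at `p` preserves a pole at `p`. -/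
theorem HasPoleAt.add {A B W : Y.Opens} {f : Γ(Y, A)} {p : Y} (hf : HasPoleAt f p)
    (h : Γ(Y, B)) (hp : p ∈ B) (hWA : W ≤ A) (hWB : W ≤ B) :
    HasPoleAt (rs hWA f + rs hWB h) p := by
  obtain ⟨V, hpV, g, hg, hfg⟩ := hf
  let g1 : Γ(Y, V ⊓ B) := rs inf_le_left g
  let h1 : Γ(Y, V ⊓ B) := rs inf_le_right h
  let e : Γ(Y, V ⊓ B) := 1 + h1 * g1
  have hpe : p ∈ Y.basicOpen e := by
    have h2 : (1 : Γ(Y, V ⊓ B)) = e + -(h1 * g1) := by simp only [e]; ring
    have h3 : p ∈ Y.basicOpen (1 : Γ(Y, V ⊓ B)) := by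
      rw [Y.basicOpen_of_isUnit isUnit_one]; exact ⟨hpV, hp⟩
    rw [h2] at h3
    rcases Y.basicOpen_add_le _ _ h3 with h4 | h4
    · exact h4
    · exfalso
      have h5 : -(h1 * g1) = g1 * -h1 := by ring
      rw [h5, Y.basicOpen_mul] at h4
      have h6 := h4.1
      rw [basicOpen_rs] at h6
      exact hg h6.2
  have hV' : Y.basicOpen e ≤ V ⊓ B := Y.basicOpen_le e
  obtain ⟨v, hv⟩ := (isUnit_rs hV' e le_rfl).exists_right_inv
  refine ⟨Y.basicOpen e, hpe, rs hV' g1 * v, ?_, ?_⟩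
  · intro h6
    rw [Y.basicOpen_mul] at h6
    have h7 := h6.1
    rw [rs_rs, basicOpen_rs] at h7
    exact hg h7.2
  · have hWV : W ⊓ Y.basicOpen e ≤ V := (inf_le_right.trans hV').trans inf_le_left
    have hWV' : W ⊓ Y.basicOpen e ≤ A ⊓ V := le_inf (inf_le_left.trans hWA) hWV
    have e1 : rs (inf_le_left.trans hWA : W ⊓ Y.basicOpen e ≤ A) f * rs hWV g = 1 := by
      have := congrArg (rs hWV') hfg
      rwa [map_mul, map_one, rs_rs, rs_rs] at this
    have e2 := congrArg (rs (inf_le_right : W ⊓ Y.basicOpen e ≤ Y.basicOpen e)) hv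
    simp only [e, g1, h1, map_mul, map_add, map_one, rs_rs] at e1 e2 ⊢
    linear_combination (rs (inf_le_right : W ⊓ Y.basicOpen (1 + rs inf_le_right h *
      rs inf_le_left g) ≤ Y.basicOpen (1 + rs inf_le_right h * rs inf_le_left g)) v) * e1 + e2

/-- Summing functions with a single pole. -/
theorem exists_sum (P : Finset Y) (A : Y → Y.Opens) (hA : ∀ p q, p ≠ q → p ∈ A q)
    (f : ∀ p, Γ(Y, A p)) (hf : ∀ p ∈ P, HasPoleAt (f p) p) (U : Y.Opens)
    (hU : ∀ p ∈ P, U ≤ A p) : ∃ F : Γ(Y, U), ∀ p ∈ P, HasPoleAt F p := by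
  classical
  let G : Y → Γ(Y, U) := fun q => if h : U ≤ A q then rs h (f q) else 0
  have hG : ∀ q ∈ P, G q = if h : U ≤ A q then rs h (f q) else 0 := fun _ _ => rfl
  have key : ∀ (p : Y) (Q : Finset Y), p ∉ Q → (∀ q ∈ Q, U ≤ A q) →
      ∃ (B : Y.Opens) (_ : p ∈ B) (hB : U ≤ B) (h : Γ(Y, B)), rs hB h = ∑ q ∈ Q, G q := by
    intro p Q
    induction Q using Finset.induction_on with
    | empty => intro _ _; exact ⟨⊤, trivial, le_top, 0, by simp⟩
    | insert q Q hq ih =>
      intro hp hQ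
      rw [Finset.mem_insert, not_or] at hp
      obtain ⟨B, hpB, hB, h, hh⟩ := ih hp.2 fun r hr => hQ r (Finset.mem_insert_of_mem hr)
      have hUq := hQ q (Finset.mem_insert_self _ _)
      refine ⟨A q ⊓ B, ⟨hA p q hp.1, hpB⟩, le_inf hUq hB,
        rs inf_le_left (f q) + rs inf_le_right h, ?_⟩
      rw [Finset.sum_insert hq, map_add, rs_rs, rs_rs, hh]
      congr 1
      simp only [G, dif_pos hUq]
  refine ⟨∑ q ∈ P, G q, fun p hp => ?_⟩
  obtain ⟨B, hpB, hB, h, hh⟩ := key p (P.erase p) (Finset.notMem_erase p P)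
    (fun q hq => hU q (Finset.mem_of_mem_erase hq))
  have h1 : ∑ q ∈ P, G q = rs (hU p hp) (f p) + rs hB h := by
    rw [hh, ← Finset.add_sum_erase P G hp]
    congr 1
    simp only [G, dif_pos (hU p hp)]
  rw [h1]
  exact (hf p hp).add h hpB _ _

/-- On an irreducible Noetherian scheme all of whose non-generic points are closed, each such point
has locally one equation. -/
theorem exists_local_equation (Y : Scheme.{u}) [IrreducibleSpace Y] [NoetherianSpace Y]
    (hcl : ∀ y : Y, y ≠ genericPoint Y → IsClosed ({y} : Set Y)) (p : Y)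
    (hp : p ≠ genericPoint Y) (A : Y.Opens) (hA : (A : Set Y) = {p}ᶜ) :
    ∃ (V : Y.Opens) (t : Γ(Y, V)), A ⊔ V = ⊤ ∧ Y.basicOpen t = A ⊓ V := by
  obtain ⟨_, ⟨V₀, hV₀, rfl⟩, hpV₀, -⟩ :=
    Y.isBasis_affineOpens.exists_subset_of_mem_open (Set.mem_univ p) isOpen_univ
  have hξ : ∀ W : Y.Opens, (W : Set Y).Nonempty → genericPoint Y ∈ W := fun W hW =>
    ((genericPoint_spec Y).mem_open_set_iff W.isOpen).mpr (by simpa using hW)
  have hξV : genericPoint Y ∈ V₀ := hξ V₀ ⟨p, hpV₀⟩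
  have hξA : genericPoint Y ∈ A := by
    change genericPoint Y ∈ (A : Set Y)
    rw [hA]; exact fun h => hp h.symm
  obtain ⟨t, ht, hξt⟩ := hV₀.exists_basicOpen_le ⟨genericPoint Y, hξA⟩ hξV
  -- the complement of the basic open is a finite set of closed points
  let C : Set Y := (Y.basicOpen t : Set Y)ᶜ
  have hC : IsClosed C := (Y.basicOpen t).isOpen.isClosed_compl
  have hCcl : ∀ y ∈ C, IsClosed ({y} : Set Y) := by
    intro y hy
    exact hcl y fun h => hy (h ▸ hξt)
  have hCfin : C.Finite := finite_of_isClosed_of_closedPoints C hC hCcl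
  have hD : IsClosed (C \ {p}) := by
    have h1 : C \ {p} = ⋃ y ∈ C \ {p}, {y} := by ext y; simp
    rw [h1]
    exact (hCfin.subset Set.sdiff_subset).isClosed_biUnion fun y hy => hCcl y hy.1
  let V : Y.Opens := V₀ ⊓ ⟨(C \ {p})ᶜ, hD.isOpen_compl⟩
  have hV : V ≤ V₀ := inf_le_left
  have hpV : p ∈ V := ⟨hpV₀, fun h => h.2 rfl⟩
  refine ⟨V, rs hV t, ?_, ?_⟩
  · rw [eq_top_iff]
    intro y _
    by_cases hy : y = p
    · right; rw [hy]; exact hpV
    · left
      change y ∈ (A : Set Y)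
      rw [hA]; exact hy
  · rw [basicOpen_rs]
    ext y
    constructor
    · rintro ⟨hyV, hyt⟩
      refine ⟨?_, hyV⟩
      exact ht hyt
    · rintro ⟨hyA, hyV⟩
      refine ⟨hyV, ?_⟩
      by_contra hyt
      have hyp : y ≠ p := by
        have : y ∈ (A : Set Y) := hyA
        rw [hA] at this
        exact this
      exact hyV.2 ⟨hyt, hyp⟩

end Groth.Agent.VarietyB.CurvePole
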