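import Groth.Agent.VarietyB.PoleProper
import Groth.Agent.VarietyB.CurvePole2
import Mathlib.AlgebraicGeometry.ZariskisMainTheorem

/-!
# The complement of a nonempty finite set of points in a proper curve is affine (given a function
with poles along the boundary)
-/

set_option autoImplicit false
universe u

open CategoryTheory Limits Opposite TopologicalSpace AlgebraicGeometry

namespace Groth.Agent.VarietyB.PoleAffine

open Groth.Agent.VarietyB.MVScheme Groth.Agent.VarietyB.CurvePole Groth.Agent.VarietyB.PoleProper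
  Groth.Agent.VarietyB.CurveTop

theorem glob_kMap {k : Type u} [CommRing k] {Y : Scheme.{u}} (π : Y ⟶ Spec (CommRingCat.of k))
    (U : Y.Opens) (c : k) : glob (kMap π U c) = kMap (U.ι ≫ π) ⊤ c := by
  rw [glob, kMap_apply, kMap_apply]
  have h1 := ConcreteCategory.congr_hom (U.ι.map_appLE (U := U) (V := ⊤) (by simp)
    (homOfLE (le_top : U ≤ ⊤)).op) (π.appTop ((Scheme.ΓSpecIso (CommRingCat.of k)).inv c))
  refine Eq.trans h1 ?_
  have h2 : (U.ι ≫ π).appTop = π.appTop ≫ U.ι.appTop := Scheme.Hom.comp_appTop _ _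
  rw [h2]
  have h3 : U.toScheme.presheaf.map (homOfLE (le_top : (⊤ : U.toScheme.Opens) ≤ ⊤)).op = 𝟙 _ :=
    U.toScheme.presheaf.map_id _
  rw [h3]
  have h4 : U.ι.appTop = U.ι.appLE ⊤ ⊤ (by simp) := Scheme.Hom.app_eq_appLE U.ι
  rw [h4]
  rfl

theorem polyMap_glob {k : Type u} [CommRing k] {Y : Scheme.{u}} (π : Y ⟶ Spec (CommRingCat.of k))
    (U : Y.Opens) (F : Γ(Y, U)) (h : Polynomial k) :
    polyMap (U.ι ≫ π) (glob F) h = glob (Polynomial.eval₂ (kMap π U) F h) := by
  have : glob (Polynomial.eval₂ (kMap π U) F h) =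
    (U.ι.appLE U ⊤ (by simp)).hom (Polynomial.eval₂ (kMap π U) F h) := rfl
  rw [this, Polynomial.hom_eval₂]
  change Polynomial.eval₂ _ _ _ = _
  congr 1
  ext c
  exact (glob_kMap π U c).symm

theorem mem_basicOpen_glob {Y : Scheme.{u}} {U : Y.Opens} (s : Γ(Y, U)) (x : U.toScheme) :
    x ∈ U.toScheme.basicOpen (glob s) ↔ U.ι x ∈ Y.basicOpen s := by
  rw [glob, Scheme.basicOpen_appLE]
  exact ⟨fun h => h.2, fun h => ⟨trivial, h⟩⟩

theorem mem_lineMap_iff {k : Type u} [CommRing k] {Y : Scheme.{u}}
    (π : Y ⟶ Spec (CommRingCat.of k)) (U : Y.Opens) (F : Γ(Y, U)) (h : Polynomial k)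
    (x : U.toScheme) : h ∉ (lineMap π U F x).asIdeal ↔
      U.ι x ∈ Y.basicOpen (Polynomial.eval₂ (kMap π U) F h) := by
  rw [← mem_basicOpen_glob, ← polyMap_glob, ← Scheme.toSpecΓ_preimage_basicOpen]
  rfl

/-- If `F` has a pole at some point, then on an irreducible `Y` no nonzero polynomial in `F`
vanishes at the generic point. -/
theorem genericPoint_mem_basicOpen {k : Type u} [Field k] {Y : Scheme.{u}}
    (π : Y ⟶ Spec (CommRingCat.of k)) [IrreducibleSpace Y] (U : Y.Opens)
    (hU : (U : Set Y).Nonempty) (F : Γ(Y, U)) (p : Y)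
    (hF : HasPoleAt F p) (h : Polynomial k) (hh : h ≠ 0) :
    (Y.basicOpen (Polynomial.eval₂ (kMap π U) F h) : Set Y).Nonempty := by
  obtain ⟨V, hpV, g, hg, hfg⟩ := hF
  by_contra hemp
  rw [Set.not_nonempty_iff_eq_empty] at hemp
  let F' := rs (inf_le_left : U ⊓ V ≤ U) F
  let g' := rs (inf_le_right : U ⊓ V ≤ V) g
  let inv : Invertible F' := ⟨g', by rw [mul_comm]; exact hfg, hfg⟩
  let R := h.reverse
  have hrev : Polynomial.eval₂ (kMap π (U ⊓ V)) g' R * F' ^ h.natDegree =
      Polynomial.eval₂ (kMap π (U ⊓ V)) F' h := Polynomial.eval₂_reverse_mul_pow _ F' h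
  have hR0 : R.coeff 0 ≠ 0 := by
    rw [Polynomial.coeff_zero_reverse]; exact Polynomial.leadingCoeff_ne_zero.mpr hh
  -- `p` lies in the basic open of `R(g)`
  have hpR : p ∈ Y.basicOpen (Polynomial.eval₂ (kMap π V) g R) := by
    have h5 : Polynomial.eval₂ (kMap π V) g R =
        Polynomial.eval₂ (kMap π V) g R.divX * g + kMap π V (R.coeff 0) := by
      conv_lhs => rw [← Polynomial.divX_mul_X_add R]
      rw [Polynomial.eval₂_add, Polynomial.eval₂_mul, Polynomial.eval₂_X, Polynomial.eval₂_C]
    have h4 : kMap π V (R.coeff 0) = Polynomial.eval₂ (kMap π V) g R +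
        g * (-Polynomial.eval₂ (kMap π V) g R.divX) := by
      rw [h5]; ring
    have h6 : Y.basicOpen (kMap π V (R.coeff 0)) = V :=
      Y.basicOpen_of_isUnit ((IsUnit.mk0 _ hR0).map (kMap π V))
    have h7 : p ∈ Y.basicOpen (kMap π V (R.coeff 0)) := by rw [h6]; exact hpV
    rw [h4] at h7
    rcases Y.basicOpen_add_le _ _ h7 with h8 | h8
    · exact h8
    · rw [Y.basicOpen_mul] at h8
      exact absurd h8.1 hg
  -- it meets `U`
  obtain ⟨y, hyU, hyR⟩ := nonempty_preirreducible_inter U.isOpen
    (Y.basicOpen (Polynomial.eval₂ (kMap π V) g R)).isOpen hU ⟨p, hpR⟩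
  have hyV : y ∈ V := Y.basicOpen_le _ hyR
  have hres : rs (inf_le_right : U ⊓ V ≤ V) (Polynomial.eval₂ (kMap π V) g R) =
      Polynomial.eval₂ (kMap π (U ⊓ V)) g' R := by
    rw [Polynomial.hom_eval₂]
    congr 1
    ext c; exact rs_kMap _ _ _
  have hresF : rs (inf_le_left : U ⊓ V ≤ U) (Polynomial.eval₂ (kMap π U) F h) =
      Polynomial.eval₂ (kMap π (U ⊓ V)) F' h := by
    rw [Polynomial.hom_eval₂]
    congr 1
    ext c; exact rs_kMap _ _ _
  have h1 : y ∈ Y.basicOpen (Polynomial.eval₂ (kMap π (U ⊓ V)) F' h) := by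
    rw [← hrev, Y.basicOpen_mul]
    refine ⟨?_, ?_⟩
    · rw [← hres, basicOpen_rs]
      exact ⟨⟨hyU, hyV⟩, hyR⟩
    · have hu : IsUnit (F' ^ h.natDegree) := (isUnit_of_invertible F').pow _
      rw [Y.basicOpen_of_isUnit hu]
      exact ⟨hyU, hyV⟩
  rw [← hresF, basicOpen_rs] at h1
  have h2 : y ∈ (Y.basicOpen (Polynomial.eval₂ (kMap π U) F h) : Set Y) := h1.2
  rw [hemp] at h2
  exact h2

/-- A proper irreducible Noetherian scheme over a field whose non-generic points are closed, with
a function on `U` having poles at all points outside `U ≠ Y`: then `U` is affine. -/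
theorem isAffineOpen_of_hasPoles {k : Type u} [Field k] {Y : Scheme.{u}}
    (π : Y ⟶ Spec (CommRingCat.of k)) [IsProper π] [IrreducibleSpace Y]
    (hcl : ∀ y : Y, y ≠ genericPoint Y → IsClosed ({y} : Set Y)) (U : Y.Opens)
    (hU : (U : Set Y).Nonempty) (F : Γ(Y, U)) (p : Y) (hp : p ∉ U)
    (hF : ∀ p ∉ U, HasPoleAt F p) : IsAffineOpen U := by
  have hYln : IsLocallyNoetherian Y := LocallyOfFiniteType.isLocallyNoetherian π
  have hYc : CompactSpace Y := QuasiCompact.compactSpace_of_compactSpace π
  have hYn : IsNoetherian Y := {}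
  let φ := lineMap π U F
  have hφc : φ ≫ Spec.map (CommRingCat.ofHom Polynomial.C) = U.ι ≫ π := lineMap_comp π U F
  have hqc : QuasiCompact φ := by
    have : QuasiCompact (φ ≫ Spec.map (CommRingCat.ofHom Polynomial.C)) := by
      rw [hφc]; infer_instance
    exact QuasiCompact.of_comp φ (Spec.map (CommRingCat.ofHom Polynomial.C))
  have hft : LocallyOfFiniteType φ := by
    have : LocallyOfFiniteType (φ ≫ Spec.map (CommRingCat.ofHom Polynomial.C)) := by
      rw [hφc]; infer_instance
    exact locallyOfFiniteType_of_comp φ (Spec.map (CommRingCat.ofHom Polynomial.C))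
  have hsep : IsSeparated φ := by
    have : IsSeparated (φ ≫ Spec.map (CommRingCat.ofHom Polynomial.C)) := by
      rw [hφc]; infer_instance
    exact IsSeparated.of_comp φ (Spec.map (CommRingCat.ofHom Polynomial.C))
  have huc : UniversallyClosed φ := UniversallyClosed.of_valuativeCriterion φ (existence π U F hF)
  have hprop : IsProper φ := {}
  -- fibres
  have hgen : ∀ W : Y.Opens, (W : Set Y).Nonempty → genericPoint Y ∈ W := fun W hW =>
    ((genericPoint_spec Y).mem_open_set_iff W.isOpen).mpr (by simpa using hW)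
  let ξ : U.toScheme := ⟨genericPoint Y, hgen U hU⟩
  have hξ : (φ ξ).asIdeal = ⊥ := by
    rw [eq_bot_iff]
    intro h hh
    by_contra hne
    have h1 := genericPoint_mem_basicOpen π U hU F p (hF p hp) h (by simpa using hne)
    exact (mem_lineMap_iff π U F h ξ).mpr (hgen _ h1) hh
  have hUcl : ∀ x : U.toScheme, x ≠ ξ → IsClosed ({x} : Set U.toScheme) := by
    intro x hx
    have h1 : IsClosed ({U.ι x} : Set Y) := hcl _ fun h => hx (Subtype.ext h)
    have h2 := h1.preimage U.ι.continuous
    have h3 : U.ι ⁻¹' {U.ι x} = {x} := by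
      ext y
      simp only [Set.mem_preimage, Set.mem_singleton_iff]
      exact ⟨fun h => U.ι.isOpenEmbedding.injective h, fun h => by rw [h]⟩
    rwa [h3] at h2
  have hUn : NoetherianSpace U.toScheme := U.ι.isOpenEmbedding.isInducing.noetherianSpace
  have hqf : LocallyQuasiFinite φ := by
    apply LocallyQuasiFinite.of_finite_preimage_singleton
    intro c
    by_cases hc : c = φ ξ
    · -- the fibre over the generic point is the generic point
      have hsub : φ ⁻¹' {c} ⊆ {ξ} := by
        intro x hx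
        by_contra hxξ
        have h1 := φ.isClosedMap _ (hUcl x hxξ)
        rw [Set.image_singleton] at h1
        have hx' : φ x = φ ξ := by rw [← hc]; exact hx
        rw [hx'] at h1
        have h2 := (PrimeSpectrum.isClosed_singleton_iff_isMaximal (φ ξ)).mp h1
        rw [hξ] at h2
        exact Polynomial.not_isField k ((Ring.isField_iff_maximal_bot).mpr h2)
      exact (Set.finite_singleton ξ).subset hsub
    · have hcb : c.asIdeal ≠ ⊥ := by
        intro h
        apply hc
        apply PrimeSpectrum.ext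
        rw [h, hξ]
      have hcmax : c.asIdeal.IsMaximal :=
        Ideal.IsPrime.isMaximal c.isPrime hcb
      have hccl : IsClosed ({c} : Set (Spec (CommRingCat.of (Polynomial k)))) :=
        (PrimeSpectrum.isClosed_singleton_iff_isMaximal c).mpr hcmax
      refine finite_of_isClosed_of_closedPoints _ (hccl.preimage φ.continuous) ?_
      intro x hx
      apply hUcl
      rintro rfl
      exact hc hx.symm
  have hfin : IsFinite φ := IsFinite.of_isProper_of_locallyQuasiFinite φ
  have haff : IsAffine U.toScheme := isAffine_of_isAffineHom φ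
  exact haff

end Groth.Agent.VarietyB.PoleAffine
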