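import Groth.Agent.VarietyB.BcChart
import Groth.Agent.Fdesc.GeomRed3
import Groth.Agent.Ega1.ReducedSub
import Groth.Agent.Flat2D.ThickMono
import Mathlib.AlgebraicGeometry.Geometrically.Reduced
import Mathlib.AlgebraicGeometry.Morphisms.UniversallyOpen
import Mathlib.AlgebraicGeometry.Noetherian

/-!
# Geometrically reduced reductions

* `exists_dense_affine`: a scheme locally of finite type over a field with finitely many irreducible
  components receives a morphism with dense image from the spectrum of a finite type algebra.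
* `geometricallyReduced_of_dense`: a reduced locally Noetherian `k'`-scheme receiving a dominant morphism from the
  spectrum of a geometrically reduced `k'`-algebra is geometrically reduced.
-/

set_option autoImplicit false

universe u

open CategoryTheory CategoryTheory.Limits AlgebraicGeometry TensorProduct

namespace Groth.Agent.VarietyB.RedGeomRed

/-- A scheme locally of finite type over a field with finitely many irreducible
components receives a morphism with dense image from the spectrum of a finite type algebra. -/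
theorem exists_dense_affine (k : Type u) [Field k] (X : Scheme.{u})
    [X.Over (Spec (CommRingCat.of k))] [LocallyOfFiniteType (X ↘ (Spec (CommRingCat.of k)))]
    (hirr : (irreducibleComponents (X : Type u)).Finite) :
    ∃ (C : Type u) (_ : CommRing C) (_ : Algebra k C) (_ : Algebra.FiniteType k C)
      (g : Spec (CommRingCat.of C) ⟶ X),
      g ≫ (X ↘ Spec (CommRingCat.of k)) = Spec.map (CommRingCat.ofHom (algebraMap k C)) ∧
      DenseRange g := by
  have : Finite (irreducibleComponents (X : Type u)) := hirr
  have hgen : ∀ Z : irreducibleComponents (X : Type u), ∃ x : X, closure {x} = Z.1 := fun Z ↦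
    ⟨Z.2.1.genericPoint, Z.2.1.closure_genericPoint
      (isClosed_of_mem_irreducibleComponents _ Z.2)⟩
  choose η hη using hgen
  choose A hA hA' i hi p hp hp' using fun Z ↦ BcChart.exists_chart k X (η Z)
  let W : Scheme.{u} := ∐ fun Z ↦ Spec (CommRingCat.of (A Z))
  let g0 : W ⟶ X := Sigma.desc i
  have hW : IsAffine W := inferInstanceAs (IsAffine (∐ fun Z ↦ Spec (CommRingCat.of (A Z))))
  let g : Spec Γ(W, ⊤) ⟶ X := W.isoSpec.inv ≫ g0
  let φ : CommRingCat.of k ⟶ Γ(W, ⊤) := Spec.preimage (g ≫ (X ↘ Spec (CommRingCat.of k)))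
  have hφ : Spec.map φ = g ≫ (X ↘ Spec (CommRingCat.of k)) := Spec.map_preimage _
  have hft0 : LocallyOfFiniteType g0 := IsZariskiLocalAtSource.sigmaDesc fun _ ↦ inferInstance
  have hft : LocallyOfFiniteType (Spec.map φ) := by rw [hφ]; infer_instance
  have hft' : φ.hom.FiniteType := HasRingHomProperty.Spec_iff.mp hft
  refine ⟨Γ(W, ⊤), inferInstance, φ.hom.toAlgebra, hft', g, ?_, ?_⟩
  · exact hφ.symm
  · intro x
    obtain ⟨Z, hZ, hxZ⟩ : ∃ Z ∈ irreducibleComponents (X : Type u), x ∈ Z :=
      ⟨_, irreducibleComponent_mem_irreducibleComponents x, mem_irreducibleComponent⟩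
    have h1 : η ⟨Z, hZ⟩ ∈ Set.range g := by
      refine ⟨W.isoSpec.hom (Sigma.ι (fun Z ↦ Spec (CommRingCat.of (A Z))) ⟨Z, hZ⟩ (p ⟨Z, hZ⟩)), ?_⟩
      rw [← Scheme.Hom.comp_apply, ← Scheme.Hom.comp_apply]
      simp only [g, Iso.hom_inv_id_assoc, g0, Sigma.ι_desc]
      exact hp' _
    have h2 : closure {η ⟨Z, hZ⟩} ⊆ closure (Set.range g) :=
      closure_mono (Set.singleton_subset_iff.mpr h1)
    exact h2 (by rw [hη]; exact hxZ)

/-- A reduced locally Noetherian `k`-scheme receiving a dominant morphism from the
spectrum of a geometrically reduced `k`-algebra is geometrically reduced. -/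
theorem geometricallyReduced_of_dense (k : Type u) [Field k] {Z : Scheme.{u}}
    (f : Z ⟶ Spec (CommRingCat.of k)) [IsReduced Z] [IsLocallyNoetherian Z]
    {B : Type u} [CommRing B] [Algebra k B] [Algebra.IsGeometricallyReduced k B]
    (g : Spec (CommRingCat.of B) ⟶ Z) (hg : g ≫ f = Spec.map (CommRingCat.ofHom (algebraMap k B)))
    [IsDominant g] : GeometricallyReduced f := by
  refine ⟨geometrically_iff_of_commRing_of_isClosedUnderIsomorphisms.mpr fun K _ _ ↦ ?_⟩
  have hqc : QuasiCompact g := inferInstance
  have hsd : IsSchemeTheoreticallyDominant g := .of_isDominant g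
  have hfl : Flat (pullback.fst f (Spec.map (CommRingCat.ofHom (algebraMap k K)))) := inferInstance
  have h1 : IsPullback
      (pullback.fst (pullback.fst f (Spec.map (CommRingCat.ofHom (algebraMap k K)))) g ≫
        pullback.snd f (Spec.map (CommRingCat.ofHom (algebraMap k K))))
      (pullback.snd (pullback.fst f (Spec.map (CommRingCat.ofHom (algebraMap k K)))) g)
      (Spec.map (CommRingCat.ofHom (algebraMap k K))) (g ≫ f) := by
    have ha := IsPullback.of_hasPullback
      (pullback.fst f (Spec.map (CommRingCat.ofHom (algebraMap k K)))) g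
    have hb := IsPullback.of_hasPullback f (Spec.map (CommRingCat.ofHom (algebraMap k K)))
    exact ha.paste_horiz hb.flip
  rw [hg] at h1
  have h2 : IsPullback
      (Spec.map (CommRingCat.ofHom
        (Algebra.TensorProduct.includeRight : K →ₐ[k] B ⊗[k] K).toRingHom))
      (Spec.map (CommRingCat.ofHom (Algebra.TensorProduct.includeLeftRingHom : B →+* B ⊗[k] K)))
      (Spec.map (CommRingCat.ofHom (algebraMap k K)))
      (Spec.map (CommRingCat.ofHom (algebraMap k B))) :=
    (isPullback_SpecMap_of_isPushout _ _ _ _
        (CommRingCat.isPushout_tensorProduct k B K)).flip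
  have h3 : _root_.IsReduced (K ⊗[k] B) :=
    Fdesc.GeomRed.isReduced_tensor_of_isGeometricallyReduced B K
  have h4 : _root_.IsReduced (B ⊗[k] K) :=
    isReduced_of_injective _ (Algebra.TensorProduct.comm k B K).injective
  have h5 : IsReduced (Spec (CommRingCat.of (B ⊗[k] K))) := inferInstance
  let e := h1.isoIsPullback _ _ h2
  have h6 : IsReduced (pullback (pullback.fst f
      (Spec.map (CommRingCat.ofHom (algebraMap k K)))) g) :=
    isReduced_of_isOpenImmersion e.hom
  exact IsSchemeTheoreticallyDominant.isReduced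
    (pullback.fst (pullback.fst f (Spec.map (CommRingCat.ofHom (algebraMap k K)))) g)

/-- Stacks 04KT. -/
theorem exists_purelyInseparable_geometricallyReduced (k : Type u) [Field k] (X : Scheme.{u})
    [X.Over (Spec (CommRingCat.of k))] [LocallyOfFiniteType (X ↘ (Spec (CommRingCat.of k)))]
    (hirr : (irreducibleComponents (X : Type u)).Finite) :
    ∃ (k' : Type u) (_ : Field k') (_ : Algebra k k'), FiniteDimensional k k' ∧
      IsPurelyInseparable k k' ∧
      GeometricallyReduced ((Curv2.bc k X k').nilradical.subschemeι ≫ Curv2.bcSnd k X k') := by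
  obtain ⟨C, _, _, _, g, hg, hd⟩ := exists_dense_affine k X hirr
  obtain ⟨k', _, _, _, _, hfd, hgr⟩ :=
    Fdesc.GeomRed.exists_isGeometricallyReduced_quotient_nilradical
      (k := k) (perfectClosure k (AlgebraicClosure k)) C
  refine ⟨k', inferInstance, inferInstance, hfd,
    IsPurelyInseparable.tower_bot k k' (perfectClosure k (AlgebraicClosure k)), ?_⟩
  let Y := Curv2.bc k X k'
  have hnoeth : IsLocallyNoetherian Y :=
    LocallyOfFiniteType.isLocallyNoetherian (Curv2.bcSnd k X k')
  have hZred : IsReduced Y.nilradical.subscheme :=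
    Ega1.ReducedSub.isReduced_subscheme_radical ⊥
  have hZn : IsLocallyNoetherian Y.nilradical.subscheme :=
    LocallyOfFiniteType.isLocallyNoetherian (Y.nilradical.subschemeι)
  have hsurj : Surjective Y.nilradical.subschemeι := by
    refine ⟨Set.range_eq_univ.mp ?_⟩
    rw [Scheme.IdealSheafData.range_subschemeι, Scheme.support_nilradical]
    rfl
  -- the quotient map
  let q1 : C ⊗[k] k' →+* (k' ⊗[k] C) ⧸ nilradical (k' ⊗[k] C) :=
    (Ideal.Quotient.mk _).comp (Algebra.TensorProduct.comm k C k').toAlgHom.toRingHom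
  let g1 : Spec (CommRingCat.of ((k' ⊗[k] C) ⧸ nilradical (k' ⊗[k] C))) ⟶ Y :=
    Spec.map (CommRingCat.ofHom q1) ≫ BcChart.chart k X k' g hg
  have hBr : _root_.IsReduced ((k' ⊗[k] C) ⧸ nilradical (k' ⊗[k] C)) :=
    Algebra.isReduced_of_isGeometricallyReduced k'
  have hBr' : IsReduced
      (Spec (CommRingCat.of ((k' ⊗[k] C) ⧸ nilradical (k' ⊗[k] C)))) := inferInstance
  obtain ⟨g2, hg2⟩ := Flat2D.ThickMono.exists_lift_of_isReduced Y.nilradical.subschemeι g1
  have hg3 : g2 ≫ (Y.nilradical.subschemeι ≫ Curv2.bcSnd k X k') =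
      Spec.map (CommRingCat.ofHom
        (algebraMap k' ((k' ⊗[k] C) ⧸ nilradical (k' ⊗[k] C)))) := by
    rw [← Category.assoc, hg2]
    simp only [g1, Category.assoc, BcChart.chart_snd]
    rw [← Spec.map_comp]
    rfl
  -- density of the image of `g1`
  have hopen : IsOpenMap (Curv2.bcFst k X k') := by
    have h1 : LocallyOfFinitePresentation (Spec.map (CommRingCat.ofHom (algebraMap k k'))) := by
      rw [HasRingHomProperty.Spec_iff (P := @LocallyOfFinitePresentation)]
      exact RingHom.finitePresentation_algebraMap.mpr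
        (Algebra.FinitePresentation.of_finiteType.mp inferInstance)
    exact (Curv2.bcFst k X k').isOpenMap
  have hd1 : DenseRange g1 := by
    have h1 : Dense ((Curv2.bcFst k X k') ⁻¹' (Set.range g)) := Dense.preimage hd hopen
    refine h1.mono ?_
    rintro y ⟨c, hc⟩
    obtain ⟨t, ht, -⟩ := BcChart.exists_chart_eq k X k' g hg y c hc
    have h2 : Surjective (Spec.map (CommRingCat.ofHom q1)) := by
      have hq1 : Function.Surjective q1 := Ideal.Quotient.mk_surjective.comp
        (Algebra.TensorProduct.comm k C k').surjective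
      refine ⟨Set.range_eq_univ.mp ?_⟩
      change Set.range (PrimeSpectrum.comap q1) = Set.univ
      rw [range_comap_of_surjective _ _ hq1, PrimeSpectrum.zeroLocus_eq_univ_iff]
      intro z hz
      have hz' : (Algebra.TensorProduct.comm k C k') z ∈ nilradical (k' ⊗[k] C) :=
        Ideal.Quotient.eq_zero_iff_mem.mp hz
      have h3 := IsNilpotent.map (mem_nilradical.mp hz') (Algebra.TensorProduct.comm k C k').symm
      rw [AlgEquiv.symm_apply_apply] at h3
      exact mem_nilradical.mpr h3
    obtain ⟨b, hb⟩ := h2.surj t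
    exact ⟨b, by rw [← ht, ← hb]; rfl⟩
  have hd2 : IsDominant g2 := by
    refine ⟨?_⟩
    have h1 : Topology.IsInducing Y.nilradical.subschemeι :=
      (Y.nilradical.subschemeι).isClosedEmbedding.isInducing
    rw [DenseRange, h1.dense_iff]
    intro x
    have h2 : Y.nilradical.subschemeι '' Set.range g2 = Set.range g1 := by
      rw [← hg2, ← Set.range_comp]; rfl
    rw [h2]
    exact hd1 _
  exact geometricallyReduced_of_dense k' _ g2 hg3

end Groth.Agent.VarietyB.RedGeomRed
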