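import Mathlib.FieldTheory.SeparableClosure
import Mathlib.RingTheory.Adjoin.Polynomial.Basic
import Mathlib.RingTheory.PrincipalIdealDomain

/-!
# Separable elements in a ring without nontrivial idempotents

Let `k` be a field and `A` a commutative `k`-algebra with no nontrivial idempotents. The elements of `A` which
are separable over `k` form a field `sepSub k A`, separable algebraic over `k`, and an element of `A` which is
separable over `sepSub k A` belongs to `sepSub k A`.
-/

set_option autoImplicit false

universe u v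

open Polynomial

namespace Groth.Agent.VarietyB.SepInRing

section basic

variable {F : Type*} [Field F] {A : Type*} [CommRing A] [Algebra F A]

/-- An element killed by a separable polynomial is separable. -/
theorem isSeparable_of_aeval_eq_zero {a : A} {f : F[X]} (hf : f.Separable) (h : aeval a f = 0) :
    IsSeparable F a :=
  hf.of_dvd (minpoly.dvd F a h)

/-- In a ring without nontrivial idempotents the minimal polynomial of a separable element is irreducible. -/
theorem irreducible_minpoly [Nontrivial A] (hA : ∀ e : A, e * e = e → e = 0 ∨ e = 1) {a : A}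
    (ha : IsSeparable F a) : Irreducible (minpoly F a) := by
  have hint := ha.isIntegral
  refine ⟨minpoly.not_isUnit F a, ?_⟩
  intro g h hgh
  have h0 : minpoly F a ≠ 0 := minpoly.ne_zero hint
  have hg0 : g ≠ 0 := by rintro rfl; simp at hgh; exact h0 hgh
  have hh0 : h ≠ 0 := by rintro rfl; simp at hgh; exact h0 hgh
  have hco : IsCoprime g h := by
    have h1 : (g * h).Separable := by rw [← hgh]; exact ha
    exact h1.isCoprime
  have hroot : aeval a g * aeval a h = 0 := by
    rw [← map_mul, ← hgh, minpoly.aeval]
  have key : ∀ g h : F[X], g ≠ 0 → minpoly F a = g * h → aeval a g = 0 → IsUnit h := by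
    intro g h hg0 hgh hg
    have h1 := minpoly.dvd F a hg
    rw [hgh] at h1
    exact isUnit_of_dvd_one ((mul_dvd_mul_iff_left hg0).mp (by simpa using h1))
  obtain ⟨u, v, huv⟩ := hco
  have huv' : aeval a u * aeval a g + aeval a v * aeval a h = 1 := by
    rw [← map_mul, ← map_mul, ← map_add, huv, map_one]
  rcases hA (aeval a u * aeval a g) (by
    have : aeval a u * aeval a g * (aeval a v * aeval a h) = 0 := by
      calc _ = aeval a u * aeval a v * (aeval a g * aeval a h) := by ring
        _ = 0 := by rw [hroot, mul_zero]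
    calc aeval a u * aeval a g * (aeval a u * aeval a g)
        = aeval a u * aeval a g * (aeval a u * aeval a g + aeval a v * aeval a h)
          - aeval a u * aeval a g * (aeval a v * aeval a h) := by ring
      _ = _ := by rw [huv', this]; ring) with h1 | h1
  · right
    refine key g h hg0 hgh ?_
    rw [h1, zero_add] at huv'
    calc aeval a g = (aeval a v) * (aeval a g * aeval a h) := by
          rw [mul_left_comm, huv', mul_one]
      _ = 0 := by rw [hroot, mul_zero]
  · left
    refine key h g hh0 (by rw [hgh, mul_comm]) ?_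
    calc aeval a h = (aeval a u * aeval a g) * aeval a h := by rw [h1, one_mul]
      _ = 0 := by rw [mul_assoc, hroot, mul_zero]

/-- In a ring without nontrivial idempotents, a separable element generates a separable field extension. -/
theorem exists_field_adjoin {F : Type*} [Field F] {A : Type*} [CommRing A] [Algebra F A] [Nontrivial A]
    (hA : ∀ e : A, e * e = e → e = 0 ∨ e = 1) {a : A} (ha : IsSeparable F a)
    (hF : Fact (Irreducible (minpoly F a))) :
    Algebra.IsSeparable F (AdjoinRoot (minpoly F a)) ∧ 
    ∃ φ : AdjoinRoot (minpoly F a) →ₐ[F] A, Function.Injective φ ∧ φ (AdjoinRoot.root _) = a := by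
  have hroot : IsSeparable F (AdjoinRoot.root (minpoly F a)) :=
    isSeparable_of_aeval_eq_zero ha (by rw [AdjoinRoot.aeval_eq, AdjoinRoot.mk_self])
  constructor
  · have h1 : Algebra.IsSeparable F
        (IntermediateField.adjoin F {AdjoinRoot.root (minpoly F a)}) :=
      (IntermediateField.isSeparable_adjoin_simple_iff_isSeparable F _).mpr hroot
    refine ⟨fun x => IntermediateField.isSeparable_of_mem_isSeparable F _
      (L := IntermediateField.adjoin F {AdjoinRoot.root (minpoly F a)}) ?_⟩
    rw [IntermediateField.adjoin_root_eq_top]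
    trivial
  · refine ⟨AdjoinRoot.liftAlgHom _ (Algebra.ofId F A) a (minpoly.aeval F a), 
      RingHom.injective _, ?_⟩
    rw [AdjoinRoot.liftAlgHom_root]

end basic

section tower

variable {k F : Type*} [Field k] [Field F] {A : Type*} [CommRing A] [Algebra k F] [Algebra F A]
  [Algebra k A] [IsScalarTower k F A]

/-- Transitivity of separability for elements of a ring without nontrivial idempotents. -/
theorem isSeparable_trans [Nontrivial A] (hA : ∀ e : A, e * e = e → e = 0 ∨ e = 1)
    [Algebra.IsSeparable k F] {a : A}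
    (ha : IsSeparable F a) {y : A} (hy : y ∈ Algebra.adjoin F {a}) : IsSeparable k y := by
  have hF : Fact (Irreducible (minpoly F a)) := ⟨irreducible_minpoly hA ha⟩
  obtain ⟨h1, φ, hφ, hφa⟩ := exists_field_adjoin hA ha hF
  have h2 : Algebra.IsSeparable k (AdjoinRoot (minpoly F a)) :=
    Algebra.IsSeparable.trans k F _
  obtain ⟨g, rfl⟩ := (Algebra.adjoin_singleton_eq_range_aeval F a ▸ hy : y ∈ (aeval a).range)
  have h3 : (φ.restrictScalars k) (aeval (AdjoinRoot.root _) g) = aeval a g := by
    rw [AlgHom.restrictScalars_apply, ← Polynomial.aeval_algHom_apply, hφa]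
  have h4 := (Algebra.IsSeparable.isSeparable k (aeval (AdjoinRoot.root (minpoly F a)) g)).map
    (φ.restrictScalars k) hφ
  rw [h3] at h4
  exact h4

end tower

section sepSub

variable (k : Type*) [Field k] (A : Type*) [CommRing A] [Algebra k A] [Nontrivial A]
  (hA : ∀ e : A, e * e = e → e = 0 ∨ e = 1)

include hA

variable {k A}

theorem isSeparable_of_pair {a b : A} (ha : IsSeparable k a) (hb : IsSeparable k b) :
    IsSeparable k (a + b) ∧ IsSeparable k (a * b) := by
  have hF : Fact (Irreducible (minpoly k a)) := ⟨irreducible_minpoly hA ha⟩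
  obtain ⟨h1, φ, hφ, hφa⟩ := exists_field_adjoin hA ha hF
  let _ : Algebra (AdjoinRoot (minpoly k a)) A := φ.toRingHom.toAlgebra
  have _ : IsScalarTower k (AdjoinRoot (minpoly k a)) A :=
    IsScalarTower.of_algebraMap_eq fun x => (φ.commutes x).symm
  have h2 : IsSeparable (AdjoinRoot (minpoly k a)) b := hb.tower_top _
  have hb' : b ∈ Algebra.adjoin (AdjoinRoot (minpoly k a)) {b} :=
    Algebra.self_mem_adjoin_singleton _ b
  have ha' : a ∈ Algebra.adjoin (AdjoinRoot (minpoly k a)) {b} := by
    have := (Algebra.adjoin (AdjoinRoot (minpoly k a)) {b}).algebraMap_mem (AdjoinRoot.root _)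
    have h3 : algebraMap (AdjoinRoot (minpoly k a)) A (AdjoinRoot.root _) = a := hφa
    rwa [h3] at this
  exact ⟨isSeparable_trans (k := k) hA h2 (add_mem ha' hb'),
    isSeparable_trans (k := k) hA h2 (mul_mem ha' hb')⟩

variable (k A)

/-- The elements of `A` separable over `k`. -/
def sepSub : Subalgebra k A where
  carrier := {a | IsSeparable k a}
  mul_mem' ha hb := (isSeparable_of_pair hA ha hb).2
  add_mem' ha hb := (isSeparable_of_pair hA ha hb).1
  algebraMap_mem' c := isSeparable_algebraMap c

theorem mem_sepSub {a : A} : a ∈ sepSub k A hA ↔ IsSeparable k a := Iff.rfl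

theorem isField_sepSub : IsField (sepSub k A hA) := by
  refine ⟨exists_pair_ne _, mul_comm, ?_⟩
  rintro ⟨y, hy⟩ hy0
  have hy' : IsSeparable k y := hy
  have hF : Fact (Irreducible (minpoly k y)) := ⟨irreducible_minpoly hA hy'⟩
  obtain ⟨h1, φ, hφ, hφa⟩ := exists_field_adjoin hA hy' hF
  have hr : AdjoinRoot.root (minpoly k y) ≠ 0 := by
    intro h0
    rw [h0, map_zero] at hφa
    exact hy0 (Subtype.ext hφa.symm)
  obtain ⟨z, hz⟩ : ∃ z, AdjoinRoot.root (minpoly k y) * z = 1 := ⟨_, mul_inv_cancel₀ hr⟩
  refine ⟨⟨φ z, (Algebra.IsSeparable.isSeparable k _).map φ hφ⟩, Subtype.ext ?_⟩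
  change y * φ z = 1
  have : φ (AdjoinRoot.root _) * φ z = 1 := by rw [← map_mul, hz, map_one]
  rwa [hφa] at this

end sepSub

/-- Existence of the separable closure of `k` in a `k`-algebra `A` without nontrivial idempotents: a field `L`
separable algebraic over `k` with a `k`-embedding into `A`, such that every element of `A` killed by a separable
polynomial over `L` lies in `L`. -/
theorem exists_sepClosure_in {k : Type u} [Field k] {A : Type v} [CommRing A] [Algebra k A]
    [Nontrivial A] (hA : ∀ e : A, e * e = e → e = 0 ∨ e = 1) :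
    ∃ (L : Type v) (_ : Field L) (_ : Algebra k L) (φ : L →ₐ[k] A), Algebra.IsSeparable k L ∧
      ∀ (a : A) (f : L[X]), f.Separable → eval₂ (φ : L →+* A) a f = 0 → ∃ x, φ x = a := by
  have : Nontrivial (sepSub k A hA) := inferInstance
  obtain ⟨m, hm⟩ := Ideal.exists_maximal (sepSub k A hA)
  have hm0 : m = ⊥ := by
    by_contra h
    obtain ⟨x, hx, hx0⟩ := Submodule.exists_mem_ne_zero_of_ne_bot h
    obtain ⟨y, hy⟩ := (isField_sepSub k A hA).mul_inv_cancel hx0
    exact hm.ne_top ((Ideal.eq_top_iff_one _).mpr (hy ▸ m.mul_mem_right y hx))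
  let _ : Field (sepSub k A hA ⧸ m) := Ideal.Quotient.field m
  have hbij : Function.Bijective (Ideal.Quotient.mkₐ k m) := by
    refine ⟨?_, Ideal.Quotient.mkₐ_surjective k m⟩
    rw [← AlgHom.coe_toRingHom, RingHom.injective_iff_ker_eq_bot]
    erw [Ideal.Quotient.mkₐ_ker]
    exact hm0
  let e := AlgEquiv.ofBijective (Ideal.Quotient.mkₐ k m) hbij
  let φ : (sepSub k A hA ⧸ m) →ₐ[k] A := (sepSub k A hA).val.comp e.symm.toAlgHom
  have hφ : Function.Injective φ := Subtype.val_injective.comp e.symm.injective
  have hsep : Algebra.IsSeparable k (sepSub k A hA ⧸ m) := by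
    refine ⟨fun x => ?_⟩
    rw [← isSeparable_map_iff φ hφ]
    exact (e.symm x).2
  refine ⟨sepSub k A hA ⧸ m, inferInstance, inferInstance, φ, hsep, ?_⟩
  intro a f hf h
  let _ : Algebra (sepSub k A hA ⧸ m) A := φ.toRingHom.toAlgebra
  have _ : IsScalarTower k (sepSub k A hA ⧸ m) A :=
    IsScalarTower.of_algebraMap_eq fun x => (φ.commutes x).symm
  have h1 : IsSeparable (sepSub k A hA ⧸ m) a := isSeparable_of_aeval_eq_zero hf h
  have h2 : IsSeparable k a :=
    isSeparable_trans (k := k) hA h1 (Algebra.self_mem_adjoin_singleton _ a)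
  refine ⟨e ⟨a, h2⟩, ?_⟩
  change ((e.symm (e ⟨a, h2⟩) : sepSub k A hA) : A) = a
  rw [AlgEquiv.symm_apply_apply]

end Groth.Agent.VarietyB.SepInRing
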