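import Mathlib.FieldTheory.Galois.GaloisClosure
import Mathlib.RingTheory.Trace.Basic
import Mathlib.RingTheory.Flat.Basic
import Groth.Agent.VarietyB.SepInRing

/-!
# Coefficients of idempotents are separable

Let `M / L` be a Galois extension (possibly infinite), `R` a commutative `L`-algebra, `e ∈ R ⊗[L] M` an
idempotent and `φ : M → L` an `L`-linear functional. Then `(id ⊗ φ)(e) ∈ R` is separable over `L`.
-/

set_option autoImplicit false

open Polynomial TensorProduct

namespace Groth.Agent.VarietyB.IdemCoeff

open Groth.Agent.VarietyB.SepInRing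

/-- A linear combination of commuting idempotents is killed by a product of distinct linear factors. -/
theorem exists_finset_prod_eq_zero {M B ι : Type*} [Field M] [CommRing B] [Algebra M B] [DecidableEq M]
    (s : Finset ι) (m : ι → M) (e : ι → B) (he : ∀ i ∈ s, e i * e i = e i) :
    ∃ V : Finset M, ∏ v ∈ V, ((∑ i ∈ s, algebraMap M B (m i) * e i) - algebraMap M B v) = 0 := by
  classical
  induction s using Finset.induction_on with
  | empty => exact ⟨{0}, by simp⟩
  | insert i s his ih =>
    obtain ⟨V, hV⟩ := ih fun j hj => he j (Finset.mem_insert_of_mem hj)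
    set b := ∑ i ∈ s, algebraMap M B (m i) * e i with hb
    have hei := he i (Finset.mem_insert_self i s)
    refine ⟨V ∪ V.image (fun v => v + m i), ?_⟩
    rw [Finset.sum_insert his, ← hb]
    set P := ∏ v ∈ V ∪ V.image (fun v => v + m i),
      ((algebraMap M B (m i) * e i + b) - algebraMap M B v) with hP
    have key : ∀ (c : B) (f : M → B) (W : Finset M) (g : M → B), c * c = c →
        (∀ v, c * f v = c * g v) → c * ∏ v ∈ W, f v = c * ∏ v ∈ W, g v := by
      intro c f W g hc hfg
      induction W using Finset.induction_on with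
      | empty => simp
      | insert w W hw ih =>
        rw [Finset.prod_insert hw, Finset.prod_insert hw]
        calc c * (f w * ∏ v ∈ W, f v) = f w * (c * ∏ v ∈ W, f v) := by ring
          _ = f w * (c * ∏ v ∈ W, g v) := by rw [ih]
          _ = (c * f w) * ∏ v ∈ W, g v := by ring
          _ = (c * g w) * ∏ v ∈ W, g v := by rw [hfg]
          _ = _ := by ring
    have h1 : e i * P = 0 := by
      rw [hP, key (e i) _ _ (fun v => (algebraMap M B (m i) + b) - algebraMap M B v) hei
        (fun v => by
          have : e i * (algebraMap M B (m i) * e i) = e i * algebraMap M B (m i) := by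
            rw [mul_left_comm, hei, mul_comm]
          rw [mul_sub, mul_sub, mul_add, mul_add, this])]
      have h2 : (∏ v ∈ V.image (fun v => v + m i), ((algebraMap M B (m i) + b) - algebraMap M B v)) = 0 := by
        rw [Finset.prod_image (fun _ _ _ _ h => add_right_cancel h)]
        rw [← hV]
        refine Finset.prod_congr rfl fun v _ => ?_
        rw [map_add]
        ring
      rw [← Finset.prod_sdiff (Finset.subset_union_right (s₁ := V)), h2, mul_zero, mul_zero]
    have h2 : (1 - e i) * P = 0 := by
      have hei' : (1 - e i) * (1 - e i) = 1 - e i := by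
        calc (1 - e i) * (1 - e i) = 1 - 2 * e i + e i * e i := by ring
          _ = _ := by rw [hei]; ring
      rw [hP, key (1 - e i) _ _ (fun v => b - algebraMap M B v) hei'
        (fun v => by
          have : (1 - e i) * (algebraMap M B (m i) * e i) = 0 := by
            calc _ = algebraMap M B (m i) * e i - algebraMap M B (m i) * (e i * e i) := by ring
              _ = 0 := by rw [hei, sub_self]
          rw [mul_sub, mul_sub, mul_add, this, zero_add])]
      rw [← Finset.prod_sdiff (Finset.subset_union_left (s₂ := V.image (fun v => v + m i))), hV,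
        mul_zero, mul_zero]
    calc P = e i * P + (1 - e i) * P := by ring
      _ = 0 := by rw [h1, h2, add_zero]

variable {L : Type*} [Field L] {M : Type*} [Field M] [Algebra L M]

/-- The product of the distinct minimal polynomials of a finite set of separable elements is separable. -/
theorem separable_prod_minpoly [DecidableEq L[X]] [Algebra.IsSeparable L M] (V : Finset M) :
    (∏ f ∈ V.image (minpoly L), f).Separable := by
  refine separable_prod' (f := fun f : L[X] => f) ?_ ?_
  · intro f hf g hg hfg
    rw [Finset.mem_image] at hf hg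
    obtain ⟨v, -, rfl⟩ := hf
    obtain ⟨w, -, rfl⟩ := hg
    have hv := minpoly.irreducible (Algebra.IsSeparable.isIntegral L v)
    have hw := minpoly.irreducible (Algebra.IsSeparable.isIntegral L w)
    rw [hv.coprime_iff_not_dvd]
    intro hdvd
    exact hfg (eq_of_monic_of_associated (minpoly.monic (Algebra.IsSeparable.isIntegral L v))
      (minpoly.monic (Algebra.IsSeparable.isIntegral L w))
      ((hv.dvd_irreducible_iff_associated hw).mp hdvd))
  · intro f hf
    rw [Finset.mem_image] at hf
    obtain ⟨v, -, rfl⟩ := hf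
    exact Algebra.IsSeparable.isSeparable L v

theorem aeval_prod_minpoly_eq_zero {B : Type*} [CommRing B] [Algebra L B] [Algebra M B]
    [IsScalarTower L M B] [DecidableEq L[X]] (V : Finset M) {x : B}
    (h : ∏ v ∈ V, (x - algebraMap M B v) = 0) :
    aeval x (∏ f ∈ V.image (minpoly L), f) = 0 := by
  rw [← aeval_map_algebraMap M]
  have hdvd : (∏ v ∈ V, (X - C v)) ∣ (∏ f ∈ V.image (minpoly L), f).map (algebraMap L M) := by
    refine Finset.prod_dvd_of_coprime ?_ ?_
    · intro v _ w _ hvw
      exact isCoprime_X_sub_C_of_isUnit_sub (sub_ne_zero.mpr hvw).isUnit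
    · intro v hv
      rw [dvd_iff_isRoot, IsRoot.def, eval_map_algebraMap, map_prod]
      exact Finset.prod_eq_zero (Finset.mem_image_of_mem _ hv) (minpoly.aeval L v)
  obtain ⟨Q, hQ⟩ := hdvd
  rw [hQ, map_mul, map_prod]
  simp only [map_sub, aeval_X, aeval_C]
  rw [h, zero_mul]

attribute [local instance] Algebra.TensorProduct.rightAlgebra

variable {R : Type*} [CommRing R] [Algebra L R]

/-- An element of `R` which becomes a root of a product of distinct linear factors over a separable extension
`M` of `L` is separable over `L`. -/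
theorem isSeparable_of_prod_eq_zero [Algebra.IsSeparable L M] {r : R} (V : Finset M)
    (h : ∏ v ∈ V, ((r ⊗ₜ 1 : R ⊗[L] M) - algebraMap M (R ⊗[L] M) v) = 0) : IsSeparable L r := by
  classical
  refine isSeparable_of_aeval_eq_zero (separable_prod_minpoly V) ?_
  have hinj : Function.Injective (Algebra.TensorProduct.includeLeft : R →ₐ[L] R ⊗[L] M) :=
    Algebra.TensorProduct.includeLeft_injective (algebraMap L M).injective
  apply hinj
  rw [map_zero, ← aeval_algHom_apply]
  exact aeval_prod_minpoly_eq_zero V h

theorem coeff_eq_sum [FiniteDimensional L M] [IsGalois L M] (c : M) (φ : M →ₗ[L] L)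
    (hφ : ∀ x, φ x = Algebra.trace L M (c * x)) (e : R ⊗[L] M) :
    ((TensorProduct.rid L R (φ.lTensor R e)) ⊗ₜ 1 : R ⊗[L] M) =
      ∑ σ : M ≃ₐ[L] M, algebraMap M (R ⊗[L] M) (σ c) *
        Algebra.TensorProduct.map (AlgHom.id L R) (σ : M →ₐ[L] M) e := by
  induction e with
  | zero => simp
  | tmul r x =>
    rw [LinearMap.lTensor_tmul, TensorProduct.rid_tmul, TensorProduct.smul_tmul,
      ← Algebra.algebraMap_eq_smul_one, hφ, trace_eq_sum_automorphisms, TensorProduct.tmul_sum]
    refine Finset.sum_congr rfl fun σ _ => ?_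
    rw [Algebra.TensorProduct.right_algebraMap_apply]
    simp
  | add x y hx hy =>
    rw [map_add, map_add, TensorProduct.add_tmul, hx, hy, ← Finset.sum_add_distrib]
    refine Finset.sum_congr rfl fun σ _ => ?_
    rw [map_add, mul_add]

/-- The key lemma in the finite case. -/
theorem isSeparable_coeff_of_finite [FiniteDimensional L M] [IsGalois L M] (e : R ⊗[L] M)
    (he : e * e = e) (φ : M →ₗ[L] L) : IsSeparable L (TensorProduct.rid L R (φ.lTensor R e)) := by
  classical
  obtain ⟨c, hc⟩ : ∃ c : M, ∀ x, φ x = Algebra.trace L M (c * x) := by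
    obtain ⟨c, hc⟩ := ((Algebra.traceForm L M).toDual (traceForm_nondegenerate L M)).surjective φ
    exact ⟨c, fun x => by rw [← hc]; rfl⟩
  obtain ⟨V, hV⟩ := exists_finset_prod_eq_zero (M := M) (B := R ⊗[L] M) (Finset.univ)
    (fun σ : M ≃ₐ[L] M => σ c)
    (fun σ : M ≃ₐ[L] M => Algebra.TensorProduct.map (AlgHom.id L R) (σ : M →ₐ[L] M) e)
    (fun σ _ => by rw [← map_mul, he])
  rw [← coeff_eq_sum c φ hc] at hV
  exact isSeparable_of_prod_eq_zero V hV

/-- Any element of `R ⊗[L] M` comes from a finite Galois subextension. -/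
theorem exists_finite_level [IsGalois L M] (e : R ⊗[L] M) :
    ∃ (N : FiniteGaloisIntermediateField L M) (e' : R ⊗[L] N),
      Algebra.TensorProduct.map (AlgHom.id L R) (N.toIntermediateField.val) e' = e := by
  induction e with
  | zero => exact ⟨⊥, 0, map_zero _⟩
  | tmul r x =>
    refine ⟨FiniteGaloisIntermediateField.adjoin L {x}, r ⊗ₜ ⟨x,
      FiniteGaloisIntermediateField.subset_adjoin L {x} rfl⟩, ?_⟩
    exact Algebra.TensorProduct.map_tmul _ _ _ _
  | add x y hx hy =>
    obtain ⟨N₁, e₁, h₁⟩ := hx
    obtain ⟨N₂, e₂, h₂⟩ := hy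
    have l1 : N₁.toIntermediateField ≤ (N₁ ⊔ N₂).toIntermediateField :=
      (le_sup_left : N₁ ≤ N₁ ⊔ N₂)
    have l2 : N₂.toIntermediateField ≤ (N₁ ⊔ N₂).toIntermediateField :=
      (le_sup_right : N₂ ≤ N₁ ⊔ N₂)
    refine ⟨N₁ ⊔ N₂, Algebra.TensorProduct.map (AlgHom.id L R) (IntermediateField.inclusion l1) e₁ +
      Algebra.TensorProduct.map (AlgHom.id L R) (IntermediateField.inclusion l2) e₂, ?_⟩
    rw [map_add, ← h₁, ← h₂]
    congr 1
    · rw [← AlgHom.comp_apply, ← Algebra.TensorProduct.map_comp]
      rfl
    · rw [← AlgHom.comp_apply, ← Algebra.TensorProduct.map_comp]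
      rfl

/-- Coefficients of idempotents are separable. -/
theorem isSeparable_coeff [IsGalois L M] (e : R ⊗[L] M)
    (he : e * e = e) (φ : M →ₗ[L] L) : IsSeparable L (TensorProduct.rid L R (φ.lTensor R e)) := by
  obtain ⟨N, e', rfl⟩ := exists_finite_level e
  have hinj : Function.Injective (Algebra.TensorProduct.map (AlgHom.id L R)
      (N.toIntermediateField.val)) := by
    have := Module.Flat.lTensor_preserves_injective_linearMap (M := R)
      (N.toIntermediateField.val.toLinearMap) Subtype.val_injective
    exact this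
  have he' : e' * e' = e' := hinj (by rw [map_mul, he])
  have := isSeparable_coeff_of_finite e' he' (φ ∘ₗ N.toIntermediateField.val.toLinearMap)
  rw [LinearMap.lTensor_comp] at this
  exact this

end Groth.Agent.VarietyB.IdemCoeff
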