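import Mathlib.AlgebraicGeometry.Morphisms.QuasiCompact
import Mathlib.AlgebraicGeometry.AffineScheme
import Groth.Agent.VarietyB.SepInRing

/-!
# Sections which are locally separable over a field

* `exists_glue_affine`: compatible sections over the affine opens glue.
* `exists_separable_aeval_eq_zero`: on a connected scheme, a global section which is separable over the field `L`
  on each affine open is killed by a separable polynomial.
-/

set_option autoImplicit false

universe u v

open CategoryTheory CategoryTheory.Limits AlgebraicGeometry Polynomial Opposite TopologicalSpace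

namespace Groth.Agent.VarietyB.SepSection

variable {X : Scheme.{u}}

/-- The restriction of a global section to an open. -/
noncomputable abbrev resTop (U : X.Opens) : Γ(X, ⊤) →+* Γ(X, U) :=
  (X.presheaf.map (homOfLE le_top).op).hom

/-- The restriction of a section to a smaller open. -/
noncomputable abbrev res {U V : X.Opens} (h : V ≤ U) : Γ(X, U) →+* Γ(X, V) :=
  (X.presheaf.map (homOfLE h).op).hom

theorem res_res {U V W : X.Opens} (h : V ≤ U) (h' : W ≤ V) (s : Γ(X, U)) :
    res h' (res h s) = res (h'.trans h) s := by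
  simp only [res]
  rw [← CommRingCat.comp_apply, ← Functor.map_comp]
  rfl

/-- Two sections over an open are equal if they agree on all affine opens inside. -/
theorem eq_of_res_affine_eq {V : X.Opens} (s t : Γ(X, V))
    (h : ∀ (U : X.Opens) (hU : IsAffineOpen U) (hUV : U ≤ V), res hUV s = res hUV t) : s = t := by
  refine X.sheaf.eq_of_locally_eq' (ι := {U : X.affineOpens // (U : X.Opens) ≤ V})
    (fun U => (U.1 : X.Opens)) V (fun U => homOfLE U.2) ?_ s t (fun U => h _ U.1.2 U.2)
  intro x hx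
  obtain ⟨_, ⟨U, hU, rfl⟩, hxU, hUV⟩ := X.isBasis_affineOpens.exists_subset_of_mem_open hx V.isOpen
  exact Opens.mem_iSup.mpr ⟨⟨⟨U, hU⟩, hUV⟩, hxU⟩

/-- Compatible sections over the affine opens glue. -/
theorem exists_glue_affine (a : ∀ U : X.Opens, IsAffineOpen U → Γ(X, U))
    (ha : ∀ (U V : X.Opens) (hU : IsAffineOpen U) (hV : IsAffineOpen V) (h : V ≤ U),
      res h (a U hU) = a V hV) :
    ∃ s : Γ(X, ⊤), ∀ (U : X.Opens) (hU : IsAffineOpen U), resTop U s = a U hU := by
  have hcov : (⊤ : X.Opens) ≤ iSup (fun U : X.affineOpens => (U : X.Opens)) := by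
    intro x _
    obtain ⟨_, ⟨U, hU, rfl⟩, hxU, -⟩ := X.isBasis_affineOpens.exists_subset_of_mem_open
      (Set.mem_univ x) isOpen_univ
    exact Opens.mem_iSup.mpr ⟨⟨U, hU⟩, hxU⟩
  have hcomp : TopCat.Presheaf.IsCompatible X.sheaf.1 (fun U : X.affineOpens => (U : X.Opens))
      (fun U => a U.1 U.2) := by
    intro U V
    refine eq_of_res_affine_eq (X := X) (V := (U : X.Opens) ⊓ (V : X.Opens)) _ _ ?_
    intro W hW hWUV
    have h1 := ha U.1 W U.2 hW (hWUV.trans inf_le_left)
    have h2 := ha V.1 W V.2 hW (hWUV.trans inf_le_right)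
    exact (res_res inf_le_left hWUV _).trans (h1.trans (h2.symm.trans
      (res_res inf_le_right hWUV _).symm))
  obtain ⟨s, hs, -⟩ := X.sheaf.existsUnique_gluing' (ι := X.affineOpens)
    (fun U => (U : X.Opens)) ⊤ (fun U => homOfLE le_top) hcov (fun U => a U.1 U.2) hcomp
  exact ⟨s, fun U hU => hs ⟨U, hU⟩⟩

theorem mem_basicOpen_res {U V : X.Opens} (h : V ≤ U) (s : Γ(X, U)) {x : X} (hx : x ∈ V) :
    x ∈ X.basicOpen (res h s) ↔ x ∈ X.basicOpen s := by
  have := X.basicOpen_res s (homOfLE h).op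
  rw [this]
  exact ⟨fun h => h.2, fun h => ⟨hx, h⟩⟩

/-- If locally `b = b² c` then the non-vanishing locus of `b` is clopen. -/
theorem isClopen_basicOpen (b : Γ(X, ⊤))
    (h : ∀ x : X, ∃ (U : X.Opens) (_ : x ∈ U) (c : Γ(X, U)), resTop U b = resTop U b ^ 2 * c) :
    IsClopen (X.basicOpen b : Set X) := by
  refine ⟨?_, (X.basicOpen b).isOpen⟩
  rw [← isOpen_compl_iff, isOpen_iff_forall_mem_open]
  intro x hx
  obtain ⟨U, hxU, c, hc⟩ := h x
  set bU := resTop U b with hbU
  have hmem : ∀ y ∈ U, (y ∈ X.basicOpen bU ↔ y ∈ X.basicOpen b) := fun y hy =>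
    mem_basicOpen_res le_top b hy
  refine ⟨X.basicOpen (1 - bU * c), ?_, (X.basicOpen _).isOpen, ?_⟩
  · intro y hy hyb
    have hyU : y ∈ U := X.basicOpen_le _ hy
    have h1 : y ∈ X.basicOpen bU := (hmem y hyU).mpr hyb
    have h2 : y ∈ X.basicOpen (bU * (1 - bU * c)) := by
      rw [X.basicOpen_mul]
      exact ⟨h1, hy⟩
    have h3 : bU * (1 - bU * c) = 0 := by
      calc bU * (1 - bU * c) = bU - bU ^ 2 * c := by ring
        _ = 0 := by rw [← hc, sub_self]
    rw [h3, X.basicOpen_zero] at h2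
    exact h2
  · have hxb : x ∉ X.basicOpen bU := fun h => hx ((hmem x hxU).mp h)
    change x ∈ X.basicOpen (1 - bU * c)
    rw [X.mem_basicOpen _ _ hxU]
    have h4 : ¬ IsUnit (X.presheaf.germ U x hxU (bU * c)) := by
      rw [map_mul]
      intro h5
      apply hxb
      rw [X.mem_basicOpen _ _ hxU]
      exact isUnit_of_mul_isUnit_left h5
    rw [map_sub, map_one]
    have := IsLocalRing.isUnit_or_isUnit_one_sub_self (X.presheaf.germ U x hxU (bU * c))
    tauto

/-- If locally on a preconnected scheme `b = b² c`, and `b` is zero on some nonempty open, then `b = 0`. -/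
theorem eq_zero_of_vonNeumann [PreconnectedSpace X] (b : Γ(X, ⊤))
    (h : ∀ (U : X.Opens), IsAffineOpen U → ∃ c : Γ(X, U), resTop U b = resTop U b ^ 2 * c)
    (U₀ : X.Opens) (hU₀ : (U₀ : Set X).Nonempty) (hb : resTop U₀ b = 0) : b = 0 := by
  have hclopen : IsClopen (X.basicOpen b : Set X) := by
    apply isClopen_basicOpen
    intro x
    obtain ⟨_, ⟨U, hU, rfl⟩, hxU, -⟩ := X.isBasis_affineOpens.exists_subset_of_mem_open
      (Set.mem_univ x) isOpen_univ
    obtain ⟨c, hc⟩ := h U hU
    exact ⟨U, hxU, c, hc⟩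
  have hbot : X.basicOpen b = ⊥ := by
    rcases isClopen_iff.mp hclopen with h1 | h1
    · exact Opens.ext h1
    · exfalso
      obtain ⟨x, hx⟩ := hU₀
      have h2 : x ∈ X.basicOpen b := by
        change x ∈ (X.basicOpen b : Set X)
        rw [h1]; trivial
      rw [← mem_basicOpen_res le_top b hx] at h2
      have h3 : res (X := X) (U := ⊤) (V := U₀) le_top b = 0 := hb
      rw [h3, X.basicOpen_zero] at h2
      exact h2
  refine eq_of_res_affine_eq b 0 fun U hU _ => ?_
  rw [map_zero]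
  change resTop U b = 0
  obtain ⟨c, hc⟩ := h U hU
  set bU := resTop U b with hbU
  have h1 : X.basicOpen (bU * c) = ⊥ := by
    rw [X.basicOpen_mul, eq_bot_iff]
    intro y hy
    have h2 : y ∈ X.basicOpen b := (mem_basicOpen_res le_top b (X.basicOpen_le _ hy.1)).mp hy.1
    rwa [hbot] at h2
  rw [← Scheme.isNilpotent_iff_basicOpen_eq_bot_of_isCompact hU.isCompact] at h1
  obtain ⟨n, hn⟩ := h1
  have h2 : ∀ n : ℕ, bU = bU * (bU * c) ^ n := by
    intro n
    induction n with
    | zero => simp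
    | succ n ih =>
      calc bU = bU ^ 2 * c := hc
        _ = bU * (bU * c) := by ring
        _ = (bU * (bU * c) ^ n) * (bU * c) := by rw [← ih]
        _ = _ := by ring
  rw [h2 n, hn, mul_zero]

/-- Modulo a squarefree polynomial every polynomial is von Neumann regular. -/
theorem exists_vonNeumann {L : Type*} [Field L] (P P₀ : L[X]) (hP : Squarefree P) :
    ∃ q t : L[X], P₀ = P₀ ^ 2 * q + P * t := by
  classical
  have h1 := EuclideanDomain.gcd_eq_gcd_ab (P₀ ^ 2) P
  have h2 : EuclideanDomain.gcd (P₀ ^ 2) P ∣ P₀ ^ 2 := EuclideanDomain.gcd_dvd_left _ _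
  have h3 : EuclideanDomain.gcd (P₀ ^ 2) P ∣ P := EuclideanDomain.gcd_dvd_right _ _
  have h4 : EuclideanDomain.gcd (P₀ ^ 2) P ∣ P₀ :=
    ((hP.squarefree_of_dvd h3).dvd_pow_iff_dvd two_ne_zero).mp h2
  obtain ⟨w, hw⟩ := h4
  refine ⟨EuclideanDomain.gcdA (P₀ ^ 2) P * w, EuclideanDomain.gcdB (P₀ ^ 2) P * w, ?_⟩
  conv_lhs => rw [hw, h1]
  ring

/-- On a connected scheme, a global section which is locally killed by separable polynomials over `L` is globally
killed by a separable polynomial over `L`. -/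
theorem exists_separable_eval_eq_zero [ConnectedSpace X] {L : Type*} [Field L]
    (φ : L →+* Γ(X, ⊤)) (s : Γ(X, ⊤))
    (h : ∀ U : X.Opens, IsAffineOpen U →
      ∃ P : L[X], P.Separable ∧ eval₂ ((resTop U).comp φ) (resTop U s) P = 0) :
    ∃ P : L[X], P.Separable ∧ eval₂ φ s P = 0 := by
  obtain ⟨x⟩ := (inferInstance : Nonempty X)
  obtain ⟨_, ⟨U₀, hU₀, rfl⟩, hxU, -⟩ := X.isBasis_affineOpens.exists_subset_of_mem_open
      (Set.mem_univ x) isOpen_univ
  obtain ⟨P₀, hP₀, hs⟩ := h U₀ hU₀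
  refine ⟨P₀, hP₀, ?_⟩
  have hres : ∀ (U : X.Opens) (Q : L[X]), resTop U (eval₂ φ s Q) =
      eval₂ ((resTop U).comp φ) (resTop U s) Q := fun U Q => hom_eval₂ _ _ _ _
  refine eq_zero_of_vonNeumann _ ?_ U₀ ⟨x, hxU⟩ ((hres U₀ P₀).trans hs)
  intro U hU
  obtain ⟨P, hP, hsP⟩ := h U hU
  obtain ⟨q, t, hqt⟩ := exists_vonNeumann P P₀ hP.squarefree
  refine ⟨eval₂ ((resTop U).comp φ) (resTop U s) q, ?_⟩
  rw [hres]
  conv_lhs => rw [hqt]
  rw [eval₂_add, eval₂_mul, eval₂_mul, eval₂_pow, hsP, zero_mul, add_zero]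

end Groth.Agent.VarietyB.SepSection
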