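import Mathlib.RingTheory.Spectrum.Prime.Topology
import Mathlib.Topology.Connected.Clopen
import Groth.Agent.VarietyB.BaseExt3
import Groth.Agent.VarietyB.IdemCoeff
import Groth.Agent.VarietyB.SepSection

/-!
# Connectedness of the base change to a Galois extension

Let `X` be a connected scheme over a field `L` such that `L` is separably closed in `Γ(X, ⊤)`. Then for each
Galois extension `M / L` (possibly infinite) the scheme `X_M` is connected.
-/

set_option autoImplicit false

universe u v

open CategoryTheory CategoryTheory.Limits AlgebraicGeometry Polynomial Opposite TopologicalSpace TensorProduct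

namespace Groth.Agent.VarietyB.SepConn

open Groth.Agent.VarietyB.BaseExt3 Groth.Agent.VarietyB.SepSection

section chart

variable (k : Type u) [Field k] (X : Scheme.{u}) [X.Over (Spec (CommRingCat.of k))]
  (K : Type u) [Field K] [Algebra k K]

/-- Naturality of charts. -/
theorem map_chart {R R' : Type u} [CommRing R] [Algebra k R] [CommRing R'] [Algebra k R']
    (j : Spec (CommRingCat.of R) ⟶ X)
    (hj : j ≫ (X ↘ Spec (CommRingCat.of k)) = Spec.map (CommRingCat.ofHom (algebraMap k R)))
    (j' : Spec (CommRingCat.of R') ⟶ X)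
    (hj' : j' ≫ (X ↘ Spec (CommRingCat.of k)) = Spec.map (CommRingCat.ofHom (algebraMap k R')))
    (ψ : R →ₐ[k] R') (hψ : Spec.map (CommRingCat.ofHom (ψ : R →+* R')) ≫ j = j') :
    Spec.map (CommRingCat.ofHom
      (Algebra.TensorProduct.map ψ (AlgHom.id k K) : (R ⊗[k] K) →+* (R' ⊗[k] K))) ≫
        chart k X K R j hj = chart k X K R' j' hj' := by
  apply pullback.hom_ext
  · rw [Category.assoc, chart_fst, chart_fst, ← hψ, ← Category.assoc, ← Category.assoc,
      ← Spec.map_comp, ← Spec.map_comp, ← CommRingCat.ofHom_comp, ← CommRingCat.ofHom_comp]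
    congr 3
  · rw [Category.assoc, chart_snd, chart_snd, ← Spec.map_comp, ← CommRingCat.ofHom_comp]
    congr 2
    ext r
    simp

end chart

/-- Naturality of coefficients. -/
theorem map_rid_lTensor {L M R R' : Type*} [Field L] [Field M] [Algebra L M] [CommRing R] [CommRing R']
    [Algebra L R] [Algebra L R'] (g : R →ₐ[L] R') (ψ : M →ₗ[L] L) (t : R ⊗[L] M) :
    g (TensorProduct.rid L R (ψ.lTensor R t)) =
      TensorProduct.rid L R' (ψ.lTensor R' (Algebra.TensorProduct.map g (AlgHom.id L M) t)) := by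
  induction t with
  | zero => simp
  | tmul r x => simp
  | add x y hx hy => simp only [map_add, hx, hy]

/-- Let `X` be a connected scheme and `φ : L → Γ(X, ⊤)` a ring homomorphism from a field such that `L` is separably
closed in `Γ(X, ⊤)`. Then `X_M` is connected for each Galois extension `M / L`. -/
theorem connectedSpace_bc (X : Scheme.{u}) [ConnectedSpace X] (L : Type u) [Field L]
    (φ : L →+* Γ(X, ⊤))
    (hL : ∀ (s : Γ(X, ⊤)) (P : L[X]), P.Separable → eval₂ φ s P = 0 → ∃ x, φ x = s)
    (M : Type u) [Field M] [Algebra L M] [IsGalois L M] :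
    letI : X.Over (Spec (CommRingCat.of L)) := ⟨X.toSpecΓ ≫ Spec.map (CommRingCat.ofHom φ)⟩
    ConnectedSpace (Curv2.bc L X M) := by
  classical
  letI : X.Over (Spec (CommRingCat.of L)) := ⟨X.toSpecΓ ≫ Spec.map (CommRingCat.ofHom φ)⟩
  letI alg : ∀ U : X.Opens, Algebra L Γ(X, U) := fun U => ((resTop U).comp φ).toAlgebra
  -- restriction as algebra homomorphisms
  let resA : ∀ {U V : X.Opens} (h : V ≤ U), Γ(X, U) →ₐ[L] Γ(X, V) := fun {U V} h =>
    { res h with
      commutes' := fun r => res_res le_top h (φ r) }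
  have hj : ∀ (U : X.Opens) (hU : IsAffineOpen U), hU.fromSpec ≫ (X ↘ Spec (CommRingCat.of L)) =
      Spec.map (CommRingCat.ofHom (algebraMap L Γ(X, U))) := by
    intro U hU
    change hU.fromSpec ≫ X.toSpecΓ ≫ Spec.map (CommRingCat.ofHom φ) = _
    rw [← Category.assoc, hU.fromSpec_toSpecΓ, ← Spec.map_comp]
    rfl
  let J : ∀ (U : X.Opens) (hU : IsAffineOpen U), Spec (CommRingCat.of (Γ(X, U) ⊗[L] M)) ⟶ Curv2.bc L X M :=
    fun U hU => chart L X M Γ(X, U) hU.fromSpec (hj U hU)
  have hJ : ∀ (U V : X.Opens) (hU : IsAffineOpen U) (hV : IsAffineOpen V) (h : V ≤ U),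
      Spec.map (CommRingCat.ofHom (Algebra.TensorProduct.map (resA h) (AlgHom.id L M) :
        (Γ(X, U) ⊗[L] M) →+* (Γ(X, V) ⊗[L] M))) ≫ J U hU = J V hV := by
    intro U V hU hV h
    exact map_chart L X M _ (hj U hU) _ (hj V hV) (resA h) (hU.map_fromSpec hV (homOfLE h).op)
  have hcover : ∀ y : Curv2.bc L X M, ∃ (U : X.Opens) (hU : IsAffineOpen U), y ∈ Set.range (J U hU) := by
    intro y
    obtain ⟨_, ⟨U, hU, rfl⟩, hxU, -⟩ := X.isBasis_affineOpens.exists_subset_of_mem_open
      (Set.mem_univ (Curv2.bcFst L X M y)) isOpen_univ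
    obtain ⟨a, ha⟩ : ∃ a, hU.fromSpec a = Curv2.bcFst L X M y := by
      rw [← Set.mem_range, hU.range_fromSpec]
      exact hxU
    obtain ⟨z, hz1, hz2⟩ := Scheme.exists_preimage_of_isPullback
      (chart_isPullback L X M Γ(X, U) hU.fromSpec (hj U hU)) y a ha.symm
    exact ⟨U, hU, z, hz1⟩
  obtain ⟨x₀⟩ := (inferInstance : Nonempty X)
  obtain ⟨_, ⟨U₀, hU₀, rfl⟩, hxU₀, -⟩ := X.isBasis_affineOpens.exists_subset_of_mem_open
      (Set.mem_univ x₀) isOpen_univ
  have hnt : Nontrivial Γ(X, U₀) := by
    have : Nonempty U₀ := ⟨⟨x₀, hxU₀⟩⟩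
    infer_instance
  have hpre : PreconnectedSpace (Curv2.bc L X M) := by
    rw [preconnectedSpace_iff_clopen]
    intro T hT
    have hTU : ∀ (U : X.Opens) (hU : IsAffineOpen U), ∃! e : Γ(X, U) ⊗[L] M, IsIdempotentElem e ∧
        (J U hU) ⁻¹' T = (PrimeSpectrum.basicOpen e : Set (PrimeSpectrum (Γ(X, U) ⊗[L] M))) :=
      fun U hU => PrimeSpectrum.existsUnique_idempotent_basicOpen_eq_of_isClopen
        (hT.preimage (J U hU).continuous)
    choose e he hue using fun U hU => (hTU U hU)
    have hres : ∀ (U V : X.Opens) (hU : IsAffineOpen U) (hV : IsAffineOpen V) (h : V ≤ U),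
        Algebra.TensorProduct.map (resA h) (AlgHom.id L M) (e U hU) = e V hV := by
      intro U V hU hV h
      refine hue V hV _ ⟨?_, ?_⟩
      · exact (he U hU).1.map _
      · rw [← hJ U V hU hV h]
        ext z
        have := Set.ext_iff.mp (he U hU).2 (Spec.map (CommRingCat.ofHom
          (Algebra.TensorProduct.map (resA h) (AlgHom.id L M) :
            (Γ(X, U) ⊗[L] M) →+* (Γ(X, V) ⊗[L] M))) z)
        exact this
    -- the coefficients are constants
    have hcoef : ∀ ψ : M →ₗ[L] L, ∃ c : L, ∀ (U : X.Opens) (hU : IsAffineOpen U),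
        TensorProduct.rid L Γ(X, U) (ψ.lTensor Γ(X, U) (e U hU)) = algebraMap L Γ(X, U) c := by
      intro ψ
      obtain ⟨s, hs⟩ := exists_glue_affine
        (fun (U : X.Opens) (hU : IsAffineOpen U) =>
          TensorProduct.rid L Γ(X, U) (ψ.lTensor Γ(X, U) (e U hU)))
        (fun U V hU hV h => by
          have := map_rid_lTensor (resA h) ψ (e U hU)
          rw [hres U V hU hV h] at this
          exact this)
      obtain ⟨P, hP, hsP⟩ := exists_separable_eval_eq_zero φ s (fun U hU => by
        have h1 := Groth.Agent.VarietyB.IdemCoeff.isSeparable_coeff (e U hU) (he U hU).1 ψ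
        refine ⟨minpoly L (TensorProduct.rid L Γ(X, U) (ψ.lTensor Γ(X, U) (e U hU))), h1, ?_⟩
        rw [hs U hU]
        exact minpoly.aeval L _)
      obtain ⟨c, hc⟩ := hL s P hP hsP
      exact ⟨c, fun U hU => by rw [← hs U hU, ← hc]; rfl⟩
    choose c hc using fun i => hcoef ((Module.Basis.ofVectorSpace L M).coord i)
    set ℬ := Module.Basis.ofVectorSpace L M with hℬ
    have hinj : ∀ a : L, algebraMap L Γ(X, U₀) a = 0 → a = 0 := fun a ha =>
      (map_eq_zero_iff _ (algebraMap L Γ(X, U₀)).injective).mp ha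
    set S := (TensorProduct.equivFinsuppOfBasisRight (M := Γ(X, U₀)) ℬ (e U₀ hU₀)).support with hS
    have hcS : ∀ i, i ∉ S → c i = 0 := by
      intro i hi
      rw [hS, Finsupp.notMem_support_iff, TensorProduct.equivFinsuppOfBasisRight_apply, hc] at hi
      exact hinj _ hi
    set m : M := ∑ i ∈ S, c i • ℬ i with hm
    have hcoord : ∀ i, ℬ.coord i m = c i := by
      intro i
      rw [hm, map_sum]
      simp only [map_smul, Module.Basis.coord_apply, Module.Basis.repr_self, smul_eq_mul]
      by_cases hi : i ∈ S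
      · rw [Finset.sum_eq_single_of_mem i hi]
        · simp
        · intro j _ hji
          simp [hji]
      · rw [hcS i hi]
        refine Finset.sum_eq_zero fun j hj => ?_
        have hji : j ≠ i := fun h => hi (h ▸ hj)
        simp [hji]
    have heU : ∀ (U : X.Opens) (hU : IsAffineOpen U), e U hU = (1 : Γ(X, U)) ⊗ₜ m := by
      intro U hU
      apply (TensorProduct.equivFinsuppOfBasisRight (M := Γ(X, U)) ℬ).injective
      ext i
      rw [TensorProduct.equivFinsuppOfBasisRight_apply, TensorProduct.equivFinsuppOfBasisRight_apply,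
        hc, LinearMap.lTensor_tmul, TensorProduct.rid_tmul, hcoord, Algebra.algebraMap_eq_smul_one]
    have hmm : m * m = m := by
      have h1 : Function.Injective (Algebra.TensorProduct.includeRight : M →ₐ[L] Γ(X, U₀) ⊗[L] M) :=
        Algebra.TensorProduct.includeRight_injective (algebraMap L Γ(X, U₀)).injective
      apply h1
      rw [map_mul]
      have h2 : (Algebra.TensorProduct.includeRight : M →ₐ[L] Γ(X, U₀) ⊗[L] M) m = e U₀ hU₀ :=
        (heU U₀ hU₀).symm
      rw [h2]
      exact (he U₀ hU₀).1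
    rcases eq_or_ne m 0 with hm0 | hm0
    · left
      rw [Set.eq_empty_iff_forall_notMem]
      intro y hy
      obtain ⟨U, hU, z, rfl⟩ := hcover y
      have h1 : z ∈ (J U hU) ⁻¹' T := hy
      rw [(he U hU).2, heU U hU, hm0, TensorProduct.tmul_zero, PrimeSpectrum.basicOpen_zero] at h1
      exact h1
    · right
      have hm1 : m = 1 := by
        have : m * m = m * 1 := by rw [hmm, mul_one]
        exact mul_left_cancel₀ hm0 this
      rw [Set.eq_univ_iff_forall]
      intro y
      obtain ⟨U, hU, z, rfl⟩ := hcover y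
      have h1 : z ∈ (J U hU) ⁻¹' T := by
        rw [(he U hU).2, heU U hU, hm1, ← Algebra.TensorProduct.one_def, PrimeSpectrum.basicOpen_one]
        trivial
      exact h1
  have hne : Nonempty (Curv2.bc L X M) := by
    obtain ⟨y, -⟩ := surjective_bcFst L X M x₀
    exact ⟨y⟩
  exact ⟨hne⟩

end Groth.Agent.VarietyB.SepConn
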