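import Mathlib.RingTheory.Spectrum.Prime.Topology
import Mathlib.AlgebraicGeometry.IdealSheaf.Subscheme
import Groth.Agent.VarietyA.GeomIrrS
import Groth.Agent.VarietyB.SepConn

/-!
# Images of connected components under base field extension (Gabber, Stacks 04PZ)
-/

set_option autoImplicit false

universe u v

open CategoryTheory CategoryTheory.Limits AlgebraicGeometry Polynomial Opposite TopologicalSpace TensorProduct

namespace Groth.Agent.VarietyB.GabberConn

open Groth.Agent.VarietyB.BaseExt3 Groth.Agent.VarietyB.SepConn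

/-- Global sections of a connected scheme have no nontrivial idempotents. -/
theorem eq_zero_or_one_of_idem (X : Scheme.{u}) [ConnectedSpace X] (e : Γ(X, ⊤)) (he : e * e = e) :
    e = 0 ∨ e = 1 := by
  have h1 : e * (1 - e) = 0 := by rw [mul_sub, mul_one, he, sub_self]
  have hdisj : X.basicOpen e ⊓ X.basicOpen (1 - e) = ⊥ := by
    rw [← X.basicOpen_mul, h1, X.basicOpen_zero]
  have hcov : X.basicOpen e ⊔ X.basicOpen (1 - e) = ⊤ := by
    rw [eq_top_iff]
    intro x _
    rw [Opens.mem_sup, X.mem_basicOpen_top, X.mem_basicOpen_top, map_sub, map_one]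
    exact IsLocalRing.isUnit_or_isUnit_one_sub_self _
  have hunit : ∀ f : Γ(X, ⊤), X.basicOpen f = ⊤ → IsUnit f := fun f hf => by
    refine X.toRingedSpace.isUnit_of_isUnit_germ ⊤ f fun x hx => ?_
    rw [← show x ∈ X.basicOpen f ↔ _ from X.mem_basicOpen_top f x, hf]
    trivial
  have hclopen : IsClopen (X.basicOpen e : Set X) := by
    refine ⟨?_, (X.basicOpen e).isOpen⟩
    have : (X.basicOpen e : Set X)ᶜ = X.basicOpen (1 - e) := by
      ext x
      have h3 : x ∈ X.basicOpen e ⊔ X.basicOpen (1 - e) := by rw [hcov]; trivial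
      constructor
      · intro hx
        exact h3.resolve_left hx
      · intro hx hx'
        have : x ∈ X.basicOpen e ⊓ X.basicOpen (1 - e) := ⟨hx', hx⟩
        rw [hdisj] at this
        exact this
    rw [← isOpen_compl_iff, this]
    exact (X.basicOpen _).isOpen
  rcases isClopen_iff.mp hclopen with h2 | h2
  · left
    have h3 : X.basicOpen (1 - e) = ⊤ := by
      have : X.basicOpen e = ⊥ := Opens.ext h2
      rwa [this, bot_sup_eq] at hcov
    exact (hunit _ h3).mul_left_eq_zero.mp h1
  · right
    have h3 : X.basicOpen e = ⊤ := Opens.ext h2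
    have := (hunit _ h3).mul_right_eq_zero.mp h1
    exact (sub_eq_zero.mp this).symm

/-- If `L` is a field separably closed in the global sections of a connected scheme `X`, then `X` is
geometrically connected over `L`. -/
theorem geometricallyConnected (X : Scheme.{u}) [ConnectedSpace X] (L : Type u) [Field L]
    (φ : L →+* Γ(X, ⊤))
    (hL : ∀ (s : Γ(X, ⊤)) (P : L[X]), P.Separable → eval₂ φ s P = 0 → ∃ x, φ x = s) :
    GeometricallyConnected (X.toSpecΓ ≫ Spec.map (CommRingCat.ofHom φ)) := by
  have : ConnectedSpace ↥(pullback (X.toSpecΓ ≫ Spec.map (CommRingCat.ofHom φ))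
        (Spec.map (CommRingCat.ofHom (algebraMap L (SeparableClosure L))))) :=
    connectedSpace_bc X L φ hL (SeparableClosure L)
  exact Groth.Agent.VarietyA.GeomIrr.geometricallyConnected_of_connectedSpace_of_isSepClosed
    L (SeparableClosure L) _

/-- Gabber: for connected `X`, each connected component of `X_K` surjects onto `X`. -/
theorem image_connectedComponent_eq_univ (k : Type u) [Field k] (X : Scheme.{u})
    (f : X ⟶ Spec (CommRingCat.of k)) [ConnectedSpace X] (K : Type u) [Field K] [Algebra k K]
    (x' : ↥(pullback f (Spec.map (CommRingCat.ofHom (algebraMap k K))))) :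
    pullback.fst f (Spec.map (CommRingCat.ofHom (algebraMap k K))) '' connectedComponent x' =
      Set.univ := by
  -- `f` comes from a ring homomorphism
  obtain ⟨ρ, hρ⟩ : ∃ ρ : k →+* Γ(X, ⊤), f = X.toSpecΓ ≫ Spec.map (CommRingCat.ofHom ρ) := by
    refine ⟨((Scheme.ΓSpecIso (CommRingCat.of k)).inv ≫ f.appTop).hom, ?_⟩
    rw [CommRingCat.ofHom_hom, Spec.map_comp, ← Category.assoc, ← Scheme.toSpecΓ_naturality,
      Category.assoc, ← Scheme.isoSpec_Spec_inv, Scheme.toSpecΓ_isoSpec_inv, Category.comp_id]
  letI : Algebra k Γ(X, ⊤) := ρ.toAlgebra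
  have hnt : Nontrivial Γ(X, ⊤) := by
    have : Nonempty (⊤ : X.Opens) := ⟨⟨Classical.arbitrary X, trivial⟩⟩
    infer_instance
  obtain ⟨L, _, _, φ, hsep, hcl⟩ := Groth.Agent.VarietyB.SepInRing.exists_sepClosure_in (k := k)
    (A := Γ(X, ⊤)) (eq_zero_or_one_of_idem X)
  let g : X ⟶ Spec (CommRingCat.of L) := X.toSpecΓ ≫ Spec.map (CommRingCat.ofHom (φ : L →+* Γ(X, ⊤)))
  have hg : GeometricallyConnected g := geometricallyConnected X L φ hcl
  have hgf : g ≫ Spec.map (CommRingCat.ofHom (algebraMap k L)) = f := by
    rw [hρ, Category.assoc, ← Spec.map_comp, ← CommRingCat.ofHom_comp]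
    congr 3
    ext x
    exact φ.commutes x
  -- the morphism `X_K ⟶ Spec (L ⊗[k] K)`
  have hR : IsPullback (Spec.map (CommRingCat.ofHom (algebraMap L (L ⊗[k] K))))
      (Spec.map (CommRingCat.ofHom
        (Algebra.TensorProduct.includeRight : K →ₐ[k] L ⊗[k] K).toRingHom))
      (Spec.map (CommRingCat.ofHom (algebraMap k L))) (Spec.map (CommRingCat.ofHom (algebraMap k K))) :=
    isPullback_SpecMap_of_isPushout _ _ _ _ (CommRingCat.isPushout_tensorProduct k L K)
  have hB : IsPullback (pullback.fst f (Spec.map (CommRingCat.ofHom (algebraMap k K))))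
      (pullback.snd f (Spec.map (CommRingCat.ofHom (algebraMap k K))))
      (g ≫ Spec.map (CommRingCat.ofHom (algebraMap k L)))
      (Spec.map (CommRingCat.ofHom (algebraMap k K))) := by
    rw [hgf]
    exact IsPullback.of_hasPullback _ _
  have hQ := IsPullback.of_bot' hB hR
  set q := hR.lift (pullback.fst f (Spec.map (CommRingCat.ofHom (algebraMap k K))) ≫ g)
    (pullback.snd f (Spec.map (CommRingCat.ofHom (algebraMap k K))))
    (by rw [Category.assoc, hB.w]) with hq
  have hqc : GeometricallyConnected q := MorphismProperty.of_isPullback hQ hg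
  have hcc : q ⁻¹' {q x'} ⊆ connectedComponent x' :=
    (q.isConnected_preimage_singleton (q x')).isPreconnected.subset_connectedComponent rfl
  rw [Set.eq_univ_iff_forall]
  intro x
  obtain ⟨z, hz1, hz2⟩ := Scheme.exists_preimage_of_isPullback hQ x (q x') (Subsingleton.elim _ _)
  exact ⟨z, hcc hz2, hz1⟩

/-- Gabber (Stacks 04PZ): the image in `X` of a connected component of `X_K` is a connected component. -/
theorem image_connectedComponent (k : Type u) [Field k] (X : Scheme.{u})
    (f : X ⟶ Spec (CommRingCat.of k)) (K : Type u) [Field K] [Algebra k K]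
    (x' : ↥(pullback f (Spec.map (CommRingCat.ofHom (algebraMap k K))))) :
    pullback.fst f (Spec.map (CommRingCat.ofHom (algebraMap k K))) '' connectedComponent x' =
      connectedComponent (pullback.fst f (Spec.map (CommRingCat.ofHom (algebraMap k K))) x') := by
  refine subset_antisymm
    ((pullback.fst f (Spec.map (CommRingCat.ofHom (algebraMap k K)))).continuous
      |>.image_connectedComponent_subset x') ?_
  set p := pullback.fst f (Spec.map (CommRingCat.ofHom (algebraMap k K))) with hp
  let T : Closeds X := ⟨connectedComponent (p x'), isClosed_connectedComponent⟩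
  let i : (Scheme.IdealSheafData.vanishingIdeal T).subscheme ⟶ X :=
    (Scheme.IdealSheafData.vanishingIdeal T).subschemeι
  have hi : Set.range i = connectedComponent (p x') := by
    rw [Scheme.IdealSheafData.range_subschemeι, Scheme.IdealSheafData.coe_support_vanishingIdeal]
    rfl
  have hconn : ConnectedSpace ↥(Scheme.IdealSheafData.vanishingIdeal T).subscheme := by
    rw [connectedSpace_iff_univ]
    obtain ⟨a, -⟩ : p x' ∈ Set.range i := by rw [hi]; exact mem_connectedComponent
    refine ⟨⟨a, trivial⟩, ?_⟩
    rw [← i.isEmbedding.isInducing.isPreconnected_image, Set.image_univ, hi]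
    exact isPreconnected_connectedComponent
  have hQ := IsPullback.of_bot' (IsPullback.of_hasPullback (i ≫ f)
    (Spec.map (CommRingCat.ofHom (algebraMap k K)))) (IsPullback.of_hasPullback f
    (Spec.map (CommRingCat.ofHom (algebraMap k K))))
  set iK := (IsPullback.of_hasPullback f (Spec.map (CommRingCat.ofHom (algebraMap k K)))).lift
    (pullback.fst (i ≫ f) (Spec.map (CommRingCat.ofHom (algebraMap k K))) ≫ i)
    (pullback.snd (i ≫ f) (Spec.map (CommRingCat.ofHom (algebraMap k K))))
    (by rw [Category.assoc, pullback.condition]) with hiK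
  obtain ⟨a, ha⟩ : p x' ∈ Set.range i := by rw [hi]; exact mem_connectedComponent
  obtain ⟨z, hz1, hz2⟩ := Scheme.exists_preimage_of_isPullback hQ.flip x' a ha.symm
  intro y hy
  rw [← hi] at hy
  obtain ⟨b, rfl⟩ := hy
  have h1 := image_connectedComponent_eq_univ k _ (i ≫ f) K z
  obtain ⟨w, hw, hwb⟩ : b ∈ pullback.fst (i ≫ f) (Spec.map (CommRingCat.ofHom (algebraMap k K))) ''
      connectedComponent z := by rw [h1]; trivial
  refine ⟨iK w, ?_, ?_⟩
  · have := iK.continuous.image_connectedComponent_subset z ⟨w, hw, rfl⟩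
    rwa [show iK z = x' from hz1] at this
  · have := congr($(hQ.w) w)
    rw [← hwb]
    exact this.symm

end Groth.Agent.VarietyB.GabberConn
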