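import Mathlib.AlgebraicGeometry.Morphisms.Affine
import Mathlib.AlgebraicGeometry.Noetherian
import Mathlib.RingTheory.KrullDimension.Basic
import Mathlib.RingTheory.Ideal.MinimalPrime.Noetherian

/-!
# Quasi-compact opens of schemes whose local rings are Noetherian of dimension at most one

* `exists_mem_notMem_forall_pow`: the algebra input.
* `isAffineOpen_of_isCompact`: in an affine scheme with such local rings, a quasi-compact open is affine.
* `isAffineHom_ι`: a quasi-compact open immersion into a scheme with such local rings is an affine morphism.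
-/

set_option autoImplicit false
universe u

open CategoryTheory AlgebraicGeometry TopologicalSpace

namespace Groth.Agent.VarietyB.AffineDimOne

/-- In a Noetherian local ring of dimension at most one, a proper ideal `I` has, up to radical, the same
zero locus as some element of `I`. -/
lemma exists_mem_forall_mem_radical {R : Type*} [CommRing R] [IsLocalRing R] [IsNoetherianRing R]
    (h : ringKrullDim R ≤ 1) (I : Ideal R) (hI : I ≤ IsLocalRing.maximalIdeal R) :
    ∃ g ∈ I, I ≤ (Ideal.span {g}).radical := by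
  have hK : Ring.KrullDimLE 1 R := (Ring.krullDimLE_iff (n := 1)).mpr (by exact_mod_cast h)
  rw [Ring.krullDimLE_one_iff] at hK
  -- the finite set of minimal primes not containing `I`
  let S : Set (Ideal R) := {q | q ∈ minimalPrimes R ∧ ¬ I ≤ q}
  have hS : S.Finite := (minimalPrimes.finite_of_isNoetherianRing R).subset (fun q hq ↦ hq.1)
  have hav : ¬ ((I : Set R) ⊆ ⋃ q ∈ S, ((id q : Ideal R) : Set R)) := by
    rw [Ideal.subset_union_prime_finite (f := id) hS ⊥ ⊥
      (fun q hq _ _ ↦ (Ideal.IsMinimalPrime.isPrime hq.1 : Ideal.IsPrime q))]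
    rintro ⟨q, hq, hle⟩
    exact hq.2 hle
  rw [Set.not_subset] at hav
  obtain ⟨g, hgI, hg⟩ := hav
  refine ⟨g, hgI, ?_⟩
  intro f hf
  rw [Ideal.radical_eq_sInf, Ideal.mem_sInf]
  rintro Q ⟨hgQ, hQ⟩
  rw [Ideal.span_singleton_le_iff_mem] at hgQ
  obtain hmin | hmax := hK Q hQ
  · by_contra hfQ
    apply hg
    simp only [Set.mem_iUnion]
    exact ⟨Q, ⟨hmin, fun hle ↦ hfQ (hle hf)⟩, hgQ⟩
  · rw [IsLocalRing.eq_maximalIdeal hmax]
    exact hI hf

/-- Let `p` be a prime of `A` such that `A_p` is Noetherian of dimension at most one and `I ≤ p`. Then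
there are `g ∈ I` and `s ∉ p` such that `s f ∈ √(g)` for all `f ∈ J`, `J` a given finite subset of `I`. -/
lemma exists_mem_notMem_forall_pow {A B : Type*} [CommRing A] (p : Ideal A) [p.IsPrime]
    [CommRing B] [Algebra A B] [IsLocalization.AtPrime B p]
    [IsNoetherianRing B] (h : ringKrullDim B ≤ 1)
    (I : Ideal A) (hIp : I ≤ p) (T : Set A) (hTf : T.Finite) (hT : ∀ f ∈ T, f ∈ I) :
    ∃ g ∈ I, ∃ s ∉ p, ∀ f ∈ T, ∃ n : ℕ, s * f ^ n ∈ Ideal.span {g} := by
  classical
  have := IsLocalization.AtPrime.isLocalRing B p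
  obtain ⟨g', hg', hrad⟩ := exists_mem_forall_mem_radical h
    (I.map (algebraMap A B))
    (by
      rw [Ideal.map_le_iff_le_comap]
      have := IsLocalization.AtPrime.under_maximalIdeal B p
      rw [Ideal.under_def] at this
      rwa [this])
  rw [IsLocalization.mem_map_algebraMap_iff p.primeCompl] at hg'
  obtain ⟨⟨⟨g, hg⟩, t⟩, hgt⟩ := hg'
  simp only at hgt
  refine ⟨g, hg, ?_⟩
  have key : ∀ f ∈ T, ∃ s ∉ p, ∃ n : ℕ, s * f ^ n ∈ Ideal.span {g} := by
    intro f hf
    have hf' := hrad (Ideal.mem_map_of_mem _ (hT f hf))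
    obtain ⟨n, hn⟩ := hf'
    rw [Ideal.mem_span_singleton] at hn
    obtain ⟨c, hc⟩ := hn
    -- `f ^ n = g' * c`, `g' * t = g`
    obtain ⟨⟨c', t'⟩, hct⟩ := IsLocalization.surj p.primeCompl c
    simp only at hct
    have h1 : algebraMap A B (f ^ n * t * t') = algebraMap A B (g * c') := by
      rw [map_mul, map_mul, map_pow, map_mul, ← hct, ← hgt, hc]
      ring
    obtain ⟨u, hu⟩ := (IsLocalization.eq_iff_exists p.primeCompl _).mp h1
    refine ⟨u * t * t', ?_, n, ?_⟩
    · have : ((u * t * t' : p.primeCompl) : A) ∉ p := (u * t * t').2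
      simpa using this
    · rw [Ideal.mem_span_singleton]
      refine ⟨u * c', ?_⟩
      calc (u : A) * t * t' * f ^ n = u * (f ^ n * t * t') := by ring
        _ = u * (g * c') := hu
        _ = g * (u * c') := by ring
  choose! s hs n hn using key
  refine ⟨∏ f ∈ hTf.toFinset, s f, ?_, ?_⟩
  · have : (∏ f ∈ hTf.toFinset, s f) ∈ p.primeCompl :=
      Submonoid.prod_mem _ (fun f hf ↦ hs f (by simpa using hf))
    exact this
  · intro f hf
    refine ⟨n f, ?_⟩
    obtain ⟨c, hc⟩ := Finset.dvd_prod_of_mem s (hTf.mem_toFinset.mpr hf)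
    rw [hc, mul_comm (s f) c, mul_assoc]
    exact Ideal.mul_mem_left _ _ (hn f hf)

/-- The local statement: near a point whose local ring is Noetherian of dimension at most one, the trace
of a quasi-compact open on a small principal open is affine. -/
theorem exists_isAffineOpen_inf_basicOpen (X : Scheme.{u}) [IsAffine X] (x : X)
    [IsNoetherianRing (X.presheaf.stalk x)] (h : ringKrullDim (X.presheaf.stalk x) ≤ 1)
    (U : X.Opens) (hU : IsCompact (U : Set X)) :
    ∃ s : Γ(X, ⊤), x ∈ X.basicOpen s ∧ IsAffineOpen (U ⊓ X.basicOpen s) := by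
  by_cases hxU : x ∈ U
  · obtain ⟨f, hf, hxf⟩ := (isAffineOpen_top X).exists_basicOpen_le ⟨x, hxU⟩ trivial
    refine ⟨f, hxf, ?_⟩
    rw [inf_eq_right.mpr hf]
    exact (isAffineOpen_top X).basicOpen f
  obtain ⟨T, hTf, hUT⟩ :=
    (isCompact_and_isOpen_iff_finite_and_eq_biUnion_basicOpen (U := (U : Set X))).mp ⟨hU, U.2⟩
  let := X.presheaf.algebra_section_stalk (⟨x, trivial⟩ : (⊤ : X.Opens))
  let p : Ideal Γ(X, ⊤) := ((isAffineOpen_top X).primeIdealOf ⟨x, trivial⟩).asIdeal
  have hloc : IsLocalization.AtPrime (X.presheaf.stalk x) p :=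
    (isAffineOpen_top X).isLocalization_stalk ⟨x, trivial⟩
  have hmem (f : Γ(X, ⊤)) : x ∈ X.basicOpen f ↔ f ∉ p := by
    rw [Scheme.mem_basicOpen _ _ _ (show x ∈ (⊤ : X.Opens) from trivial)]
    exact IsLocalization.AtPrime.isUnit_to_map_iff (X.presheaf.stalk x) p f
  have hTp : ∀ f ∈ T, f ∈ p := by
    intro f hf
    by_contra hfp
    apply hxU
    have : x ∈ (U : Set X) := by
      rw [hUT]
      simp only [Set.mem_iUnion]
      exact ⟨f, hf, (hmem f).mpr hfp⟩
    exact this
  obtain ⟨g, hg, s, hs, hsn⟩ := exists_mem_notMem_forall_pow (B := X.presheaf.stalk x) p h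
    (Ideal.span T) (Ideal.span_le.mpr hTp) T hTf (fun f hf ↦ Ideal.subset_span hf)
  refine ⟨s, (hmem s).mpr hs, ?_⟩
  have hle1 : X.basicOpen g ≤ U := by
    intro y hy
    by_contra hyU
    rw [Scheme.mem_basicOpen _ _ _ (show y ∈ (⊤ : X.Opens) from trivial)] at hy
    have hgm : g ∈ Ideal.comap (X.presheaf.germ ⊤ y trivial).hom
        (IsLocalRing.maximalIdeal (X.presheaf.stalk y)) := by
      refine (Ideal.span_le.mpr ?_) hg
      intro f hf
      rw [SetLike.mem_coe, Ideal.mem_comap, IsLocalRing.mem_maximalIdeal, mem_nonunits_iff]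
      intro hunit
      apply hyU
      have : y ∈ (U : Set X) := by
        rw [hUT]
        simp only [Set.mem_iUnion]
        exact ⟨f, hf, (Scheme.mem_basicOpen _ _ _ (show y ∈ (⊤ : X.Opens) from trivial)).mpr hunit⟩
      exact this
    rw [Ideal.mem_comap, IsLocalRing.mem_maximalIdeal, mem_nonunits_iff] at hgm
    exact hgm hy
  have hle2 : U ⊓ X.basicOpen s ≤ X.basicOpen g := by
    rintro y ⟨hyU, hys⟩
    have hyU' : y ∈ (U : Set X) := hyU
    rw [hUT] at hyU'
    simp only [Set.mem_iUnion] at hyU'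
    obtain ⟨f, hf, hyf⟩ := hyU'
    obtain ⟨n, hn⟩ := hsn f hf
    rw [Ideal.mem_span_singleton] at hn
    obtain ⟨c, hc⟩ := hn
    have hy1 : y ∈ X.basicOpen s := hys
    have hy2 : y ∈ X.basicOpen f := hyf
    rw [Scheme.mem_basicOpen _ _ _ (show y ∈ (⊤ : X.Opens) from trivial)] at hy1 hy2 ⊢
    have : IsUnit (X.presheaf.germ ⊤ y trivial (s * f ^ n)) := by
      rw [map_mul, map_pow]
      exact hy1.mul (hy2.pow n)
    rw [hc, map_mul] at this
    exact isUnit_of_mul_isUnit_left this
  have heq : U ⊓ X.basicOpen s = X.basicOpen (s * g) := by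
    rw [Scheme.basicOpen_mul]
    apply le_antisymm
    · exact le_inf inf_le_right hle2
    · exact le_inf (inf_le_right.trans hle1) inf_le_left
  rw [heq]
  exact (isAffineOpen_top X).basicOpen _

/-- Stacks Tag 09N9. -/
theorem isAffineOpen_of_isCompact (X : Scheme.{u}) [IsAffine X]
    (hX : ∀ x : X, IsNoetherianRing (X.presheaf.stalk x) ∧ ringKrullDim (X.presheaf.stalk x) ≤ 1)
    (U : X.Opens) (hU : IsCompact (U : Set X)) : IsAffineOpen U := by
  have key : ∀ x : X, ∃ s : Γ(X, ⊤), x ∈ X.basicOpen s ∧ IsAffineOpen (U ⊓ X.basicOpen s) := by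
    intro x
    have := (hX x).1
    exact exists_isAffineOpen_inf_basicOpen X x (hX x).2 U hU
  choose s hs hsU using key
  have hspan : Ideal.span (Set.range s) = ⊤ := by
    rw [← (isAffineOpen_top X).self_le_iSup_basicOpen_iff]
    intro x _
    simp only [Opens.mem_iSup]
    exact ⟨⟨s x, Set.mem_range_self x⟩, hs x⟩
  refine isAffineOpen_of_isAffineOpen_basicOpen U
    ((X.presheaf.map (homOfLE le_top).op).hom '' (Set.range s)) ?_ ?_
  · rw [← Ideal.map_span, hspan, Ideal.map_top]
  · rintro _ ⟨_, ⟨x, rfl⟩, rfl⟩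
    have := hsU x
    rwa [← Scheme.basicOpen_res X (s x) (homOfLE (le_top : U ≤ ⊤)).op] at this

/-- A quasi-compact open immersion into a scheme all of whose local rings are Noetherian of dimension
at most one is an affine morphism. -/
theorem isAffineHom_ι (X : Scheme.{u})
    (hX : ∀ x : X, IsNoetherianRing (X.presheaf.stalk x) ∧ ringKrullDim (X.presheaf.stalk x) ≤ 1)
    (U : X.Opens) [QuasiCompact U.ι] : IsAffineHom U.ι := by
  apply isAffineHom_of_forall_exists_isAffineOpen
  intro x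
  obtain ⟨V, hV, hxV⟩ : ∃ V : X.Opens, IsAffineOpen V ∧ x ∈ V := by
    obtain ⟨_, ⟨V, hV, rfl⟩, hxV, -⟩ :=
      X.isBasis_affineOpens.exists_subset_of_mem_open (Set.mem_univ x) isOpen_univ
    exact ⟨V, hV, hxV⟩
  refine ⟨V, hxV, hV, ?_⟩
  have hVaff : IsAffine V := hV
  have hcomp : IsCompact ((U.ι ⁻¹ᵁ V : (U : Scheme.{u}).Opens) : Set U) :=
    U.ι.isCompact_preimage hV.isCompact
  have hcomp' : IsCompact ((U ⊓ V : X.Opens) : Set X) := by
    have h1 : U ⊓ V = U.ι ''ᵁ U.ι ⁻¹ᵁ V := by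
      rw [Scheme.Hom.image_preimage_eq_opensRange_inf, Scheme.Opens.opensRange_ι]
    rw [h1]
    exact hcomp.image U.ι.continuous
  have hcomp'' : IsCompact ((V.ι ⁻¹ᵁ U : (V : Scheme.{u}).Opens) : Set V) := by
    have h1 : U ⊓ V = V.ι ''ᵁ V.ι ⁻¹ᵁ U := by
      rw [Scheme.Hom.image_preimage_eq_opensRange_inf, Scheme.Opens.opensRange_ι, inf_comm]
    rw [h1] at hcomp'
    exact (V.ι.isOpenEmbedding.isInducing.isCompact_iff).mpr hcomp'
  have hW : IsAffineOpen (V.ι ⁻¹ᵁ U) := by
    apply isAffineOpen_of_isCompact _ _ _ hcomp''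
    intro y
    have e : X.presheaf.stalk y.1 ≃+* (V : Scheme.{u}).presheaf.stalk y :=
      (V.stalkIso y).symm.commRingCatIsoToRingEquiv
    have h1 := (hX y.1).1
    refine ⟨isNoetherianRing_of_ringEquiv _ e, ?_⟩
    rw [← ringKrullDim_eq_of_ringEquiv e]
    exact (hX y.1).2
  have hUV : IsAffineOpen (U ⊓ V) := by
    have h1 : U ⊓ V = V.ι ''ᵁ V.ι ⁻¹ᵁ U := by
      rw [Scheme.Hom.image_preimage_eq_opensRange_inf, Scheme.Opens.opensRange_ι, inf_comm]
    rw [h1]
    exact hW.image_of_isOpenImmersion V.ι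
  rw [← U.ι.isAffineOpen_iff_of_isOpenImmersion, Scheme.Hom.image_preimage_eq_opensRange_inf,
    Scheme.Opens.opensRange_ι]
  exact hUV

end Groth.Agent.VarietyB.AffineDimOne
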