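import Mathlib.RingTheory.QuasiFinite.Polynomial
import Mathlib.RingTheory.Ideal.KrullsHeightTheorem
import Mathlib.RingTheory.ZariskisMainTheorem
import Mathlib.RingTheory.DedekindDomain.Basic

/-!
# Quasi-finiteness of finite type algebras over one-dimensional Noetherian rings
-/

namespace Groth.Agent.VarietyB.QFinDimOne

open Polynomial

/-- Over a Noetherian domain of dimension at most one, a domain generated by one algebraic element is
quasi-finite. -/
theorem quasiFinite_of_surjective_polynomial {R S : Type*} [CommRing R] [IsDomain R]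
    [IsNoetherianRing R] [Ring.DimensionLEOne R] [CommRing S] [IsDomain S] [Algebra R S]
    (hinj : Function.Injective (algebraMap R S))
    (f : R[X] →ₐ[R] S) (hf : Function.Surjective f) (hker : RingHom.ker (f : R[X] →+* S) ≠ ⊥) :
    Algebra.QuasiFinite R S := by
  refine ⟨fun P hP ↦ ?_⟩
  let I := RingHom.ker (f : R[X] →+* S)
  have hIprime : I.IsPrime := RingHom.ker_isPrime _
  have hIC : I.comap C = ⊥ := by
    rw [eq_bot_iff]
    intro r hr
    have : f (C r) = 0 := by simpa [I] using hr
    rw [← Polynomial.algebraMap_eq, AlgHom.commutes] at this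
    exact hinj (by simpa using this)
  have hCP : ∀ Q : Ideal R, (Q.map C : Ideal R[X]).comap C = Q := by
    intro Q
    ext r
    rw [Ideal.mem_comap, Ideal.mem_map_C_iff]
    constructor
    · intro h
      simpa using h 0
    · intro h n
      rw [coeff_C]
      split_ifs
      · exact h
      · exact Q.zero_mem
  have key : ¬ I ≤ P.map C := by
    intro hle
    by_cases hP0 : P = ⊥
    · subst hP0
      exact hker (by simpa [I] using hle)
    obtain ⟨a, haP, ha0⟩ := Submodule.exists_mem_ne_zero_of_ne_bot hP0
    have hPC : (P.map C : Ideal R[X]).IsPrime := Ideal.isPrime_map_C_of_isPrime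
    have hmin : (P.map C : Ideal R[X]) ∈ (Ideal.span {(C a : R[X])}).minimalPrimes := by
      refine ⟨⟨hPC, ?_⟩, ?_⟩
      · rw [Ideal.span_singleton_le_iff_mem]
        exact Ideal.mem_map_of_mem _ haP
      · rintro Q ⟨hQ, haQ⟩ hQP
        have h1 : Q.comap C ≤ P := by
          rw [← hCP P]
          exact Ideal.comap_mono hQP
        have h2 : Q.comap C ≠ ⊥ := by
          intro h
          have : a ∈ Q.comap C := by
            rw [Ideal.mem_comap]
            exact (Ideal.span_singleton_le_iff_mem _).mp haQ
          rw [h] at this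
          exact ha0 (by simpa using this)
        have h3 : (Q.comap C).IsMaximal :=
          Ring.DimensionLEOne.maximalOfPrime h2 inferInstance
        have h4 : Q.comap C = P := h3.eq_of_le hP.ne_top h1
        rw [← h4]
        exact Ideal.map_comap_le
    have h1 := Ideal.height_le_one_of_isPrincipal_of_mem_minimalPrimes _ _ hmin
    have hlt : I < P.map C := by
      refine lt_of_le_of_ne hle ?_
      intro h
      apply hP0
      rw [← hCP P, ← h, hIC]
    have h2 := Ideal.height_add_one_le_of_lt_of_isPrime hlt
    have h3 : I.height ≠ 0 := by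
      rw [Ne, Ideal.height_eq_zero_iff_eq_bot]
      exact hker
    have h4 : (1 : ℕ∞) ≤ I.height := Order.one_le_iff_ne_zero.mpr h3
    have h5 : (1 : ℕ∞) + 1 ≤ 1 := (add_le_add_left h4 1).trans (h2.trans h1)
    exact absurd h5 (by decide)
  have hmap : (I.map (mapRingHom (algebraMap R P.ResidueField))) ≠ ⊥ := by
    intro h
    apply key
    intro p hp
    rw [Ideal.mem_map_C_iff]
    intro n
    have : p.map (algebraMap R P.ResidueField) = 0 := by
      have h1 := Ideal.mem_map_of_mem (mapRingHom (algebraMap R P.ResidueField)) hp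
      rw [h] at h1
      simpa using h1
    have h2 := congrArg (fun q => q.coeff n) this
    simpa [coeff_map] using h2
  obtain ⟨g, hg, hg0⟩ := Submodule.exists_mem_ne_zero_of_ne_bot hmap
  have hfin : Module.Finite P.ResidueField (P.ResidueField[X] ⧸ Ideal.span {g}) := by
    have := (AdjoinRoot.powerBasis hg0).finite
    exact this
  have hfin2 : Module.Finite P.ResidueField
      (P.ResidueField[X] ⧸ (I.map (mapRingHom (algebraMap R P.ResidueField)))) :=
    Module.Finite.of_surjective
      ((Ideal.Quotient.factorₐ P.ResidueField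
        ((Ideal.span_singleton_le_iff_mem _).mpr hg)).toLinearMap)
      (Ideal.Quotient.factor_surjective ((Ideal.span_singleton_le_iff_mem _).mpr hg))
  exact Module.Finite.of_surjective
    (Polynomial.fiberEquivQuotient f hf P).symm.toLinearMap
    (Polynomial.fiberEquivQuotient f hf P).symm.surjective

/-- A quasi-finite domain over a domain of dimension at most one has dimension at most one. -/
theorem dimensionLEOne_of_quasiFinite (R S : Type*) [CommRing R] [IsDomain R]
    [Ring.DimensionLEOne R] [CommRing S] [IsDomain S] [Algebra R S]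
    (hinj : Function.Injective (algebraMap R S)) [Algebra.QuasiFinite R S] :
    Ring.DimensionLEOne S := by
  refine ⟨fun {P} hP0 hP ↦ ?_⟩
  have h0 : P.under R ≠ ⊥ := by
    intro h
    apply hP0
    refine (Algebra.QuasiFinite.eq_of_le_of_under_eq (R := R) ⊥ P bot_le ?_).symm
    rw [h]
    rw [Ideal.under, Ideal.comap_bot_of_injective _ hinj]
  have hmax : (P.under R).IsMaximal := Ring.DimensionLEOne.maximalOfPrime h0 inferInstance
  obtain ⟨M, hM, hPM⟩ := Ideal.exists_le_maximal P hP.ne_top
  have : P.under R = M.under R :=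
    hmax.eq_of_le (Ideal.IsPrime.under R M).ne_top (Ideal.comap_mono hPM)
  rwa [Algebra.QuasiFinite.eq_of_le_of_under_eq (R := R) P M hPM this]

/-- Over a Noetherian domain of dimension at most one, a finite type algebraic domain extension is
quasi-finite. -/
theorem quasiFinite_of_finiteType_of_isAlgebraic (R S : Type*) [CommRing R] [IsDomain R]
    [IsNoetherianRing R] [Ring.DimensionLEOne R] [CommRing S] [IsDomain S] [Algebra R S]
    (hinj : Function.Injective (algebraMap R S)) [Algebra.FiniteType R S]
    [Algebra.IsAlgebraic R S] : Algebra.QuasiFinite R S := by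
  classical
  obtain ⟨s, hs⟩ := (inferInstance : Algebra.FiniteType R S).out
  have key : ∀ t : Finset S, Algebra.QuasiFinite R (Algebra.adjoin R (t : Set S)) := by
    intro t
    induction t using Finset.induction_on with
    | empty =>
      rw [Finset.coe_empty, Algebra.adjoin_empty]
      have : Module.Finite R (⊥ : Subalgebra R S) := inferInstance
      infer_instance
    | insert x t hxt ih =>
      let A' := Algebra.adjoin R (t : Set S)
      have hA'inj : Function.Injective (algebraMap R A') := by
        intro a b h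
        exact hinj (congrArg Subtype.val h)
      have hA'ft : Algebra.FiniteType R A' := by
        rw [← Subalgebra.fg_iff_finiteType]
        exact ⟨t, rfl⟩
      have hA'N : IsNoetherianRing A' := Algebra.FiniteType.isNoetherianRing R A'
      have hA'1 : Ring.DimensionLEOne A' := dimensionLEOne_of_quasiFinite R A' hA'inj
      let B' := Algebra.adjoin A' ({x} : Set S)
      have hB'inj : Function.Injective (algebraMap A' B') := by
        intro a b h
        exact Subtype.ext (congrArg (fun z : B' => (z : S)) h)
      let g : A'[X] →ₐ[A'] B' :=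
        Polynomial.aeval (⟨x, Algebra.subset_adjoin rfl⟩ : B')
      have hg : Function.Surjective g := by
        rintro ⟨z, hz⟩
        have hz' : z ∈ (Polynomial.aeval (R := A') x).range := by
          rw [← Algebra.adjoin_singleton_eq_range_aeval]
          exact hz
        obtain ⟨p, hp⟩ := hz'
        refine ⟨p, ?_⟩
        apply Subtype.ext
        have h1 : (B'.val.comp g) p = aeval x p := by
          congr 1
          ext
          simp [g]
        exact h1.trans hp
      have hxalg : IsAlgebraic A' (⟨x, Algebra.subset_adjoin rfl⟩ : B') := by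
        have h1 : IsAlgebraic A' x :=
          (Algebra.IsAlgebraic.isAlgebraic (R := R) x).extendScalars hA'inj
        exact (isAlgebraic_algebraMap_iff (R := A') (S := B') (A := S)
          Subtype.val_injective).mp h1
      have hker : RingHom.ker (g : A'[X] →+* B') ≠ ⊥ := by
        obtain ⟨p, hp0, hp⟩ := hxalg
        intro h
        apply hp0
        have : p ∈ RingHom.ker (g : A'[X] →+* B') := hp
        rw [h] at this
        simpa using this
      have hqf : Algebra.QuasiFinite A' B' :=
        quasiFinite_of_surjective_polynomial hB'inj g hg hker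
      have hqf2 : Algebra.QuasiFinite R B' := Algebra.QuasiFinite.trans R A' B'
      have heq : (Algebra.adjoin R ((insert x t : Finset S) : Set S)) =
          B'.restrictScalars R := by
        rw [Finset.coe_insert, ← Set.union_singleton, Algebra.adjoin_union_eq_adjoin_adjoin]
      rw [heq]
      exact hqf2
  have h := key s
  rw [hs] at h
  exact (Algebra.QuasiFinite.iff_of_algEquiv Subalgebra.topEquiv).mp h

/-- If `R` is Noetherian of dimension at most one and the finite type algebra `S` is quasi-finite at the
prime `p`, then `S ⧸ p` is quasi-finite over `R`. -/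
theorem quasiFinite_quotient_of_quasiFiniteAt (R S : Type*) [CommRing R] [IsNoetherianRing R]
    [Ring.KrullDimLE 1 R] [CommRing S] [Algebra R S] [Algebra.FiniteType R S]
    (p : Ideal S) [p.IsPrime] [Algebra.QuasiFiniteAt R p] : Algebra.QuasiFinite R (S ⧸ p) := by
  let p₀ := p.under R
  have hp₀ : p₀.IsPrime := inferInstance
  have hlo : p.LiesOver p₀ := inferInstance
  have : Ring.DimensionLEOne (R ⧸ p₀) := by
    refine ⟨fun {Q} hQ0 hQ ↦ ?_⟩
    have h1 : (Q.comap (Ideal.Quotient.mk p₀)).IsPrime := inferInstance
    rcases Ring.krullDimLE_one_iff.mp inferInstance _ h1 with h2 | h2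
    · exfalso
      apply hQ0
      have h3 : p₀ ≤ Q.comap (Ideal.Quotient.mk p₀) := by
        intro r hr
        rw [Ideal.mem_comap, Ideal.Quotient.eq_zero_iff_mem.mpr hr]
        exact Q.zero_mem
      have h4 := h2.2 ⟨hp₀, bot_le⟩ h3
      rw [eq_bot_iff]
      intro x hx
      obtain ⟨r, rfl⟩ := Ideal.Quotient.mk_surjective x
      have : r ∈ p₀ := h4 hx
      exact Ideal.Quotient.eq_zero_iff_mem.mpr this
    · obtain ⟨M, hM, hQM⟩ := Ideal.exists_le_maximal Q hQ.ne_top
      have h3 := h2.eq_of_le (Ideal.IsPrime.comap (Ideal.Quotient.mk p₀) (K := M)).ne_top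
        (Ideal.comap_mono hQM)
      rwa [Ideal.comap_injective_of_surjective _ Ideal.Quotient.mk_surjective h3]
  have hinj : Function.Injective (algebraMap (R ⧸ p₀) (S ⧸ p)) :=
    FaithfulSMul.algebraMap_injective _ _
  let := Localization.AtPrime.algebraOfLiesOver p₀ p
  have hfin : Module.Finite p₀.ResidueField p.ResidueField := inferInstance
  let : Algebra (R ⧸ p₀) p.ResidueField :=
    ((algebraMap (S ⧸ p) p.ResidueField).comp (algebraMap (R ⧸ p₀) (S ⧸ p))).toAlgebra
  have : IsScalarTower (R ⧸ p₀) (S ⧸ p) p.ResidueField := .of_algebraMap_eq' rfl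
  have : IsScalarTower (R ⧸ p₀) p₀.ResidueField p.ResidueField := by
    refine .of_algebraMap_eq' (Ideal.Quotient.ringHom_ext ?_)
    ext r
    have h1 : algebraMap (S ⧸ p) p.ResidueField (algebraMap (R ⧸ p₀) (S ⧸ p) (Ideal.Quotient.mk p₀ r)) =
        algebraMap R p.ResidueField r := rfl
    have h2 : algebraMap (R ⧸ p₀) p₀.ResidueField (Ideal.Quotient.mk p₀ r) =
      algebraMap R p₀.ResidueField r := rfl
    simp only [RingHom.comp_apply]
    rw [h2, ← IsScalarTower.algebraMap_apply R p₀.ResidueField p.ResidueField, ← h1]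
    rfl
  have : Algebra.IsAlgebraic (R ⧸ p₀) (S ⧸ p) := by
    constructor
    intro x
    have h1 : IsAlgebraic p₀.ResidueField (algebraMap (S ⧸ p) p.ResidueField x) :=
      Algebra.IsAlgebraic.isAlgebraic _
    have h2 : IsAlgebraic (R ⧸ p₀) (algebraMap (S ⧸ p) p.ResidueField x) :=
      (IsFractionRing.isAlgebraic_iff (R ⧸ p₀) p₀.ResidueField p.ResidueField).mpr h1
    exact (isAlgebraic_algebraMap_iff
      (FaithfulSMul.algebraMap_injective (S ⧸ p) p.ResidueField)).mp h2
  have : Algebra.FiniteType (R ⧸ p₀) (S ⧸ p) := .of_restrictScalars_finiteType R _ _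
  have : Algebra.QuasiFinite (R ⧸ p₀) (S ⧸ p) :=
    quasiFinite_of_finiteType_of_isAlgebraic _ _ hinj
  exact Algebra.QuasiFinite.trans R (R ⧸ p₀) (S ⧸ p)

/-- Over a Noetherian ring of dimension at most one: if the finite type algebra `S` is quasi-finite at all
minimal primes contained in the prime `q`, then it is quasi-finite at `q`. -/
theorem quasiFiniteAt_of_minimalPrimes (R S : Type*) [CommRing R] [IsNoetherianRing R]
    [Ring.KrullDimLE 1 R] [CommRing S] [Algebra R S] [Algebra.FiniteType R S]
    (q : Ideal S) [hq : q.IsPrime]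
    (h : ∀ p ∈ minimalPrimes S, p ≤ q → ∀ [p.IsPrime], Algebra.QuasiFiniteAt R p) :
    Algebra.QuasiFiniteAt R q := by
  classical
  have hN : IsNoetherianRing S := Algebra.FiniteType.isNoetherianRing R S
  have hquot : ∀ p ∈ minimalPrimes S, p ≤ q → Algebra.QuasiFinite R (S ⧸ p) := by
    intro p hp hpq
    have hpp : p.IsPrime := hp.1.1
    have hqf : Algebra.QuasiFiniteAt R p := h p hp hpq
    exact quasiFinite_quotient_of_quasiFiniteAt R S p
  have heq : ∀ p ∈ minimalPrimes S, p ≤ q → ∀ (a b : Ideal S) [a.IsPrime] [b.IsPrime], p ≤ a → a ≤ b →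
      a.under R = b.under R → a = b := by
    intro p hp hpq a b _ _ hpa hab hab'
    have := hquot p hp hpq
    have hsa : Function.Surjective (Ideal.Quotient.mk p) := Ideal.Quotient.mk_surjective
    have ha : (a.map (Ideal.Quotient.mk p)).IsPrime :=
      Ideal.map_isPrime_of_surjective hsa (by rwa [Ideal.mk_ker])
    have hb : (b.map (Ideal.Quotient.mk p)).IsPrime :=
      Ideal.map_isPrime_of_surjective hsa (by rw [Ideal.mk_ker]; exact hpa.trans hab)
    have hac : (a.map (Ideal.Quotient.mk p)).comap (Ideal.Quotient.mk p) = a := by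
      rw [Ideal.comap_map_of_surjective' _ hsa, Ideal.mk_ker, sup_eq_left]
      exact hpa
    have hbc : (b.map (Ideal.Quotient.mk p)).comap (Ideal.Quotient.mk p) = b := by
      rw [Ideal.comap_map_of_surjective' _ hsa, Ideal.mk_ker, sup_eq_left]
      exact hpa.trans hab
    have h1 := Algebra.QuasiFinite.eq_of_le_of_under_eq (R := R)
      (a.map (Ideal.Quotient.mk p)) (b.map (Ideal.Quotient.mk p)) (Ideal.map_mono hab) (by
        have e : ∀ J : Ideal (S ⧸ p), J.under R = (J.comap (Ideal.Quotient.mk p)).under R :=
          fun J => rfl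
        rw [e, e, hac, hbc, hab'])
    rw [← hac, h1, hbc]
  let Z : Set (PrimeSpectrum S) :=
    PrimeSpectrum.comap (algebraMap R S) ⁻¹' {PrimeSpectrum.comap (algebraMap R S) ⟨q, hq⟩}
  let T₁ : Set (PrimeSpectrum S) := {t | t.asIdeal ∈ minimalPrimes S ∧ ¬ t.asIdeal ≤ q}
  let T₂ : Set (PrimeSpectrum S) :=
    {t | t ∈ Z ∧ t.asIdeal ≠ q ∧ ∃ p ∈ minimalPrimes S, p ≤ q ∧ p ≤ t.asIdeal}
  have hT₁ : T₁.Finite := by
    refine Set.Finite.subset ?_ (fun t ht => ht.1 : T₁ ⊆ {t | t.asIdeal ∈ minimalPrimes S})
    exact (minimalPrimes.finite_of_isNoetherianRing S).preimage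
      (fun a _ b _ hab => PrimeSpectrum.ext hab)
  have hT₂ : T₂.Finite := by
    have h1 : T₂ ⊆ ⋃ p ∈ {p | p ∈ minimalPrimes S ∧ p ≤ q},
        PrimeSpectrum.comap (Ideal.Quotient.mk p) ''
          (PrimeSpectrum.comap (algebraMap R (S ⧸ p)) ⁻¹'
            {PrimeSpectrum.comap (algebraMap R S) ⟨q, hq⟩}) := by
      rintro t ⟨htZ, -, p, hp, hpq, hpt⟩
      refine Set.mem_biUnion ⟨hp, hpq⟩ ?_
      have h2 : t ∈ Set.range (PrimeSpectrum.comap (Ideal.Quotient.mk p)) := by
        rw [range_comap_of_surjective _ _ Ideal.Quotient.mk_surjective, Ideal.mk_ker]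
        exact hpt
      obtain ⟨t', rfl⟩ := h2
      exact ⟨t', htZ, rfl⟩
    refine Set.Finite.subset (Set.Finite.biUnion ?_ ?_) h1
    · exact (minimalPrimes.finite_of_isNoetherianRing S).subset fun p hp => hp.1
    · rintro p ⟨hp, hpq⟩
      have := hquot p hp hpq
      exact (Algebra.QuasiFinite.finite_comap_preimage_singleton _).image _
  refine (Algebra.quasiFiniteAt_iff_isOpen_singleton_fiber (⟨q, hq⟩ : PrimeSpectrum S)).mpr ?_
  rw [isOpen_induced_iff]
  refine ⟨(⋃ t ∈ T₁ ∪ T₂, closure {t})ᶜ, ?_, ?_⟩
  · rw [isOpen_compl_iff]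
    exact (hT₁.union hT₂).isClosed_biUnion fun _ _ => isClosed_closure
  · ext ⟨t, ht⟩
    simp only [Set.mem_preimage, Set.mem_compl_iff, Set.mem_iUnion, not_exists,
      Set.mem_singleton_iff]
    constructor
    · intro H
      by_contra hne
      obtain ⟨p, hp, hpt⟩ := Ideal.exists_minimalPrimes_le (I := (⊥ : Ideal S)) (J := t.asIdeal) bot_le
      by_cases hpq : p ≤ q
      · exact H t (Or.inr ⟨ht, fun h => hne (Subtype.ext (PrimeSpectrum.ext h)), p, hp, hpq, hpt⟩)
          (subset_closure rfl)
      · exact H ⟨p, hp.1.1⟩ (Or.inl ⟨hp, hpq⟩)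
          ((PrimeSpectrum.le_iff_mem_closure _ _).mp hpt)
    · intro htq s hs hqs
      obtain rfl : t = ⟨q, hq⟩ := congrArg Subtype.val htq
      have hsq : s.asIdeal ≤ q := (PrimeSpectrum.le_iff_mem_closure s ⟨q, hq⟩).mpr hqs
      rcases hs with hs | hs
      · exact hs.2 hsq
      · obtain ⟨hsZ, hsne, p, hp, hpq, hps⟩ := hs
        exact hsne (heq p hp hpq s.asIdeal q hps hsq (congrArg PrimeSpectrum.asIdeal hsZ))

/-- Local version: `A` Noetherian of dimension at most one, `C` a local ring essentially of finite type
over `A` and quasi-finite at all minimal primes of `C`; then `C` is quasi-finite over `A`. -/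
theorem quasiFinite_of_essFiniteType_of_isLocalRing (A C : Type*) [CommRing A] [IsNoetherianRing A]
    [Ring.KrullDimLE 1 A] [CommRing C] [IsLocalRing C] [Algebra A C] [Algebra.EssFiniteType A C]
    (h : ∀ P ∈ minimalPrimes C, ∀ [P.IsPrime], Algebra.QuasiFiniteAt A P) :
    Algebra.QuasiFinite A C := by
  let S := Algebra.EssFiniteType.subalgebra A C
  let M := Algebra.EssFiniteType.submonoid A C
  have hM : IsLocalization M C := Algebra.EssFiniteType.isLocalization A C
  have hft : Algebra.FiniteType A S := inferInstance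
  let q : Ideal S := (IsLocalRing.maximalIdeal C).comap (algebraMap S C)
  have hq : q.IsPrime := inferInstance
  have hMq : M = q.primeCompl := by
    ext a
    change IsUnit (algebraMap S C a) ↔ ¬ (algebraMap S C a ∈ IsLocalRing.maximalIdeal C)
    rw [IsLocalRing.mem_maximalIdeal, mem_nonunits_iff, not_not]
  have hC : IsLocalization.AtPrime C q := by
    have := hM
    rw [hMq] at this
    exact this
  have key : Algebra.QuasiFiniteAt A q := by
    refine quasiFiniteAt_of_minimalPrimes A S q ?_
    intro p hp hpq hpp
    have hdisj : Disjoint (M : Set S) (p : Set S) := by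
      rw [hMq, Set.disjoint_left]
      intro a ha hap
      exact ha (hpq hap)
    have hP : (p.map (algebraMap S C)).IsPrime :=
      IsLocalization.isPrime_of_isPrime_disjoint M C p hpp hdisj
    have hPc : (p.map (algebraMap S C)).comap (algebraMap S C) = p :=
      IsLocalization.under_map_of_isPrime_disjoint M C hpp hdisj
    have hPmin : p.map (algebraMap S C) ∈ minimalPrimes C := by
      refine ⟨⟨hP, bot_le⟩, ?_⟩
      rintro Q ⟨hQ, -⟩ hQP
      have h1 : Q.comap (algebraMap S C) ≤ p := by
        rw [← hPc]
        exact Ideal.comap_mono hQP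
      have h2 := hp.2 ⟨Ideal.IsPrime.comap (algebraMap S C) (K := Q), bot_le⟩ h1
      exact Ideal.map_le_iff_le_comap.mpr h2
    have hqf := h _ hPmin
    have hloc : IsLocalization.AtPrime (Localization.AtPrime (p.map (algebraMap S C)))
        ((p.map (algebraMap S C)).comap (algebraMap S C)) :=
      IsLocalization.isLocalization_isLocalization_atPrime_isLocalization M _ _
    have hloc' : IsLocalization p.primeCompl (Localization.AtPrime (p.map (algebraMap S C))) := by
      have e : ((p.map (algebraMap S C)).comap (algebraMap S C)).primeCompl = p.primeCompl := by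
        ext a
        change ¬ _ ↔ ¬ _
        rw [hPc]
      have := hloc
      unfold IsLocalization.AtPrime at this
      rwa [e] at this
    let e : Localization.AtPrime (p.map (algebraMap S C)) ≃ₐ[S] Localization.AtPrime p :=
      IsLocalization.algEquiv p.primeCompl _ _
    exact (Algebra.QuasiFinite.iff_of_algEquiv (e.restrictScalars A)).mp hqf
  let e : Localization.AtPrime q ≃ₐ[S] C := IsLocalization.algEquiv q.primeCompl _ _
  exact (Algebra.QuasiFinite.iff_of_algEquiv (e.restrictScalars A)).mp key

end Groth.Agent.VarietyB.QFinDimOne
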