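import Groth.Prelude.Def_CurvBase
import Mathlib.AlgebraicGeometry.PullbackCarrier
import Mathlib.AlgebraicGeometry.AffineScheme

/-!
# Affine charts of the base change of a scheme over a field

For an affine chart `i : Spec A ⟶ X` (open immersion over `k`) the induced morphism
`Spec (A ⊗[k] K) ⟶ X_K` is an open immersion, cartesian over `i`; every point of `X_K` lies in the image of
such a chart, and the stalks of `X_K` are the localizations of `A ⊗[k] K` at primes.
-/

set_option autoImplicit false

universe u

open CategoryTheory CategoryTheory.Limits AlgebraicGeometry TensorProduct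

namespace Groth.Agent.VarietyB.BcChart

section

variable (k : Type u) [Field k] (X : Scheme.{u}) [X.Over (Spec (CommRingCat.of k))]
  (K : Type u) [Field K] [Algebra k K]

/-- The morphism `Spec (A ⊗[k] K) ⟶ X_K` attached to a morphism `Spec A ⟶ X` over `k`. -/
noncomputable def chart {A : Type u} [CommRing A] [Algebra k A] (i : Spec (CommRingCat.of A) ⟶ X)
    (hi : i ≫ (X ↘ Spec (CommRingCat.of k)) = Spec.map (CommRingCat.ofHom (algebraMap k A))) :
    Spec (CommRingCat.of (A ⊗[k] K)) ⟶ Curv2.bc k X K :=
  pullback.lift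
    (Spec.map (CommRingCat.ofHom (Algebra.TensorProduct.includeLeftRingHom : A →+* A ⊗[k] K)) ≫ i)
    (Spec.map (CommRingCat.ofHom
      (Algebra.TensorProduct.includeRight : K →ₐ[k] A ⊗[k] K).toRingHom)) (by
      rw [Category.assoc, hi]
      exact (isPullback_SpecMap_of_isPushout _ _ _ _
        (CommRingCat.isPushout_tensorProduct k A K)).w)

variable {A : Type u} [CommRing A] [Algebra k A] (i : Spec (CommRingCat.of A) ⟶ X)
    (hi : i ≫ (X ↘ Spec (CommRingCat.of k)) = Spec.map (CommRingCat.ofHom (algebraMap k A)))

@[reassoc (attr := simp)]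
theorem chart_fst : chart k X K i hi ≫ Curv2.bcFst k X K =
    Spec.map (CommRingCat.ofHom (Algebra.TensorProduct.includeLeftRingHom : A →+* A ⊗[k] K)) ≫ i :=
  pullback.lift_fst _ _ _

@[reassoc (attr := simp)]
theorem chart_snd : chart k X K i hi ≫ Curv2.bcSnd k X K =
    Spec.map (CommRingCat.ofHom
      (Algebra.TensorProduct.includeRight : K →ₐ[k] A ⊗[k] K).toRingHom) :=
  pullback.lift_snd _ _ _

theorem isPullback_chart : IsPullback (chart k X K i hi)
    (Spec.map (CommRingCat.ofHom (Algebra.TensorProduct.includeLeftRingHom : A →+* A ⊗[k] K)))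
    (Curv2.bcFst k X K) i := by
  have h1 : IsPullback (Curv2.bcSnd k X K) (Curv2.bcFst k X K)
      (Spec.map (CommRingCat.ofHom (algebraMap k K))) (X ↘ Spec (CommRingCat.of k)) :=
    (IsPullback.of_hasPullback _ _).flip
  have h2 : IsPullback
      (Spec.map (CommRingCat.ofHom
        (Algebra.TensorProduct.includeRight : K →ₐ[k] A ⊗[k] K).toRingHom))
      (Spec.map (CommRingCat.ofHom (Algebra.TensorProduct.includeLeftRingHom : A →+* A ⊗[k] K)))
      (Spec.map (CommRingCat.ofHom (algebraMap k K)))
      (Spec.map (CommRingCat.ofHom (algebraMap k A))) :=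
    (isPullback_SpecMap_of_isPushout _ _ _ _
        (CommRingCat.isPushout_tensorProduct k A K)).flip
  refine IsPullback.of_right (h₁₂ := Curv2.bcSnd k X K)
    (h₂₂ := X ↘ Spec (CommRingCat.of k)) ?_ (chart_fst k X K i hi) h1
  rw [chart_snd, hi]
  exact h2

theorem isOpenImmersion_chart [IsOpenImmersion i] : IsOpenImmersion (chart k X K i hi) :=
  MorphismProperty.of_isPullback (isPullback_chart k X K i hi).flip ‹_›

/-- A point of `X_K` over a point in the chart lies in the chart. -/
theorem exists_chart_eq (y : Curv2.bc k X K) (p : Spec (CommRingCat.of A))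
    (hp : i p = Curv2.bcFst k X K y) :
    ∃ q : Spec (CommRingCat.of (A ⊗[k] K)), chart k X K i hi q = y ∧
      Spec.map (CommRingCat.ofHom
        (Algebra.TensorProduct.includeLeftRingHom : A →+* A ⊗[k] K)) q = p :=
  Scheme.exists_preimage_of_isPullback (isPullback_chart k X K i hi) y p hp.symm

/-- The stalk of a scheme at a point in the image of an open immersion from an affine scheme. -/
noncomputable def stalkEquiv {Y : Scheme.{u}} {B : Type u} [CommRing B]
    (j : Spec (CommRingCat.of B) ⟶ Y) [IsOpenImmersion j] (q : Spec (CommRingCat.of B)) :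
    Y.presheaf.stalk (j q) ≃+* Localization.AtPrime q.asIdeal :=
  (asIso (j.stalkMap q)).commRingCatIsoToRingEquiv.trans
    (StructureSheaf.stalkIso B q).symm.toRingEquiv

end

section charts

variable (k : Type u) [Field k] (X : Scheme.{u}) [X.Over (Spec (CommRingCat.of k))]

/-- Every point of a `k`-scheme lies in an affine chart. -/
theorem exists_chart (x : X) : ∃ (A : Type u) (_ : CommRing A) (_ : Algebra k A)
    (i : Spec (CommRingCat.of A) ⟶ X) (_ : IsOpenImmersion i) (p : Spec (CommRingCat.of A)),
    i ≫ (X ↘ Spec (CommRingCat.of k)) = Spec.map (CommRingCat.ofHom (algebraMap k A)) ∧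
    i p = x := by
  obtain ⟨p, hp⟩ := X.affineCover.covers x
  let A : CommRingCat.{u} := X.affineOpenCover.X (X.affineCover.idx x)
  let i : Spec A ⟶ X := X.affineCover.f (X.affineCover.idx x)
  let φ : CommRingCat.of k ⟶ A := Spec.preimage (i ≫ (X ↘ Spec (CommRingCat.of k)))
  refine ⟨A, inferInstance, φ.hom.toAlgebra, i,
    inferInstanceAs (IsOpenImmersion (X.affineCover.f (X.affineCover.idx x))), p, ?_, hp⟩
  exact (Spec.map_preimage _).symm

end charts

end Groth.Agent.VarietyB.BcChart
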