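import Groth.Agent.Fdesc.GeomRed
import Mathlib.FieldTheory.PurelyInseparable.PerfectClosure
import Mathlib.RingTheory.LocalProperties.Reduced

/-!
# Geometric reducedness tested on finite purely inseparable extensions
-/

set_option autoImplicit false

universe u v

open TensorProduct

namespace Groth.Agent.VarietyB.PurelyInsep

/-- Finite subsets of the relative perfect closure lie in a finite purely inseparable extension. -/
theorem exists_finite_purelyInseparable {k : Type u} [Field k] {Ω : Type v} [Field Ω] [Algebra k Ω]
    (s : Finset (perfectClosure k Ω)) :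
    FiniteDimensional k (IntermediateField.adjoin k (s : Set (perfectClosure k Ω))) ∧
    IsPurelyInseparable k (IntermediateField.adjoin k (s : Set (perfectClosure k Ω))) := by
  constructor
  · exact IntermediateField.finiteDimensional_adjoin fun x _ ↦
      IsPurelyInseparable.isIntegral' k x
  · infer_instance

theorem isReduced_tensor_perfectClosure {k : Type u} [Field k] (Ω : Type u) [Field Ω]
    [Algebra k Ω] (A : Type v) [CommRing A] [Algebra k A]
    (h : ∀ (k' : Type u) [Field k'] [Algebra k k'] [FiniteDimensional k k']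
      [IsPurelyInseparable k k'], IsReduced (A ⊗[k] k')) :
    IsReduced (A ⊗[k] perfectClosure k Ω) := by
  refine IsReduced.tensorProduct_of_flat_of_forall_fg fun B hB ↦ ?_
  obtain ⟨s, hs⟩ := hB
  obtain ⟨h1, h2⟩ := exists_finite_purelyInseparable s
  have h3 := h (IntermediateField.adjoin k (s : Set (perfectClosure k Ω)))
  have hle : B ≤ (IntermediateField.adjoin k (s : Set (perfectClosure k Ω))).toSubalgebra := by
    rw [← hs]; exact IntermediateField.algebra_adjoin_le_adjoin k _
  exact isReduced_of_injective (Algebra.TensorProduct.map (AlgHom.id k A)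
    (Subalgebra.inclusion hle)) (Module.Flat.lTensor_preserves_injective_linearMap
      (Subalgebra.inclusion hle).toLinearMap (Subalgebra.inclusion_injective hle))

theorem isReduced_tensor_of_perfectField_tower (k : Type u) [Field k] (P : Type u) [Field P]
    [Algebra k P] [PerfectField P] (Ω : Type u) [Field Ω] [Algebra k Ω] [Algebra P Ω]
    [IsScalarTower k P Ω] (A : Type v) [CommRing A] [Algebra k A] [IsReduced (A ⊗[k] P)] :
    IsReduced (Ω ⊗[k] A) := by
  have h2 : IsReduced (P ⊗[k] A) :=
    isReduced_of_injective _ (Algebra.TensorProduct.comm k P A).injective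
  have h4 : IsReduced (Ω ⊗[P] (P ⊗[k] A)) :=
    Fdesc.GeomRed.isReduced_tensor_of_perfectField (k := P) (P ⊗[k] A) Ω
  exact isReduced_of_injective _
    (Algebra.TensorProduct.cancelBaseChange k P P Ω A).symm.injective

/-- A `k`-algebra which stays reduced after all finite purely inseparable extensions of `k` is
geometrically reduced. -/
theorem isGeometricallyReduced_of_forall_purelyInseparable (k : Type u) [Field k]
    (A : Type v) [CommRing A] [Algebra k A]
    (h : ∀ (k' : Type u) [Field k'] [Algebra k k'] [FiniteDimensional k k']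
      [IsPurelyInseparable k k'], IsReduced (A ⊗[k] k')) :
    Algebra.IsGeometricallyReduced k A := by
  rw [Algebra.isGeometricallyReduced_field_iff]
  have h1 : IsReduced (A ⊗[k] perfectClosure k (AlgebraicClosure k)) :=
    isReduced_tensor_perfectClosure _ A h
  exact isReduced_tensor_of_perfectField_tower k (perfectClosure k (AlgebraicClosure k))
    (AlgebraicClosure k) A

section Localization

variable (k : Type u) [Field k] {A : Type u} [CommRing A] [Algebra k A] (K : Type u) [Field K]
  [Algebra k K] (p : Ideal A) [p.IsPrime]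

/-- `A ⊗ K → A_p ⊗ K`. -/
noncomputable def tensorLoc : A ⊗[k] K →ₐ[k] Localization.AtPrime p ⊗[k] K :=
  Algebra.TensorProduct.map (IsScalarTower.toAlgHom k A (Localization.AtPrime p)) (AlgHom.id k K)

theorem isLocalization_tensorLoc :
    letI := (tensorLoc k K p).toAlgebra
    IsLocalization (Algebra.algebraMapSubmonoid (A ⊗[k] K) p.primeCompl)
      (Localization.AtPrime p ⊗[k] K) := by
  let _ := (tensorLoc k K p).toAlgebra
  have : IsScalarTower A (A ⊗[k] K) (Localization.AtPrime p ⊗[k] K) := by
    refine .of_algebraMap_eq fun a ↦ ?_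
    simp [RingHom.algebraMap_toAlgebra, tensorLoc]
  refine IsLocalization.tensorProduct_tensorProduct k K p.primeCompl (Localization.AtPrime p) ?_
  ext x
  simp [RingHom.algebraMap_toAlgebra, tensorLoc]

/-- Reducedness of the local rings of `A ⊗ K` over `p` follows from that of `A_p ⊗ K`. -/
theorem isReduced_atPrime_of_isReduced_tensor (q : Ideal (A ⊗[k] K)) [q.IsPrime]
    (hq : q.comap (algebraMap A (A ⊗[k] K)) = p)
    [IsReduced (Localization.AtPrime p ⊗[k] K)] : IsReduced (Localization.AtPrime q) := by
  let _ := (tensorLoc k K p).toAlgebra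
  have hloc := isLocalization_tensorLoc k K p
  refine ⟨fun z hz ↦ ?_⟩
  obtain ⟨n, hn⟩ := hz
  obtain ⟨u, s, rfl⟩ := IsLocalization.exists_mk'_eq q.primeCompl z
  rw [← IsLocalization.mk'_pow, IsLocalization.mk'_eq_zero_iff] at hn
  obtain ⟨t, ht⟩ := hn
  have h1 : (tensorLoc k K p (t * u)) ^ (n + 1) = 0 := by
    rw [← map_pow, mul_pow]
    have : (t : A ⊗[k] K) ^ (n + 1) * u ^ (n + 1) = t ^ n * u * (t * u ^ n) := by ring
    rw [this, ht, mul_zero, map_zero]
  have h2 : tensorLoc k K p (t * u) = 0 := pow_eq_zero_iff (by omega) |>.mp h1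
  obtain ⟨m, hm⟩ := (IsLocalization.map_eq_zero_iff
    (Algebra.algebraMapSubmonoid (A ⊗[k] K) p.primeCompl)
    (Localization.AtPrime p ⊗[k] K) _).mp h2
  rw [IsLocalization.mk'_eq_zero_iff]
  obtain ⟨m', hm', hm''⟩ := m.2
  have hmq : (m : A ⊗[k] K) ∉ q := by
    intro h
    rw [← hm''] at h
    have : m' ∈ p := by rw [← hq]; exact h
    exact hm' this
  refine ⟨⟨m * t, ?_⟩, by rw [mul_assoc]; exact hm⟩
  exact fun h ↦ (‹q.IsPrime›.mem_or_mem h).elim hmq t.2

/-- If all local rings of `A ⊗ K` at primes over `p` are reduced, and `K` is algebraic over `k`, then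
`A_p ⊗ K` is reduced. -/
theorem isReduced_tensor_atPrime [Algebra.IsAlgebraic k K]
    (h : ∀ (q : Ideal (A ⊗[k] K)) [q.IsPrime], q.comap (algebraMap A (A ⊗[k] K)) = p →
      IsReduced (Localization.AtPrime q)) : IsReduced (Localization.AtPrime p ⊗[k] K) := by
  let _ := (tensorLoc k K p).toAlgebra
  have hloc := isLocalization_tensorLoc k K p
  have hst : IsScalarTower A (A ⊗[k] K) (Localization.AtPrime p ⊗[k] K) := by
    refine .of_algebraMap_eq fun a ↦ ?_
    simp [RingHom.algebraMap_toAlgebra, tensorLoc]
  refine isReduced_ofLocalizationMaximal _ fun m hm ↦ ?_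
  let q : Ideal (A ⊗[k] K) := m.comap (algebraMap (A ⊗[k] K) (Localization.AtPrime p ⊗[k] K))
  have hq : q.comap (algebraMap A (A ⊗[k] K)) = p := by
    have : Algebra.IsIntegral (Localization.AtPrime p) (Localization.AtPrime p ⊗[k] K) :=
      inferInstance
    have hmax := Ideal.isMaximal_comap_of_isIntegral_of_isMaximal (R := Localization.AtPrime p) m
    have h2 := IsLocalRing.eq_maximalIdeal hmax
    rw [Ideal.comap_comap, ← IsScalarTower.algebraMap_eq,
      IsScalarTower.algebraMap_eq A (Localization.AtPrime p), ← Ideal.comap_comap, h2]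
    exact IsLocalization.AtPrime.under_maximalIdeal _ p
  have h3 := h q hq
  have h4 : IsLocalization.AtPrime (Localization.AtPrime m) q :=
    IsLocalization.isLocalization_isLocalization_atPrime_isLocalization
      (Algebra.algebraMapSubmonoid (A ⊗[k] K) p.primeCompl) (Localization.AtPrime m) m
  exact isReduced_of_injective _
    (IsLocalization.algEquiv q.primeCompl (Localization.AtPrime m) (Localization.AtPrime q)).injective

end Localization

end Groth.Agent.VarietyB.PurelyInsep
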