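import Groth.Prelude.Def_Curv2
import Groth.Agent.VarietyB.BcChart
import Groth.Agent.VarietyB.PurelyInsep

/-!
# Geometric reducedness at a point, in an affine chart
-/

set_option autoImplicit false

universe u

open CategoryTheory CategoryTheory.Limits AlgebraicGeometry TensorProduct

namespace Groth.Agent.VarietyB.GeomRedAt

variable (k : Type u) [Field k] (X : Scheme.{u}) [X.Over (Spec (CommRingCat.of k))]
variable {A : Type u} [CommRing A] [Algebra k A] (i : Spec (CommRingCat.of A) ⟶ X)
    [IsOpenImmersion i]
    (hi : i ≫ (X ↘ Spec (CommRingCat.of k)) = Spec.map (CommRingCat.ofHom (algebraMap k A)))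

include hi

/-- The local rings of `A ⊗ K` at primes over `p` are the local rings of `X_K` at points over
`i p`. -/
theorem forall_stalk_iff (K : Type u) [Field K] [Algebra k K] (p : Spec (CommRingCat.of A))
    (P : ∀ (R : Type u) [CommRing R], Prop)
    (hP : ∀ (R S : Type u) [CommRing R] [CommRing S] (_ : R ≃+* S), P R → P S) :
    (∀ y : Curv2.bc k X K, Curv2.bcFst k X K y = i p → P ((Curv2.bc k X K).presheaf.stalk y)) ↔
    (∀ (q : Ideal (A ⊗[k] K)) [q.IsPrime], q.comap (algebraMap A (A ⊗[k] K)) = p.asIdeal →
      P (Localization.AtPrime q)) := by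
  have hc := BcChart.isOpenImmersion_chart k X K i hi
  constructor
  · intro h q _ hq
    let q' : Spec (CommRingCat.of (A ⊗[k] K)) := ⟨q, inferInstance⟩
    have h1 : Curv2.bcFst k X K (BcChart.chart k X K i hi q') = i p := by
      rw [← Scheme.Hom.comp_apply, BcChart.chart_fst, Scheme.Hom.comp_apply]
      congr 1
      exact PrimeSpectrum.ext hq
    exact hP _ _ (BcChart.stalkEquiv (BcChart.chart k X K i hi) q') (h _ h1)
  · intro h y hy
    obtain ⟨q, rfl, hq2⟩ := BcChart.exists_chart_eq k X K i hi y p hy.symm
    refine hP _ _ (BcChart.stalkEquiv (BcChart.chart k X K i hi) q).symm (h q.asIdeal ?_)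
    rw [← hq2]
    rfl

theorem isReduced_iff (K : Type u) [Field K] [Algebra k K] (p : Spec (CommRingCat.of A)) :
    (∀ y : Curv2.bc k X K, Curv2.bcFst k X K y = i p →
      IsReduced ((Curv2.bc k X K).presheaf.stalk y)) ↔
    (∀ (q : Ideal (A ⊗[k] K)) [q.IsPrime], q.comap (algebraMap A (A ⊗[k] K)) = p.asIdeal →
      IsReduced (Localization.AtPrime q)) :=
  forall_stalk_iff k X i hi K p (fun R _ => IsReduced R)
    (fun _ _ _ _ e h => isReduced_of_injective e.symm e.symm.injective)

/-- If the local rings of `X_{k'}` over `x` are reduced for all finite purely inseparable `k'`, then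
the local ring at `x` is geometrically reduced. -/
theorem isGeometricallyReduced_atPrime (p : Spec (CommRingCat.of A))
    (h : ∀ (k' : Type u) [Field k'] [Algebra k k'] [FiniteDimensional k k']
      [IsPurelyInseparable k k'] (y : Curv2.bc k X k'), Curv2.bcFst k X k' y = i p →
      IsReduced ((Curv2.bc k X k').presheaf.stalk y)) :
    Algebra.IsGeometricallyReduced k (Localization.AtPrime p.asIdeal) := by
  refine PurelyInsep.isGeometricallyReduced_of_forall_purelyInseparable k _ fun k' _ _ _ _ ↦ ?_
  exact PurelyInsep.isReduced_tensor_atPrime k k' p.asIdeal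
    ((isReduced_iff k X i hi k' p).mp (h k'))

/-- If the local ring at `x` is geometrically reduced then `X` is geometrically reduced at `x`. -/
theorem isGeomReducedAt_of_isGeometricallyReduced (p : Spec (CommRingCat.of A))
    [Algebra.IsGeometricallyReduced k (Localization.AtPrime p.asIdeal)] :
    Curv2.IsGeomReducedAt k X (i p) := by
  intro K _ _
  refine (isReduced_iff k X i hi K p).mpr fun q _ hq ↦ ?_
  have h1 : IsReduced (K ⊗[k] Localization.AtPrime p.asIdeal) :=
    Fdesc.GeomRed.isReduced_tensor_of_isGeometricallyReduced _ _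
  have h2 : IsReduced (Localization.AtPrime p.asIdeal ⊗[k] K) :=
    isReduced_of_injective _ (Algebra.TensorProduct.comm k _ K).injective
  exact PurelyInsep.isReduced_atPrime_of_isReduced_tensor k K p.asIdeal q hq

/-- Geometric reducedness at a point in terms of the localization of a chart. -/
theorem isGeomReducedAt_iff (p : Spec (CommRingCat.of A)) :
    Curv2.IsGeomReducedAt k X (i p) ↔
      Algebra.IsGeometricallyReduced k (Localization.AtPrime p.asIdeal) :=
  ⟨fun h ↦ isGeometricallyReduced_atPrime k X i hi p fun k' _ _ _ _ y hy ↦ h k' y hy,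
    fun _ ↦ isGeomReducedAt_of_isGeometricallyReduced k X i hi p⟩

omit hi in
/-- Geometric reducedness at a point can be tested on finite purely inseparable extensions. -/
theorem isGeomReducedAt_iff_purelyInseparable (x : X) :
    Curv2.IsGeomReducedAt k X x ↔
      ∀ (k' : Type u) [Field k'] [Algebra k k'] [FiniteDimensional k k'] [IsPurelyInseparable k k']
        (x' : Curv2.bc k X k'), Curv2.bcFst k X k' x' = x →
          IsReduced ((Curv2.bc k X k').presheaf.stalk x') := by
  refine ⟨fun h k' _ _ _ _ y hy ↦ h k' y hy, fun h ↦ ?_⟩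
  obtain ⟨A, _, _, i, _, p, hi, rfl⟩ := BcChart.exists_chart k X x
  exact (isGeomReducedAt_iff k X i hi p).mpr (isGeometricallyReduced_atPrime k X i hi p h)

end Groth.Agent.VarietyB.GeomRedAt
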