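import Mathlib.AlgebraicGeometry.AffineScheme
import Mathlib.RingTheory.Ideal.Height
import Mathlib.RingTheory.Ideal.Quotient.Operations

/-!
Immediate specializations and heights.
-/

set_option autoImplicit false

universe u

open CategoryTheory CategoryTheory.Limits AlgebraicGeometry

namespace Groth.Agent.VarietyB.CovBy

/-- If there is no prime strictly between `q < P`, the height of `P/q` is one. -/
theorem height_map_eq_one {A : Type*} [CommRing A] (q P : Ideal A) [q.IsPrime] [P.IsPrime]
    (h : q ≤ P) (hne : q ≠ P)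
    (himm : ∀ r : Ideal A, r.IsPrime → q ≤ r → r ≤ P → r = q ∨ r = P) :
    (P.map (Ideal.Quotient.mk q)).height = 1 := by
  have hker : RingHom.ker (Ideal.Quotient.mk q) ≤ P := by rwa [Ideal.mk_ker]
  have hP' : (P.map (Ideal.Quotient.mk q)).IsPrime :=
    Ideal.map_isPrime_of_surjective Ideal.Quotient.mk_surjective hker
  have hcm : (P.map (Ideal.Quotient.mk q)).comap (Ideal.Quotient.mk q) = P := by
    rw [Ideal.comap_map_of_surjective' _ Ideal.Quotient.mk_surjective, sup_eq_left.mpr hker]
  have hcb : (⊥ : Ideal (A ⧸ q)).comap (Ideal.Quotient.mk q) = q := by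
    rw [← RingHom.ker_eq_comap_bot, Ideal.mk_ker]
  have hbot : (⊥ : Ideal (A ⧸ q)) < P.map (Ideal.Quotient.mk q) := by
    rw [bot_lt_iff_ne_bot]
    intro h0
    rw [h0, hcb] at hcm
    exact hne hcm
  apply le_antisymm
  · have : (P.map (Ideal.Quotient.mk q)).height ≤ ((1 : ℕ) : ℕ∞) := by
      rw [Ideal.height_le_iff]
      intro r hr hlt
      have hr' : (r.comap (Ideal.Quotient.mk q)).IsPrime := Ideal.IsPrime.comap _
      have h1 : q ≤ r.comap (Ideal.Quotient.mk q) := by
        conv_lhs => rw [← hcb]
        exact Ideal.comap_mono bot_le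
      have h2 : r.comap (Ideal.Quotient.mk q) ≤ P := by
        conv_rhs => rw [← hcm]
        exact Ideal.comap_mono hlt.le
      have hinj := Ideal.comap_injective_of_surjective (Ideal.Quotient.mk q)
        Ideal.Quotient.mk_surjective
      rcases himm _ hr' h1 h2 with h3 | h3
      · have h4 : r = ⊥ := by
          apply hinj
          rw [h3, hcb]
        subst h4
        rw [Ideal.height_bot]
        simp
      · exfalso
        apply hlt.ne
        apply hinj
        rw [h3, hcm]
    exact_mod_cast this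
  · have h1 : (⊥ : Ideal (A ⧸ q)).height + 1 ≤ (P.map (Ideal.Quotient.mk q)).height :=
      Ideal.height_add_one_le_of_lt_of_isPrime hbot
    rwa [Ideal.height_bot, zero_add] at h1

/-- Points of an affine open and primes: specialization. -/
theorem primeIdealOf_le_iff {X : Scheme.{u}} {U : X.Opens} (hU : IsAffineOpen U) (x y : U) :
    hU.primeIdealOf x ≤ hU.primeIdealOf y ↔ (x : X) ⤳ (y : X) := by
  have h := hU.fromSpec.isOpenEmbedding.isInducing.specializes_iff (x := hU.primeIdealOf x)
    (y := hU.primeIdealOf y)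
  rw [hU.fromSpec_primeIdealOf, hU.fromSpec_primeIdealOf] at h
  rw [PrimeSpectrum.le_iff_specializes]
  exact h.symm

theorem primeIdealOf_fromSpec {X : Scheme.{u}} {U : X.Opens} (hU : IsAffineOpen U)
    (p : PrimeSpectrum Γ(X, U)) (h : hU.fromSpec p ∈ U) :
    hU.primeIdealOf ⟨hU.fromSpec p, h⟩ = p :=
  hU.fromSpec.isOpenEmbedding.injective (hU.fromSpec_primeIdealOf _)

/-- Immediate specializations in an affine open. -/
theorem immediate_of_immediate {X : Scheme.{u}} {U : X.Opens} (hU : IsAffineOpen U)
    (x x' : U) (hne : x ≠ x') (himm : ∀ y : X, (x : X) ⤳ y → y ⤳ (x' : X) → y = x ∨ y = x') :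
    (hU.primeIdealOf x).asIdeal ≠ (hU.primeIdealOf x').asIdeal ∧
    ∀ r : Ideal Γ(X, U), r.IsPrime → (hU.primeIdealOf x).asIdeal ≤ r →
      r ≤ (hU.primeIdealOf x').asIdeal →
      r = (hU.primeIdealOf x).asIdeal ∨ r = (hU.primeIdealOf x').asIdeal := by
  have hrange : ∀ p : PrimeSpectrum Γ(X, U), hU.fromSpec p ∈ U := fun p ↦ by
    have : hU.fromSpec p ∈ Set.range hU.fromSpec := ⟨p, rfl⟩
    rwa [hU.range_fromSpec] at this
  constructor
  · intro h
    apply hne
    have h1 : hU.primeIdealOf x = hU.primeIdealOf x' := PrimeSpectrum.ext h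
    have h2 := congrArg hU.fromSpec h1
    rw [hU.fromSpec_primeIdealOf, hU.fromSpec_primeIdealOf] at h2
    exact Subtype.ext h2
  · intro r hr h1 h2
    let p : PrimeSpectrum Γ(X, U) := ⟨r, hr⟩
    let y : U := ⟨hU.fromSpec p, hrange p⟩
    have hy : hU.primeIdealOf y = p := primeIdealOf_fromSpec hU p _
    have h3 : (x : X) ⤳ (y : X) := by
      rw [← primeIdealOf_le_iff hU, hy]
      exact h1
    have h4 : (y : X) ⤳ (x' : X) := by
      rw [← primeIdealOf_le_iff hU, hy]
      exact h2
    rcases himm y h3 h4 with h5 | h5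
    · left
      have : y = x := Subtype.ext h5
      rw [← this, hy]
    · right
      have : y = x' := Subtype.ext h5
      rw [← this, hy]

end Groth.Agent.VarietyB.CovBy
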