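import Groth.Agent.VarietyB.KrullAkizuki
import Mathlib.RingTheory.DedekindDomain.AdicValuation
import Mathlib.RingTheory.DedekindDomain.IntegralClosure
import Mathlib.RingTheory.DedekindDomain.Factorization
import Mathlib.RingTheory.KrullDimension.Field
import Mathlib.RingTheory.Valuation.ValuationSubring
import Mathlib.GroupTheory.ArchimedeanDensely

/-!
# Normalization of one-dimensional (semi-local) Noetherian domains (Stacks 09N2, 09N5)
-/

universe u v

namespace Groth.Agent.VarietyB.SemilocalDedekind

open Module IsDedekindDomain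

theorem dimensionLEOne (B : Type*) [CommRing B] [IsDomain B] [Ring.KrullDimLE 1 B] :
    Ring.DimensionLEOne B where
  maximalOfPrime := fun h1 h2 ↦ h2.isMaximal_of_ne_bot h1

theorem krullDimLE_one (B : Type*) [CommRing B] (h : ringKrullDim B = 1) :
    Ring.KrullDimLE 1 B := by
  rw [Ring.KrullDimLE, Order.krullDimLE_iff]
  exact h.le

theorem not_isField (B : Type*) [CommRing B] (h : ringKrullDim B = 1) : ¬ IsField B := fun h' ↦ by
  rw [ringKrullDim_eq_zero_of_isField h'] at h
  exact absurd h (by norm_num)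

section KA

/-- The integral closure of a one-dimensional Noetherian domain in a finite extension of its
fraction field is a Dedekind domain (Krull--Akizuki). -/
theorem isDedekindDomain_of_isIntegralClosure
    (B K L C : Type*) [CommRing B] [IsDomain B] [IsNoetherianRing B] [Ring.KrullDimLE 1 B]
    [Field K] [Algebra B K] [IsFractionRing B K]
    [Field L] [Algebra K L] [FiniteDimensional K L] [Algebra B L] [IsScalarTower B K L]
    [CommRing C] [Algebra C L] [IsIntegralClosure C B L] [Algebra B C] [IsScalarTower B C L] :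
    IsDedekindDomain C :=
  have hinj : Function.Injective (algebraMap C L) := IsIntegralClosure.algebraMap_injective C B L
  have : IsDomain C := hinj.isDomain
  have : Algebra.IsAlgebraic K L := inferInstance
  have : IsFractionRing C L := IsIntegralClosure.isFractionRing_of_finite_extension B K L C
  have : Algebra.IsIntegral B C := IsIntegralClosure.isIntegral_algebra B L
  have := dimensionLEOne B
  { KrullAkizuki.krullAkizuki (R := B) (K := K) (L := L) hinj,
    Ring.DimensionLEOne.of_isIntegral B C,
    (isIntegrallyClosed_iff L).mpr fun {x} hx =>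
      ⟨IsIntegralClosure.mk' C x (isIntegral_trans (R := B) _ hx),
        IsIntegralClosure.algebraMap_mk' _ _ _⟩ with : IsDedekindDomain C }

end KA

section semilocal

variable (B : Type*) [CommRing B] [IsDomain B]

/-- In a domain with finitely many maximal ideals which is not a field, the intersection of all
maximal ideals is nonzero. -/
theorem exists_mem_jacobson_ne_zero (hsl : Finite (MaximalSpectrum B)) (hf : ¬ IsField B) :
    ∃ a : B, a ≠ 0 ∧ ∀ m : MaximalSpectrum B, a ∈ m.asIdeal := by
  have h (m : MaximalSpectrum B) : ∃ a : B, a ≠ 0 ∧ a ∈ m.asIdeal := by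
    have h1 : m.asIdeal ≠ ⊥ := by
      have := m.isMaximal
      exact Ring.ne_bot_of_isMaximal_of_not_isField m.isMaximal hf
    obtain ⟨a, h1, h2⟩ := Submodule.exists_mem_ne_zero_of_ne_bot h1
    exact ⟨a, h2, h1⟩
  choose a ha1 ha2 using h
  classical
  have := Fintype.ofFinite (MaximalSpectrum B)
  refine ⟨∏ m, a m, Finset.prod_ne_zero_iff.2 fun m _ ↦ ha1 m, fun m ↦ ?_⟩
  rw [← Finset.mul_prod_erase Finset.univ a (Finset.mem_univ m)]
  exact Ideal.mul_mem_right _ _ (ha2 m)

theorem finite_maximalSpectrum (hsl : Finite (MaximalSpectrum B)) (hf : ¬ IsField B)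
    (C : Type*) [CommRing C] [IsDedekindDomain C] [Algebra B C] [Algebra.IsIntegral B C]
    (hinj : Function.Injective (algebraMap B C)) : Finite (MaximalSpectrum C) := by
  obtain ⟨a, ha0, ha⟩ := exists_mem_jacobson_ne_zero B hsl hf
  have hC : ¬ IsField C := fun h ↦ hf (isField_of_isIntegral_of_isField hinj h)
  have ha' : Ideal.span {algebraMap B C a} ≠ 0 := by
    rw [ne_eq, Ideal.zero_eq_bot, Ideal.span_singleton_eq_bot, map_eq_zero_iff _ hinj]
    exact ha0
  have h1 : {v : HeightOneSpectrum C | v.asIdeal ∣ Ideal.span {algebraMap B C a}}.Finite :=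
    Ideal.finite_factors ha'
  have h2 (m : MaximalSpectrum C) : algebraMap B C a ∈ m.asIdeal := by
    have := m.isMaximal
    have : (m.asIdeal.comap (algebraMap B C)).IsMaximal :=
      Ideal.isMaximal_comap_of_isIntegral_of_isMaximal m.asIdeal
    exact ha ⟨m.asIdeal.comap (algebraMap B C), this⟩
  have := h1.to_subtype
  refine Finite.of_injective (β := {v : HeightOneSpectrum C | v.asIdeal ∣ Ideal.span {algebraMap B C a}})
    (fun m ↦ ⟨⟨m.asIdeal, m.isMaximal.isPrime,
      Ring.ne_bot_of_isMaximal_of_not_isField m.isMaximal hC⟩, ?_⟩) ?_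
  · show m.asIdeal ∣ _
    rw [Ideal.dvd_span_singleton]
    exact h2 m
  · intro m m' h
    have : m.asIdeal = m'.asIdeal := congrArg (fun v ↦ v.1.asIdeal) h
    exact MaximalSpectrum.ext this

/-- Elements of `B` lying in the Jacobson radical of an integral overring are in the
Jacobson radical. -/
theorem mem_jacobson_of_algebraMap_mem {B : Type*} [CommRing B] {C : Type*} [CommRing C]
    [Algebra B C] [Algebra.IsIntegral B C] (hinj : Function.Injective (algebraMap B C)) {b : B}
    (hb : algebraMap B C b ∈ (⊥ : Ideal C).jacobson) : b ∈ (⊥ : Ideal B).jacobson := by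
  rw [Ideal.mem_jacobson_bot] at hb
  rw [Ideal.jacobson, Ideal.mem_sInf]
  rintro m ⟨-, hm⟩
  obtain ⟨M, hM, hM'⟩ := Ideal.exists_ideal_over_maximal_of_isIntegral (S := C) m (by
    rw [(RingHom.injective_iff_ker_eq_bot _).1 hinj]; exact bot_le)
  rw [← hM', Ideal.mem_comap]
  have h : algebraMap B C b ∈ (⊥ : Ideal C).jacobson := Ideal.mem_jacobson_bot.2 hb
  rw [Ideal.jacobson, Ideal.mem_sInf] at h
  exact h ⟨bot_le, hM⟩

variable [Ring.KrullDimLE 1 B] {K : Type*} [Field K] [Algebra B K] [IsFractionRing B K]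

/-- Stacks 09N2, last assertion. -/
theorem exists_pow_mul_mem (x y : integralClosure B K)
    (hx : x ∈ (⊥ : Ideal (integralClosure B K)).jacobson) :
    ∃ n : ℕ, (x ^ n * y).1 ∈ (algebraMap B K).range := by
  let D : Subalgebra B K := Algebra.adjoin B {x.1, y.1}
  have hxD : x.1 ∈ D := Algebra.subset_adjoin (by simp)
  have hyD : y.1 ∈ D := Algebra.subset_adjoin (by simp)
  have hDC : D ≤ integralClosure B K := by
    refine Algebra.adjoin_le ?_
    rintro z (rfl | rfl)
    · exact x.2
    · exact y.2
  have hfg : (Subalgebra.toSubmodule D).FG :=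
    fg_adjoin_of_finite (Set.toFinite _) (by
      rintro z (rfl | rfl)
      · exact x.2
      · exact y.2)
  have := dimensionLEOne B
  have hDint : Algebra.IsIntegral B D := ⟨fun z ↦ by
    have : IsIntegral B z.1 := hDC z.2
    exact (isIntegral_algebraMap_iff (A := D) (B := K) Subtype.val_injective).1 this⟩
  have : Ring.DimensionLEOne D := Ring.DimensionLEOne.of_isIntegral B D
  let _ : Algebra D (integralClosure B K) := (Subalgebra.inclusion hDC).toRingHom.toAlgebra
  have : IsScalarTower B D (integralClosure B K) := IsScalarTower.of_algebraMap_eq fun _ ↦ rfl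
  have : Algebra.IsIntegral B (integralClosure B K) := inferInstance
  have : Algebra.IsIntegral D (integralClosure B K) := Algebra.IsIntegral.tower_top B
  have hinj : Function.Injective (algebraMap D (integralClosure B K)) :=
    Subalgebra.inclusion_injective hDC
  -- the conductor
  let I : Ideal D :=
    { carrier := {z | ∀ w : D, (z * w).1 ∈ (algebraMap B K).range}
      add_mem' := by
        intro a b ha hb w
        rw [add_mul]
        exact add_mem (ha w) (hb w)
      zero_mem' := by
        intro w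
        rw [zero_mul]
        exact zero_mem _
      smul_mem' := by
        intro c z hz w
        rw [smul_eq_mul, mul_comm c z, mul_assoc]
        exact hz _ }
  have hI0 : I ≠ ⊥ := by
    obtain ⟨c, hc, h⟩ := FractionalIdeal.isFractional_of_fg (S := nonZeroDivisors B) hfg
    intro h0
    have h1 : algebraMap B D c ∈ I := by
      intro w
      obtain ⟨r, hr⟩ := h w.1 w.2
      refine ⟨r, ?_⟩
      rw [hr, Algebra.smul_def]
      rfl
    rw [h0, Ideal.mem_bot] at h1
    have h2 : algebraMap B K c = 0 := congrArg Subtype.val h1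
    rw [map_eq_zero_iff _ (IsFractionRing.injective B K)] at h2
    exact nonZeroDivisors.ne_zero hc h2
  have hxD' : (⟨x.1, hxD⟩ : D) ∈ (⊥ : Ideal D).jacobson :=
    mem_jacobson_of_algebraMap_mem hinj hx
  have hrad : (⟨x.1, hxD⟩ : D) ∈ I.radical := by
    rw [Ideal.radical_eq_sInf, Ideal.mem_sInf]
    rintro P ⟨hIP, hP⟩
    have hP0 : P ≠ ⊥ := fun h ↦ hI0 (le_bot_iff.1 (h ▸ hIP))
    have hPm : P.IsMaximal := hP.isMaximal hP0
    rw [Ideal.jacobson, Ideal.mem_sInf] at hxD'
    exact hxD' ⟨bot_le, hPm⟩
  obtain ⟨n, hn⟩ := hrad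
  exact ⟨n, hn ⟨y.1, hyD⟩⟩

end semilocal

section valuations

open scoped WithZero

variable {K : Type*} [Field K]

theorem exists_pow_lt {x y : ℤᵐ⁰} (hx : 1 < x) : ∃ n : ℕ, y < x ^ n := by
  obtain ⟨n, hn⟩ := MulArchimedean.arch y hx
  refine ⟨n + 1, hn.trans_lt ?_⟩
  rw [pow_succ]
  exact lt_mul_of_one_lt_right (pow_pos (zero_lt_one.trans hx) _) hx

/-- If for each of finitely many discrete valuations the subring `A` contains an element with a
pole, then some element of `A` has a pole at each of them. -/
theorem exists_forall_one_lt {J : Type*} (w : J → Valuation K ℤᵐ⁰) (A : Subring K)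
    (h : ∀ j, ∃ a ∈ A, 1 < w j a) (s : Finset J) : ∃ x ∈ A, x ≠ 0 ∧ ∀ j ∈ s, 1 < w j x := by
  classical
  induction s using Finset.induction_on with
  | empty => exact ⟨1, A.one_mem, one_ne_zero, by simp⟩
  | insert j s hj ih =>
    obtain ⟨x, hxA, hx0, hx⟩ := ih
    obtain ⟨y, hyA, hy⟩ := h j
    by_cases hjx : 1 < w j x
    · refine ⟨x, hxA, hx0, fun i hi ↦ ?_⟩
      rcases Finset.mem_insert.1 hi with rfl | hi
      · exact hjx
      · exact hx i hi
    rw [not_lt] at hjx
    have hN : ∃ N : ℕ, ∀ i ∈ s, max 1 (w i y) < w i x ^ N := by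
      have h1 : ∀ i, ∃ n : ℕ, i ∈ s → max 1 (w i y) < w i x ^ n := fun i ↦ by
        by_cases hi : i ∈ s
        · obtain ⟨n, hn⟩ := exists_pow_lt (y := max 1 (w i y)) (hx i hi)
          exact ⟨n, fun _ ↦ hn⟩
        · exact ⟨0, fun h ↦ absurd h hi⟩
      choose n hn using h1
      refine ⟨s.sup n, fun i hi ↦ (hn i hi).trans_le ?_⟩
      exact pow_le_pow_right₀ (hx i hi).le (Finset.le_sup hi)
    obtain ⟨N, hN⟩ := hN
    have key : ∀ i ∈ insert j s, 1 < w i (x ^ N + y) := by
      intro i hi
      rcases Finset.mem_insert.1 hi with rfl | hi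
      · have h1 : w i (x ^ N) < w i y := by
          rw [map_pow]
          exact (pow_le_one₀ zero_le hjx).trans_lt hy
        rw [Valuation.map_add_eq_of_lt_right _ h1]
        exact hy
      · have h1 : w i y < w i (x ^ N) := by
          rw [map_pow]
          exact (le_max_right _ _).trans_lt (hN i hi)
        rw [Valuation.map_add_eq_of_lt_left _ h1, map_pow]
        exact (le_max_left _ _).trans_lt (hN i hi)
    refine ⟨x ^ N + y, A.add_mem (A.pow_mem hxA N) hyA, ?_, key⟩
    intro h0
    have := key j (Finset.mem_insert_self _ _)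
    rw [h0, map_zero] at this
    exact absurd this (by simp)

theorem exists_one_lt_of_sup_eq_top {C : Type*} [CommRing C] [IsDedekindDomain C] [Algebra C K]
    [IsFractionRing C K] (A B : Subring K) (hB : ∀ b ∈ B, b ∈ (algebraMap C K).range)
    (h : A ⊔ B = ⊤) (v : HeightOneSpectrum C) : ∃ a ∈ A, 1 < v.valuation K a := by
  by_contra hcon
  push Not at hcon
  have h1 : A ⊔ B ≤ (v.valuation K).valuationSubring.toSubring := by
    refine sup_le (fun a ha ↦ hcon a ha) (fun b hb ↦ ?_)
    obtain ⟨c, rfl⟩ := hB b hb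
    exact v.valuation_le_one c
  rw [h, top_le_iff] at h1
  obtain ⟨π, hπ⟩ := v.valuation_exists_uniformizer K
  have h2 : π⁻¹ ∈ (v.valuation K).valuationSubring.toSubring := h1 ▸ Subring.mem_top _
  have h3 : v.valuation K π⁻¹ ≤ 1 := h2
  rw [map_inv₀, hπ, ← WithZero.exp_neg, neg_neg, ← WithZero.exp_zero, WithZero.exp_le_exp] at h3
  exact absurd h3 (by norm_num)

theorem inv_mem_jacobson {C : Type*} [CommRing C] [IsDedekindDomain C] [Algebra C K]
    [IsFractionRing C K] (hC : ¬ IsField C) (x : K)
    (hx : ∀ v : HeightOneSpectrum C, 1 < v.valuation K x) :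
    ∃ c : C, c ∈ (⊥ : Ideal C).jacobson ∧ algebraMap C K c = x⁻¹ := by
  have h1 : ∀ v : HeightOneSpectrum C, v.valuation K x⁻¹ < 1 := fun v ↦ by
    rw [map_inv₀]
    exact inv_lt_one_of_one_lt₀ (hx v)
  obtain ⟨c, hc⟩ := HeightOneSpectrum.mem_integers_of_valuation_le_one K x⁻¹ (fun v ↦ (h1 v).le)
  refine ⟨c, ?_, hc⟩
  rw [Ideal.jacobson, Ideal.mem_sInf]
  rintro M ⟨-, hM⟩
  let v : HeightOneSpectrum C := ⟨M, hM.isPrime, Ring.ne_bot_of_isMaximal_of_not_isField hM hC⟩
  have h2 := h1 v
  rw [← hc, HeightOneSpectrum.valuation_lt_one_iff_mem] at h2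
  exact h2

end valuations

end Groth.Agent.VarietyB.SemilocalDedekind
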