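import Groth.Agent.VarietyB.LiftInvStep

/-!
# Lifting invertible modules along closed immersions in dimension at most one
-/

set_option autoImplicit false
universe u

open CategoryTheory CategoryTheory.Limits AlgebraicGeometry Opposite TopologicalSpace

namespace Groth.Agent.VarietyB.LiftInvFinal

open Groth.Agent.Fdesc.LocGen
open AlgebraicGeometry.Scheme.Modules
open Groth.Agent.VarietyB.LiftInvGlue Groth.Agent.VarietyB.LiftInvTop
open Groth.Agent.VarietyB.LiftInvStep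

/-- A morphism which locally maps a generator to a generator is an isomorphism. -/
theorem isIso_of_isGen {X : Scheme.{u}} {M N : X.Modules} (θ : M ⟶ N)
    (h : ∀ x : X, ∃ (O : X.Opens) (e : Γ(M, O)), x ∈ O ∧ IsGen e ∧ IsGen (θ.app O e)) :
    IsIso θ := by
  choose O e hxO he he' using h
  have key : ∀ (x : X) (V : X.Opens) (hV : V ≤ O x), Function.Bijective (θ.app V) := by
    intro x V hV
    have h1 := he x V hV
    have h2 := he' x V hV
    have h3 : (fun a : Γ(X, V) => a • res N hV (θ.app (O x) (e x))) =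
        θ.app V ∘ fun a : Γ(X, V) => a • res M hV (e x) := by
      funext a
      rw [Function.comp_apply, Hom.app_smul, app_res]
    rw [h3] at h2
    exact (Function.Bijective.of_comp_iff _ h1).mp h2
  rw [Scheme.Modules.Hom.isIso_iff_isIso_app]
  intro V
  rw [ConcreteCategory.isIso_iff_bijective]
  have hcov : V ≤ ⨆ x : X, V ⊓ O x := fun x hx => Opens.mem_iSup.mpr ⟨x, hx, hxO x⟩
  constructor
  · intro a b hab
    refine res_ext M (fun x => V ⊓ O x) (fun x => inf_le_left) hcov fun x => ?_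
    apply (key x (V ⊓ O x) inf_le_right).1
    rw [app_res, app_res, hab]
  · intro n
    choose m hm using fun x : X => (key x (V ⊓ O x) inf_le_right).2 (res N inf_le_left n)
    obtain ⟨t, ht⟩ := res_glue M (V := V) (fun x => V ⊓ O x) (fun x => inf_le_left) hcov m (by
      intro x y
      apply (key x ((V ⊓ O x) ⊓ (V ⊓ O y)) (inf_le_left.trans inf_le_right)).1
      rw [app_res, app_res, hm, hm, res_res, res_res])
    refine ⟨t, res_ext N (fun x => V ⊓ O x) (fun x => inf_le_left) hcov fun x => ?_⟩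
    rw [← app_res, ht, hm]

variable {X Z : Scheme.{u}} {i : Z ⟶ X} {L : Z.Modules}

lemma hom_inv_app {Y : Scheme.{u}} {A B : Y.Modules} (α : A ≅ B) (O : Y.Opens) (n : Γ(B, O)) :
    α.hom.app O (α.inv.app O n) = n := by
  have h3 : α.inv ≫ α.hom = 𝟙 _ := by simp
  exact congr(($(h3).app O) n)

/-- A good lift over the whole space. -/
theorem of_top {M : ((⊤ : X.Opens) : Scheme.{u}).Modules}
    (ψ : M ⟶ (F i L).restrict (⊤ : X.Opens).ι) (hψ : Good (⊤ : X.Opens).ι ψ) :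
    ∃ (L' : X.Modules) (ψ' : L' ⟶ F i L), ∀ x : X, ∃ (O : X.Opens) (e : Γ(L', O)), x ∈ O ∧
      IsGen e ∧ IsGen (show Γ(L, i ⁻¹ᵁ O) from ψ'.app O e) := by
  let c : X ⟶ ((⊤ : X.Opens) : Scheme.{u}) := X.topIso.inv
  have hc : c ≫ (⊤ : X.Opens).ι = 𝟙 X := by simp [c]
  let G := F i L
  refine ⟨M.restrict c, (restrictFunctor c).map ψ ≫ (comp (𝟙 X) c (⊤ : X.Opens).ι hc G).inv ≫
    restrictFunctorId.hom.app G, fun x => ?_⟩
  obtain ⟨O, e, hxO, he, he'⟩ := hψ (c x)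
  have hcO : c ''ᵁ (c ⁻¹ᵁ O) ≤ O := c.image_preimage_le O
  refine ⟨c ⁻¹ᵁ O, toRestrict c (res M hcO e), hxO, ?_, ?_⟩
  · rw [isGen_toRestrict_iff]
    exact he.res _
  · let α := comp (𝟙 X) c (⊤ : X.Opens).ι hc G
    let n₀ : Γ(G.restrict (⊤ : X.Opens).ι, c ''ᵁ (c ⁻¹ᵁ O)) :=
      ψ.app (c ''ᵁ (c ⁻¹ᵁ O)) (res M hcO e)
    let n : Γ((G.restrict (⊤ : X.Opens).ι).restrict c, c ⁻¹ᵁ O) := toRestrict c n₀
    let m : Γ(G, (𝟙 X : X ⟶ X) ''ᵁ (c ⁻¹ᵁ O)) := α.inv.app (c ⁻¹ᵁ O) n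
    have h1 : res G (comp_le (𝟙 X) c (⊤ : X.Opens).ι hc (c ⁻¹ᵁ O)) m =
        down (⊤ : X.Opens).ι (down c n) := by
      have h3 : α.hom.app (c ⁻¹ᵁ O) (α.inv.app (c ⁻¹ᵁ O) n) = n := hom_inv_app α (c ⁻¹ᵁ O) n
      exact (comp_hom_app (𝟙 X) c (⊤ : X.Opens).ι hc G (c ⁻¹ᵁ O) m).symm.trans h3
    have h2' : n₀ = res (G.restrict (⊤ : X.Opens).ι) hcO (ψ.app O e) := app_res ψ hcO e
    have h2 : down (⊤ : X.Opens).ι (down c n) =
        res G ((⊤ : X.Opens).ι.image_mono hcO) (down (⊤ : X.Opens).ι (ψ.app O e)) :=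
      congrArg (down (⊤ : X.Opens).ι) h2'
    have h4 : IsGen (show Γ(L, i ⁻¹ᵁ ((⊤ : X.Opens).ι ''ᵁ (c ''ᵁ (c ⁻¹ᵁ O)))) from
        res L (i.preimage_mono (comp_le (𝟙 X) c (⊤ : X.Opens).ι hc (c ⁻¹ᵁ O))) m) := by
      have h5 : IsGen (res L (i.preimage_mono ((⊤ : X.Opens).ι.image_mono hcO))
        (toL (⊤ : X.Opens).ι (ψ.app O e))) := he'.res _
      have h6 : (res L (i.preimage_mono (comp_le (𝟙 X) c (⊤ : X.Opens).ι hc (c ⁻¹ᵁ O))) m) =
        (res L (i.preimage_mono ((⊤ : X.Opens).ι.image_mono hcO))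
        (toL (⊤ : X.Opens).ι (ψ.app O e))) := h1.trans h2
      rw [h6]
      exact h5
    have h7 : (⊤ : X.Opens).ι ''ᵁ (c ''ᵁ (c ⁻¹ᵁ O)) = (𝟙 X : X ⟶ X) ''ᵁ (c ⁻¹ᵁ O) := by
      rw [← Scheme.Hom.comp_image]
      simp [hc]
    have h8 : IsGen (show Γ(L, i ⁻¹ᵁ ((𝟙 X : X ⟶ X) ''ᵁ (c ⁻¹ᵁ O))) from m) :=
      (isGen_congr (congrArg (fun W => i ⁻¹ᵁ W) h7) _).mp h4
    have h9 : c ⁻¹ᵁ O ≤ (𝟙 X : X ⟶ X) ''ᵁ (c ⁻¹ᵁ O) := by simp
    exact h8.res (i.preimage_mono h9)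

/-- **The lifting theorem** (Stacks 09NY). -/
theorem exists_lift [IsClosedImmersion i] [NoetherianSpace X] (hdim : topologicalKrullDim X ≤ 1)
    (hL : PicF.IsInvertible L) :
    ∃ L' : X.Modules, PicF.IsInvertible L' ∧
      Nonempty ((Scheme.Modules.pullback i).obj L' ≅ L) := by
  let P : X.Opens → Prop := fun U => ∃ (M : (U : Scheme.{u}).Modules)
    (ψ : M ⟶ (F i L).restrict U.ι), Good U.ι ψ
  have hbot : P ⊥ := ⟨Coh.structureModule _, 0, fun x => x.2.elim⟩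
  obtain ⟨U, hU, hmax⟩ := WellFounded.has_min (wellFounded_gt (α := X.Opens)) {U | P U} ⟨⊥, hbot⟩
  have htop : U = ⊤ := by
    by_contra hne
    obtain ⟨z, hz⟩ : ∃ z, z ∉ U := by
      by_contra h
      push Not at h
      exact hne (top_le_iff.mp fun x _ => h x)
    obtain ⟨M, ψ, hψ⟩ := hU
    obtain ⟨B, K, φ, hzB, hφ⟩ := step hdim hL ψ hψ z hz
    refine hmax (U ⊔ B) ⟨K, φ, hφ⟩ (lt_of_le_of_ne le_sup_left fun h => hz ?_)
    rw [h]
    exact Or.inr hzB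
  subst htop
  obtain ⟨M, ψ, hψ⟩ := hU
  obtain ⟨L', ψ', h⟩ := of_top ψ hψ
  refine ⟨L', (isInvertible_iff L').mpr fun x => ?_, ?_⟩
  · obtain ⟨O, e, hx, he, -⟩ := h x
    exact ⟨O, e, hx, he⟩
  · let θ := ((pullbackPushforwardAdjunction i).homEquiv L' L).symm ψ'
    have hθ : (pullbackPushforwardAdjunction i).homEquiv L' L θ = ψ' :=
      Equiv.apply_symm_apply _ _
    have : IsIso θ := by
      refine isIso_of_isGen θ fun z => ?_
      obtain ⟨O, e, hx, he, he'⟩ := h (i z)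
      refine ⟨i ⁻¹ᵁ O, pullSec i e, hx, he.pullSec i, ?_⟩
      have h1 := homEquiv_app i θ e
      rw [hθ] at h1
      rw [← h1]
      exact he'
    exact ⟨asIso θ⟩

end Groth.Agent.VarietyB.LiftInvFinal
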