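import Groth.Agent.VarietyB.SepGen
import Groth.Agent.S1640

/-!
# A Cartier datum cutting out the complement of an affine open (Stacks 09NB)
-/

universe u

open CategoryTheory CategoryTheory.Limits AlgebraicGeometry TopologicalSpace Opposite

namespace Groth.Agent.VarietyB.CartierDatum

section range

variable {A K : Type*} [CommRing A] [Field K] [Algebra A K] [IsFractionRing A K]

/-- A domain is isomorphic to its image in its fraction field. -/
noncomputable def rangeEquiv : A ≃+* (algebraMap A K).range :=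
  RingEquiv.ofBijective (algebraMap A K).rangeRestrict
    ⟨fun _ _ h ↦ IsFractionRing.injective A K (congrArg Subtype.val h),
      (algebraMap A K).rangeRestrict_surjective⟩

theorem isFractionRing_range : IsFractionRing (algebraMap A K).range K :=
  IsFractionRing.of_ringEquiv_left (K := K) (rangeEquiv (A := A) (K := K)).symm (by
    intro x
    obtain ⟨a, rfl⟩ := (rangeEquiv (A := A) (K := K)).surjective x
    rw [RingEquiv.symm_apply_apply]
    rfl)

end range

variable {X : Scheme.{u}} [IsIntegral X]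

theorem algebraMap_germ {V : X.Opens} (_ : Nonempty V) {x : X} (hx : x ∈ V) (s : Γ(X, V)) :
    algebraMap (X.presheaf.stalk x) X.functionField (X.presheaf.germ V x hx s) =
      X.germToFunctionField V s :=
  Scheme.algebraMap_germ_eq_germToFunctionField X hx s

theorem germToFunctionField_map {V W : X.Opens} (hW : Nonempty W) (hV : Nonempty V) (i : W ≤ V)
    (s : Γ(X, V)) : X.germToFunctionField W (X.presheaf.map (homOfLE i).op s) =
      X.germToFunctionField V s := by
  exact X.presheaf.germ_res_apply (homOfLE i) _ _ s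

theorem exists_datum (X : Scheme.{u}) [IsIntegral X] [X.IsSeparated]
    (U : X.Opens) (hU : IsAffineOpen U) (hne : (U : Set X).Nonempty) (hfin : ((U : Set X)ᶜ).Finite)
    (hloc : ∀ x : X, x ∉ U → IsNoetherianRing (X.presheaf.stalk x) ∧
      ringKrullDim (X.presheaf.stalk x) = 1) :
    ∃ (U' : X.Opens) (f : Γ(X, U)) (g : Γ(X, U')), U ⊔ U' = ⊤ ∧
      X.presheaf.map (homOfLE (inf_le_left : U ⊓ U' ≤ U)).op f *
        X.presheaf.map (homOfLE (inf_le_right : U ⊓ U' ≤ U')).op g = 1 ∧
      ∀ x, x ∉ U → ∃ hx : x ∈ U', ¬ IsUnit (X.presheaf.germ U' x hx g) := by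
  have hneU : Nonempty U := ⟨⟨hne.some, hne.some_mem⟩⟩
  have hfr := functionField_isFractionRing_of_isAffineOpen X U hU
  have : Finite ((U : Set X)ᶜ : Set X) := hfin.to_subtype
  let r := Nat.card ((U : Set X)ᶜ : Set X)
  let e : Fin r ≃ ((U : Set X)ᶜ : Set X) := (Finite.equivFin _).symm
  have hr : ∀ i, ((e i).1 : X) ∉ U := fun i ↦ (e i).2
  let B : Fin r → Subring X.functionField := fun i ↦
    (algebraMap (X.presheaf.stalk (e i).1) X.functionField).range
  let A : Subring X.functionField := (algebraMap Γ(X, U) X.functionField).range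
  have h1 : IsFractionRing A X.functionField := isFractionRing_range
  have h2 : ∀ i, IsFractionRing (B i) X.functionField := fun i ↦ isFractionRing_range
  have h3 : ∀ i, IsNoetherianRing (B i) := fun i ↦ by
    have := (hloc _ (hr i)).1
    exact isNoetherianRing_of_ringEquiv _
      (rangeEquiv (A := X.presheaf.stalk (e i).1) (K := X.functionField))
  have h4 : ∀ i, ringKrullDim (B i) = 1 := fun i ↦ by
    rw [← (hloc _ (hr i)).2]
    exact (ringKrullDim_eq_of_ringEquiv
      (rangeEquiv (A := X.presheaf.stalk (e i).1) (K := X.functionField))).symm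
  have h5 : ∀ i, IsLocalRing (B i) := fun i ↦
    (rangeEquiv (A := X.presheaf.stalk (e i).1) (K := X.functionField)).isLocalRing
  have h6 : ∀ i, Finite (MaximalSpectrum (B i)) := fun i ↦ by
    have := h5 i
    refine Finite.of_injective (β := Unit) (fun _ ↦ ()) ?_
    intro m m' _
    exact MaximalSpectrum.ext ((IsLocalRing.eq_maximalIdeal m.isMaximal).trans
      (IsLocalRing.eq_maximalIdeal m'.isMaximal).symm)
  have h7 : ∀ i, A ⊔ B i = ⊤ := fun i ↦ by
    have : Ring.KrullDimLE 1 (X.presheaf.stalk (e i).1) :=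
      SemilocalDedekind.krullDimLE_one _ (hloc _ (hr i)).2
    exact SepGen.sup_eq_top X U hU _ (hr i)
  obtain ⟨f0, ⟨f, hf⟩, hf0, hB⟩ := S1640.result X.functionField A r B h4 h6 h7
  -- the germs of `f0⁻¹`
  have h8 : ∀ x : ((U : Set X)ᶜ : Set X), ∃ b : X.presheaf.stalk x.1,
      algebraMap _ X.functionField b = f0⁻¹ ∧ ¬ IsUnit b := fun x ↦ by
    obtain ⟨i, rfl⟩ := e.surjective x
    obtain ⟨⟨b, hb⟩, hb2⟩ := hB i
    refine ⟨b, hb, fun hu ↦ ?_⟩
    have := h5 i
    have hmem : (⟨f0⁻¹, ⟨b, hb⟩⟩ : B i) ∈ IsLocalRing.maximalIdeal (B i) := by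
      rw [Ideal.jacobson, Ideal.mem_sInf] at hb2
      exact hb2 ⟨bot_le, IsLocalRing.maximalIdeal.isMaximal _⟩
    refine (IsLocalRing.mem_maximalIdeal _).1 hmem ?_
    have : (⟨f0⁻¹, ⟨b, hb⟩⟩ : B i) =
        rangeEquiv (A := X.presheaf.stalk (e i).1) (K := X.functionField) b :=
      Subtype.ext hb.symm
    rw [this]
    exact hu.map _
  choose b hb hbu using h8
  have h9 := fun x : ((U : Set X)ᶜ : Set X) ↦ X.presheaf.exists_germ_eq (b x)
  choose V hxV g hg using h9
  have hVne : ∀ x, Nonempty (V x) := fun x ↦ ⟨⟨_, hxV x⟩⟩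
  have hgK : ∀ x, X.germToFunctionField (V x) (g x) = f0⁻¹ := fun x ↦ by
    rw [← algebraMap_germ (hVne x) (hxV x), hg, hb]
  have hcomp : X.presheaf.IsCompatible V g := by
    intro x y
    by_cases hxy : Nonempty (V x ⊓ V y : X.Opens)
    · apply Scheme.germToFunctionField_injective X (V x ⊓ V y)
      exact (germToFunctionField_map hxy (hVne x) inf_le_left (g x)).trans
        ((hgK x).trans ((hgK y).symm.trans
          (germToFunctionField_map hxy (hVne y) inf_le_right (g y)).symm))
    · have : (V x ⊓ V y : X.Opens) = ⊥ := by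
        by_contra h
        obtain ⟨z, hz⟩ := (Opens.ne_bot_iff_nonempty _).1 h
        exact hxy ⟨⟨z, hz⟩⟩
      have : Subsingleton Γ(X, V x ⊓ V y) := by
        rw [this]; exact inferInstance
      exact Subsingleton.elim _ _
  obtain ⟨gg, hgg⟩ : ∃ gg : Γ(X, iSup V),
      ∀ x, X.presheaf.map (homOfLE (le_iSup V x)).op gg = g x := by
    obtain ⟨gg, hgg, -⟩ := X.sheaf.existsUnique_gluing V g hcomp
    exact ⟨gg, hgg⟩
  refine ⟨iSup V, f, gg, ?_, ?_, ?_⟩
  · rw [eq_top_iff]
    intro x _
    by_cases hx : x ∈ U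
    · exact Or.inl hx
    · exact Or.inr (Opens.mem_iSup.2 ⟨⟨x, hx⟩, hxV ⟨x, hx⟩⟩)
  · by_cases hW : Nonempty (U ⊓ iSup V : X.Opens)
    · obtain ⟨⟨z, hzU, hzV⟩⟩ := hW
      have hW : Nonempty (U ⊓ iSup V : X.Opens) := ⟨⟨z, hzU, hzV⟩⟩
      obtain ⟨x, hzx⟩ := Opens.mem_iSup.1 hzV
      have hS : Nonempty (iSup V : X.Opens) := ⟨⟨z, hzV⟩⟩
      apply Scheme.germToFunctionField_injective X (U ⊓ iSup V)
      rw [map_mul, map_one, germToFunctionField_map hW hneU, germToFunctionField_map hW hS]
      have e1 : X.germToFunctionField (iSup V) gg = f0⁻¹ := by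
        rw [← hgK x, ← hgg x]
        exact (germToFunctionField_map (hVne x) hS (le_iSup V x) gg).symm
      have e2 : X.germToFunctionField U f = f0 := hf
      rw [e1, e2]
      exact mul_inv_cancel₀ hf0
    · have : (U ⊓ iSup V : X.Opens) = ⊥ := by
        by_contra h
        obtain ⟨z, hz⟩ := (Opens.ne_bot_iff_nonempty _).1 h
        exact hW ⟨⟨z, hz⟩⟩
      have : Subsingleton Γ(X, U ⊓ iSup V) := by
        rw [this]; exact inferInstance
      exact Subsingleton.elim _ _
  · intro x hx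
    have hxS : x ∈ iSup V := Opens.mem_iSup.2 ⟨⟨x, hx⟩, hxV ⟨x, hx⟩⟩
    refine ⟨hxS, ?_⟩
    have : X.presheaf.germ (iSup V) x hxS gg = b ⟨x, hx⟩ := by
      rw [← hg ⟨x, hx⟩, ← hgg ⟨x, hx⟩]
      exact (X.presheaf.germ_res_apply (Opens.leSupr V ⟨x, hx⟩) x (hxV ⟨x, hx⟩) gg).symm
    rw [this]
    exact hbu _

end Groth.Agent.VarietyB.CartierDatum
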