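import Groth.Agent.Fdesc.LocGen
import Groth.Prelude.Def_Curv2

/-!
# Global generation from sections whose generating loci cover
-/

universe u

open CategoryTheory CategoryTheory.Limits AlgebraicGeometry TopologicalSpace Opposite

namespace Groth.Agent.VarietyB.GlobGen

open Groth.Agent.Fdesc.LocGen

variable {X : Scheme.{u}}

/-- Morphisms out of `L` agreeing on sections whose generating loci cover `X` are equal. -/
theorem hom_ext_of_cover {L Z : X.Modules} {κ : Type*} (s : κ → (Coh.structureModule X ⟶ L))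
    (h : ∀ x : X, ∃ k, x ∈ CohB1.genLocus L (s k)) (h₁ h₂ : L ⟶ Z)
    (h' : ∀ k, s k ≫ h₁ = s k ≫ h₂) : h₁ = h₂ := by
  apply Scheme.Modules.hom_ext
  intro V
  ext m
  refine res_ext Z (fun k ↦ V ⊓ CohB1.genLocus L (s k)) (fun k ↦ inf_le_left) ?_ ?_
  · intro x hx
    obtain ⟨k, hk⟩ := h x
    exact Opens.mem_iSup.2 ⟨k, hx, hk⟩
  · intro k
    rw [← app_res, ← app_res]
    have hgen : IsGen (sec (s k) (V ⊓ CohB1.genLocus L (s k))) :=
      (le_genLocus_iff (s k) _).1 inf_le_right
    obtain ⟨a, ha⟩ := hgen.exists_eq (res L inf_le_left m)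
    rw [ha, Scheme.Modules.Hom.app_smul, Scheme.Modules.Hom.app_smul, ← sec_comp, ← sec_comp,
      h' k]

/-- The morphism from a free module attached to a family of sections. -/
noncomputable def desc {L : X.Modules} {κ : Type u} (s : κ → (Coh.structureModule X ⟶ L)) :
    (SheafOfModules.free κ : X.Modules) ⟶ L :=
  (Sigma.desc s : (∐ fun _ : κ ↦ Coh.structureModule X) ⟶ L)

theorem epi_desc_of_cover {L : X.Modules} {κ : Type u} (s : κ → (Coh.structureModule X ⟶ L))
    (h : ∀ x : X, ∃ k, x ∈ CohB1.genLocus L (s k)) : Epi (desc s) := by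
  have key : ∀ (Z : X.Modules) (h₁ h₂ : L ⟶ Z), desc s ≫ h₁ = desc s ≫ h₂ → h₁ = h₂ := by
    intro Z h₁ h₂ e
    refine hom_ext_of_cover s h h₁ h₂ fun k ↦ ?_
    have e1 : s k = Sigma.ι (fun _ : κ ↦ Coh.structureModule X) k ≫ desc s :=
      (Sigma.ι_desc (C := X.Modules) s k).symm
    rw [e1]
    exact (Category.assoc (obj := X.Modules) _ _ _).trans
      ((congrArg (fun t ↦ Sigma.ι (fun _ : κ ↦ Coh.structureModule X) k ≫ t) e).trans
        (Category.assoc (obj := X.Modules) _ _ _).symm)
  exact ⟨fun {Z} h₁ h₂ e ↦ key Z h₁ h₂ e⟩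

/-- A module is globally generated if the generating loci of some family of sections cover. -/
theorem isGloballyGenerated_of_cover {L : X.Modules} {κ : Type u}
    (s : κ → (Coh.structureModule X ⟶ L)) (h : ∀ x : X, ∃ k, x ∈ CohB1.genLocus L (s k)) :
    Curv2.IsGloballyGenerated L :=
  ⟨κ, desc s, epi_desc_of_cover s h⟩

end Groth.Agent.VarietyB.GlobGen
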