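import Groth.Agent.VarietyA.GlobGen
import Groth.Agent.Fdesc.PullbackStalk
import Mathlib.AlgebraicGeometry.Morphisms.Flat

/-!
# Global generation on stalks

* `span_germ_free`: the stalks of a free module are spanned by the germs of the basis sections.
* `epi_ofSec_iff`: sections `s i` define an epimorphism from the free module iff their germs span all stalks.
* `isGloballyGenerated_iff_span`: global generation iff the germs of global sections span all stalks.
* `isGloballyGenerated_pullback`: pullback of a globally generated module.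
-/

set_option autoImplicit false
universe u

open CategoryTheory CategoryTheory.Limits AlgebraicGeometry TopologicalSpace Opposite

namespace Groth.Agent.VarietyB.GGStalk

open Groth.Agent.Fdesc.Skyscraper Groth.Agent.Fdesc.PullbackStalk
open Groth.Agent.CycB.StalkExact Groth.Agent.VarietyA.StalkCrit Groth.Agent.VarietyA.GlobGen

variable {X : Scheme.{u}}

/-- The free module on `ι`. -/
noncomputable abbrev fr (X : Scheme.{u}) (ι : Type u) : X.Modules :=
  SheafOfModules.free (R := X.ringCatSheaf) ι

/-- the basis sections of the free module. -/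
noncomputable def frSec {ι : Type u} (i : ι) : Γ(fr X ι, ⊤) :=
  (SheafOfModules.freeSection (R := X.ringCatSheaf) i).1 (op ⊤)

/-- Two morphisms from a free module which agree on the basis sections are equal. -/
theorem free_hom_ext {ι : Type u} {N : X.Modules} {p q : fr X ι ⟶ N}
    (h : ∀ i : ι, p.app ⊤ (frSec i) = q.app ⊤ (frSec i)) : p = q := by
  apply (SheafOfModules.freeHomEquiv N).injective
  funext i
  rw [SheafOfModules.freeHomEquiv_apply, SheafOfModules.freeHomEquiv_apply]
  apply Subtype.ext
  funext U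
  have key : ∀ s : SheafOfModules.sections N, s.1 U = N.val.map (homOfLE (le_top (a := U.unop))).op (s.1 (op ⊤)) :=
    fun s => (s.2 (homOfLE (le_top (a := U.unop))).op).symm
  refine (key _).trans (Eq.trans ?_ (key _).symm)
  exact congrArg _ (h i)

/-- The morphism from the free module given by a family of global sections. -/
noncomputable def ofSec {ι : Type u} {M : X.Modules} (s : ι → Γ(M, ⊤)) : fr X ι ⟶ M :=
  (SheafOfModules.freeHomEquiv M).symm fun i => sectionsOf (s i)

@[simp] theorem ofSec_frSec {ι : Type u} {M : X.Modules} (s : ι → Γ(M, ⊤)) (i : ι) :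
    (ofSec s).app ⊤ (frSec i) = s i := by
  have h1 : SheafOfModules.sectionsMap (ofSec s) (SheafOfModules.freeSection i) = sectionsOf (s i) :=
    SheafOfModules.sectionsMap_freeHomEquiv_symm_freeSection _ _
  have h3 := congrArg (fun s : SheafOfModules.sections M => s.1 (op ⊤)) h1
  refine (h3.trans ?_ : _)
  change M.presheaf.map (𝟙 _) (s i) = s i
  rw [CategoryTheory.Functor.map_id]
  rfl

theorem eq_ofSec {ι : Type u} {M : X.Modules} (p : fr X ι ⟶ M) : p = ofSec fun i => p.app ⊤ (frSec i) :=
  free_hom_ext fun i => by rw [ofSec_frSec]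

theorem span_germ_free (ι : Type u) (x : X) :
    Submodule.span (X.presheaf.stalk x) (Set.range fun i : ι =>
      (fr X ι).presheaf.germ ⊤ x trivial (frSec i)) = ⊤ := by
  let N := Submodule.span (X.presheaf.stalk x) (Set.range fun i : ι =>
      (fr X ι).presheaf.germ ⊤ x trivial (frSec i))
  have h0 : toSky N.mkQ = 0 := by
    apply free_hom_ext
    intro i
    refine (funext fun h' => ?_ : (_ : Sec x _ ⊤) = _)
    refine (toSky_app_apply N.mkQ ⊤ (frSec i) h').trans ?_
    rw [Submodule.mkQ_apply]
    refine ((Submodule.Quotient.mk_eq_zero N).mpr (Submodule.subset_span ⟨i, rfl⟩)).trans ?_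
    rfl
  have h1 : N.mkQ = 0 := by
    rw [← ofSky_toSky N.mkQ, h0]
    ext m
    obtain ⟨U, hU, s, rfl⟩ := TopCat.Presheaf.exists_germ_eq (fr X ι).presheaf m
    rw [ofSky_germ]
    rfl
  exact (Submodule.ker_mkQ N).symm.trans (by rw [h1, LinearMap.ker_zero])

theorem range_stalkLin_ofSec {ι : Type u} {M : X.Modules} (s : ι → Γ(M, ⊤)) (x : X) :
    LinearMap.range (stalkLin (ofSec s) x) =
      Submodule.span (X.presheaf.stalk x) (Set.range fun i : ι => M.presheaf.germ ⊤ x trivial (s i)) := by
  rw [LinearMap.range_eq_map, ← span_germ_free ι x, Submodule.map_span, ← Set.range_comp]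
  congr 2
  funext i
  refine (stalkLin_germ (ofSec s) x (U := ⊤) trivial _).trans ?_
  rw [ofSec_frSec]

theorem epi_ofSec_iff {ι : Type u} {M : X.Modules} (s : ι → Γ(M, ⊤)) :
    Epi (ofSec s) ↔ ∀ x : X,
      Submodule.span (X.presheaf.stalk x) (Set.range fun i : ι => M.presheaf.germ ⊤ x trivial (s i)) = ⊤ := by
  constructor
  · intro h x
    rw [← range_stalkLin_ofSec, LinearMap.range_eq_top]
    exact stalkLin_surjective _ x
  · intro h
    refine epi_of_stalks _ fun x => ?_
    rw [← LinearMap.range_eq_top, range_stalkLin_ofSec]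
    exact h x

theorem isGloballyGenerated_iff_span (M : X.Modules) :
    Curv2.IsGloballyGenerated M ↔ ∀ x : X,
      Submodule.span (X.presheaf.stalk x) (Set.range fun s : Γ(M, ⊤) => M.presheaf.germ ⊤ x trivial s) = ⊤ := by
  constructor
  · rintro ⟨ι, p, hp⟩ x
    have hp' : Epi (ofSec fun i => Scheme.Modules.Hom.app (M := fr X ι) (N := M) p ⊤ (frSec i)) := by
      rw [← eq_ofSec]
      exact hp
    rw [epi_ofSec_iff] at hp'
    rw [eq_top_iff, ← hp' x]
    refine Submodule.span_mono ?_
    rintro _ ⟨i, rfl⟩
    exact ⟨_, rfl⟩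
  · intro h
    exact ⟨Γ(M, ⊤), ofSec id, (epi_ofSec_iff _).mpr h⟩

/-- For `S ⊆ M_{g y}` spanning, the image under the canonical map spans the stalk of the pullback. -/
theorem span_canAdd {Y : Scheme.{u}} (g : Y ⟶ X) (M : X.Modules) (y : Y)
    (S : Set (M.presheaf.stalk (g.base y))) (h : Submodule.span (X.presheaf.stalk (g.base y)) S = ⊤) :
    Submodule.span (Y.presheaf.stalk y) (canAdd g M y '' S) = ⊤ := by
  rw [eq_top_iff, ← span_range_canAdd g M y, Submodule.span_le]
  rintro _ ⟨t, rfl⟩
  have ht : t ∈ Submodule.span (X.presheaf.stalk (g.base y)) S := h ▸ Submodule.mem_top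
  induction ht using Submodule.span_induction with
  | mem t ht => exact Submodule.subset_span ⟨t, ht, rfl⟩
  | zero => rw [map_zero]; exact Submodule.zero_mem _
  | add a b _ _ ha hb => rw [map_add]; exact Submodule.add_mem _ ha hb
  | smul r a _ ha =>
    have : canAdd g M y (r • a) = g.stalkMap y r • canAdd g M y a := canAdd_smul g M y r a
    rw [SetLike.mem_coe, this]
    exact Submodule.smul_mem _ _ ha

/-- The pullback of a globally generated module is globally generated. -/
theorem isGloballyGenerated_pullback {Y : Scheme.{u}} (g : Y ⟶ X) (M : X.Modules)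
    (hM : Curv2.IsGloballyGenerated M) :
    Curv2.IsGloballyGenerated ((Scheme.Modules.pullback g).obj M) := by
  rw [isGloballyGenerated_iff_span] at hM ⊢
  intro y
  rw [eq_top_iff, ← span_canAdd g M y _ (hM (g.base y))]
  refine Submodule.span_mono ?_
  rintro _ ⟨_, ⟨s, rfl⟩, rfl⟩
  exact ⟨_, (canAdd_germ g M y ⊤ trivial s).symm⟩

open TensorProduct in
/-- Descent of spanning along a flat morphism. -/
theorem span_of_span_canAdd {Y : Scheme.{u}} (g : Y ⟶ X) [Flat g] (M : X.Modules) (y : Y)
    (S : Set (M.presheaf.stalk (g.base y)))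
    (h : Submodule.span (Y.presheaf.stalk y) (canAdd g M y '' S) = ⊤) :
    Submodule.span (X.presheaf.stalk (g.base y)) S = ⊤ := by
  let := stalkAlg g y
  have hff : Module.FaithfullyFlat (X.presheaf.stalk (g.base y)) (Y.presheaf.stalk y) :=
    @Module.FaithfullyFlat.of_flat_of_isLocalHom _ _ _ _ _ _ _
      (Flat.stalkMap g y) (g.toLRSHom.prop y)
  let N := Submodule.span (X.presheaf.stalk (g.base y)) S
  let Φ : ((Scheme.Modules.pullback g).obj M).presheaf.stalk y →ₗ[Y.presheaf.stalk y]
      (Y.presheaf.stalk y ⊗[X.presheaf.stalk (g.base y)] (M.presheaf.stalk (g.base y) ⧸ N)) :=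
    (N.mkQ.baseChange (Y.presheaf.stalk y)) ∘ₗ (stalkPullbackEquiv g M y).symm.toLinearMap
  have hΦ : ∀ t, Φ (canAdd g M y t) = 1 ⊗ₜ N.mkQ t := by
    intro t
    have : (stalkPullbackEquiv g M y).symm (canAdd g M y t) = 1 ⊗ₜ t := by
      rw [LinearEquiv.symm_apply_eq, stalkPullbackEquiv_tmul, one_smul]
    change (N.mkQ.baseChange (Y.presheaf.stalk y)) ((stalkPullbackEquiv g M y).symm (canAdd g M y t)) = _
    rw [this, LinearMap.baseChange_tmul]
  have h0 : Φ = 0 := by
    apply LinearMap.ext_on h
    rintro _ ⟨t, ht, rfl⟩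
    rw [hΦ, LinearMap.zero_apply, Submodule.mkQ_apply,
      (Submodule.Quotient.mk_eq_zero N).mpr (Submodule.subset_span ht), tmul_zero]
  have hs : Function.Surjective Φ := by
    have hs1 : Function.Surjective (N.mkQ.baseChange (Y.presheaf.stalk y)) :=
      LinearMap.lTensor_surjective (Y.presheaf.stalk y) N.mkQ_surjective
    exact hs1.comp (stalkPullbackEquiv g M y).symm.surjective
  have h1 : Subsingleton (Y.presheaf.stalk y ⊗[X.presheaf.stalk (g.base y)]
      (M.presheaf.stalk (g.base y) ⧸ N)) := by
    refine subsingleton_of_forall_eq 0 fun z => ?_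
    obtain ⟨m, rfl⟩ := hs z
    rw [h0, LinearMap.zero_apply]
  have h2 : Subsingleton (M.presheaf.stalk (g.base y) ⧸ N) :=
    (Module.FaithfullyFlat.subsingleton_tensorProduct_iff_right _ _).mp h1
  exact Submodule.Quotient.subsingleton_iff.mp h2

end Groth.Agent.VarietyB.GGStalk
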