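import Groth.Prelude.Def_Curv2
import Mathlib.RingTheory.Flat.FaithfullyFlat.Algebra
import Mathlib.RingTheory.Flat.TorsionFree
import Mathlib.RingTheory.Length
import Mathlib.RingTheory.Localization.BaseChange
import Mathlib.RingTheory.IntegralClosure.IsIntegralClosure.Basic

/-!
# The delta invariant does not decrease along faithfully flat ring maps
-/

set_option autoImplicit false
universe u

open TensorProduct nonZeroDivisors

namespace Groth.Agent.VarietyB.Delta

section

variable (A B : Type u) [CommRing A] [CommRing B] [Algebra A B]

theorem algebraMap_mem_nonZeroDivisors [Module.Flat A B] {a : A} (ha : a ∈ A⁰) :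
    algebraMap A B a ∈ B⁰ := by
  have h := Module.Flat.isSMulRegular_of_nonZeroDivisors (M := B) ha
  rw [mem_nonZeroDivisors_iff_right]
  intro x hx
  apply h
  simp only [smul_zero]
  rw [Algebra.smul_def, mul_comm]; exact hx

/-- The map on total rings of fractions induced by a flat ring map. -/
noncomputable def fracMap [Module.Flat A B] : FractionRing A →ₐ[A] FractionRing B :=
  IsLocalization.liftAlgHom (M := A⁰) (f := Algebra.ofId A (FractionRing B)) (by
    intro y
    have : algebraMap A B y ∈ B⁰ := algebraMap_mem_nonZeroDivisors A B y.2
    rw [Algebra.ofId_apply, IsScalarTower.algebraMap_apply A B (FractionRing B)]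
    exact IsLocalization.map_units (FractionRing B) ⟨_, this⟩)

/-- The map `B ⊗ Q(A) → Q(B)`. -/
noncomputable def tensFrac [Module.Flat A B] : B ⊗[A] FractionRing A →ₐ[B] FractionRing B :=
  Algebra.TensorProduct.lift (Algebra.ofId B (FractionRing B)) (fracMap A B)
    (fun _ _ => Commute.all _ _)

theorem tensFrac_injective [Module.Flat A B] : Function.Injective (tensFrac A B) := by
  rw [injective_iff_map_eq_zero]
  intro z hz
  obtain ⟨⟨b, s⟩, hbs⟩ := IsLocalization.surj (Algebra.algebraMapSubmonoid B A⁰) z
  have h1 : algebraMap B (FractionRing B) b = 0 := by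
    have := congrArg (tensFrac A B) hbs
    rw [map_mul, hz, zero_mul] at this
    rw [← (tensFrac A B).commutes b]
    exact this.symm
  have h2 : b = 0 := (IsFractionRing.injective B (FractionRing B)) (by rw [h1, map_zero])
  subst h2
  simp only [map_zero] at hbs
  have hu := IsLocalization.map_units (B ⊗[A] FractionRing A) s
  exact (hu.mul_left_eq_zero).mp hbs

/-- `B ⊗ A' → B'` where the prime denotes the integral closure in the total ring of fractions. -/
noncomputable def toIntCl [Module.Flat A B] :
    B ⊗[A] integralClosure A (FractionRing A) →ₗ[B] integralClosure B (FractionRing B) :=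
  LinearMap.codRestrict (Subalgebra.toSubmodule (integralClosure B (FractionRing B)))
    ((tensFrac A B).toLinearMap ∘ₗ
      ((integralClosure A (FractionRing A)).val.toLinearMap.baseChange B)) (by
    intro z
    induction z with
    | zero => simp
    | add x y hx hy => rw [map_add]; exact add_mem hx hy
    | tmul b a =>
      have ha : IsIntegral A (a : FractionRing A) := a.2
      have h1 : IsIntegral A (fracMap A B a) := ha.map (fracMap A B)
      have h2 : IsIntegral B (fracMap A B a) := h1.tower_top
      have h3 : IsIntegral B (algebraMap B (FractionRing B) b) := isIntegral_algebraMap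
      have h4 := h3.mul h2
      simpa [tensFrac, mem_integralClosure_iff] using h4)

theorem toIntCl_injective [Module.Flat A B] : Function.Injective (toIntCl A B) := by
  intro x y hxy
  have h := congrArg Subtype.val hxy
  have h' : tensFrac A B ((integralClosure A (FractionRing A)).val.toLinearMap.baseChange B x) =
      tensFrac A B ((integralClosure A (FractionRing A)).val.toLinearMap.baseChange B y) := h
  have h2 := tensFrac_injective A B h'
  exact Module.Flat.lTensor_preserves_injective_linearMap (M := B)
    (integralClosure A (FractionRing A)).val.toLinearMap Subtype.val_injective h2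

theorem toIntCl_tmul_one [Module.Flat A B] (b : B) :
    toIntCl A B (b ⊗ₜ 1) = algebraMap B _ b := by
  apply Subtype.ext
  change (tensFrac A B) ((integralClosure A (FractionRing A)).val.toLinearMap.baseChange B
    (b ⊗ₜ 1)) = algebraMap B (FractionRing B) b
  simp [tensFrac]

/-- The map on submodules of the integral closures. -/
noncomputable def submoduleMap [Module.Flat A B]
    (N : Submodule A (integralClosure A (FractionRing A))) :
    Submodule B (integralClosure B (FractionRing B)) :=
  (N.baseChange B).map (toIntCl A B)

theorem submoduleMap_strictMono [Module.FaithfullyFlat A B] :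
    StrictMono (submoduleMap A B) := by
  intro N₁ N₂ h
  exact (Submodule.map_strictMono_of_injective (toIntCl_injective A B))
    ((Submodule.baseChangeOrderEmbedding A _ B).strictMono h)

theorem submoduleMap_range [Module.Flat A B] :
    submoduleMap A B (LinearMap.range (Algebra.linearMap A (integralClosure A (FractionRing A)))) =
      LinearMap.range (Algebra.linearMap B (integralClosure B (FractionRing B))) := by
  apply le_antisymm
  · rw [submoduleMap, Submodule.map_le_iff_le_comap, Submodule.baseChange_eq_span, Submodule.span_le]
    rintro _ ⟨m, ⟨a, rfl⟩, rfl⟩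
    refine ⟨algebraMap A B a, ?_⟩
    have : (TensorProduct.mk A B (integralClosure A (FractionRing A))) 1
        ((Algebra.linearMap A (integralClosure A (FractionRing A))) a) = (algebraMap A B a) ⊗ₜ 1 := by
      rw [TensorProduct.mk_apply, Algebra.linearMap_apply, Algebra.algebraMap_eq_smul_one,
        Algebra.algebraMap_eq_smul_one, TensorProduct.smul_tmul]
    rw [this, toIntCl_tmul_one]
    rfl
  · rintro _ ⟨b, rfl⟩
    refine ⟨b ⊗ₜ 1, ?_, toIntCl_tmul_one A B b⟩
    exact Submodule.tmul_mem_baseChange_of_mem b ⟨1, by simp⟩

/-- The δ-invariant can only go up along a faithfully flat ring map. -/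
theorem deltaInv_le_of_faithfullyFlat [Module.FaithfullyFlat A B] :
    Curv2.deltaInv A ≤ Curv2.deltaInv B := by
  unfold Curv2.deltaInv
  rw [Module.length_quotient, Module.length_quotient, ← submoduleMap_range A B]
  exact Order.coheight_le_coheight_apply_of_strictMono _ (submoduleMap_strictMono A B) _

end

end Groth.Agent.VarietyB.Delta
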