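import Groth.Agent.VarietyB.ResMap
import Groth.Agent.VarietyB.DimTop
import Groth.Agent.S1618
import Groth.Agent.S1619
import Mathlib.AlgebraicGeometry.IdealSheaf.Subscheme
import Mathlib.AlgebraicGeometry.Morphisms.ClosedImmersion

/-!
Dimension of closures of points, and the dimension of the fibre at the generic point.
-/

set_option autoImplicit false

universe u

open CategoryTheory CategoryTheory.Limits AlgebraicGeometry Groth.Agent.VarietyB.ResMap

namespace Groth.Agent.VarietyB.FibreGeneric

variable (k : Type u) [Field k]

/-- Reformulation of S1619. -/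
theorem dim_eq_trd (X : Scheme.{u}) [X.Over (Spec (CommRingCat.of k))]
    [LocallyOfFiniteType (X ↘ (Spec (CommRingCat.of k)))] [IrreducibleSpace X]
    (n : ℕ) (hn : trd k X (genericPoint X) = n) : topologicalKrullDim X = n :=
  Groth.Agent.S1619.result k X n hn

/-- The dimension of the closure of a point is the transcendence degree of its residue field. -/
theorem dim_closure_eq (X : Scheme.{u}) [X.Over (Spec (CommRingCat.of k))]
    [LocallyOfFiniteType (X ↘ (Spec (CommRingCat.of k)))] (x : X) (n : ℕ)
    (hn : trd k X x = n) : topologicalKrullDim (closure {x} : Set X) = n := by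
  let C : TopologicalSpace.Closeds X := ⟨closure {x}, isClosed_closure⟩
  let I := Scheme.IdealSheafData.vanishingIdeal C
  let Z := I.subscheme
  let ι : Z ⟶ X := I.subschemeι
  let _ : Z.Over (Spec (CommRingCat.of k)) := ⟨ι ≫ (X ↘ (Spec (CommRingCat.of k)))⟩
  have : LocallyOfFiniteType (Z ↘ (Spec (CommRingCat.of k))) :=
    inferInstanceAs (LocallyOfFiniteType (ι ≫ (X ↘ (Spec (CommRingCat.of k)))))
  have hr : Set.range ι = closure {x} := by
    rw [Scheme.IdealSheafData.range_subschemeι, Scheme.IdealSheafData.coe_support_vanishingIdeal]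
    rfl
  let e : Z ≃ₜ (closure {x} : Set X) :=
    (ι.isEmbedding.toHomeomorph).trans (Homeomorph.setCongr hr)
  have h1 : topologicalKrullDim Z = topologicalKrullDim (closure {x} : Set X) :=
    IsHomeomorph.topologicalKrullDim_eq e e.isHomeomorph
  have hirr : IrreducibleSpace (closure {x} : Set X) :=
    Subtype.irreducibleSpace isIrreducible_singleton.closure
  have : IrreducibleSpace Z := e.symm.surjective.irreducibleSpace e.symm.continuous
  have hz : ι (genericPoint Z) = x := by
    have h2 : closure {ι (genericPoint Z)} = closure {x} := by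
      rw [← hr]
      have : closure {genericPoint Z} = Set.univ := genericPoint_closure _
      apply subset_antisymm
      · refine closure_minimal (by simp) ?_
        rw [hr]; exact isClosed_closure
      · rw [← Set.image_univ, ← this, ← Set.image_singleton]
        exact image_closure_subset_closure_image ι.continuous
    exact (inseparable_iff_closure_eq.mpr h2).eq
  rw [← h1]
  refine dim_eq_trd k Z n ?_
  rw [← trd_eq k ι rfl (genericPoint Z), hz, hn]

theorem dim_closure_eq_iff (X : Scheme.{u}) [X.Over (Spec (CommRingCat.of k))]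
    [LocallyOfFiniteType (X ↘ (Spec (CommRingCat.of k)))] (x : X) (n : ℕ) :
    topologicalKrullDim (closure {x} : Set X) = n ↔ trd k X x = n := by
  obtain ⟨m, hm⟩ := exists_trd_eq k X x
  rw [dim_closure_eq k X x m hm, hm]
  norm_cast

theorem dim_eq_iff (X : Scheme.{u}) [X.Over (Spec (CommRingCat.of k))]
    [LocallyOfFiniteType (X ↘ (Spec (CommRingCat.of k)))] [IrreducibleSpace X] (n : ℕ) :
    topologicalKrullDim X = n ↔ trd k X (genericPoint X) = n := by
  obtain ⟨m, hm⟩ := exists_trd_eq k X (genericPoint X)
  rw [dim_eq_trd k X m hm, hm]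
  norm_cast

/-- In an irreducible scheme locally of finite type over a field, the local dimension is the
dimension at every point. -/
theorem localDim_eq_dim (X : Scheme.{u}) [X.Over (Spec (CommRingCat.of k))]
    [LocallyOfFiniteType (X ↘ (Spec (CommRingCat.of k)))] [IrreducibleSpace X] (x : X) :
    FlatMor.localDim X x = topologicalKrullDim X := by
  apply le_antisymm (DimTop.localDim_le_dim x)
  refine DimTop.le_localDim fun U hU ↦ ?_
  exact (Groth.Agent.S1618.result k X U ⟨x, hU⟩).ge

section generic

variable {X Y : Scheme.{u}} (f : X ⟶ Y) [IrreducibleSpace X]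

theorem isGenericPoint_asFiber : closure {f.asFiber (genericPoint X)} = Set.univ := by
  rw [Set.eq_univ_iff_forall]
  intro z
  rw [← specializes_iff_mem_closure,
    ← (f.fiberι (f (genericPoint X))).isEmbedding.isInducing.specializes_iff]
  rw [Scheme.Hom.fiberι_asFiber]
  exact genericPoint_specializes _

instance irreducibleSpace_fiber : IrreducibleSpace (f.fiber (f (genericPoint X))) := by
  have : IsIrreducible (Set.univ : Set (f.fiber (f (genericPoint X)))) := by
    rw [← isGenericPoint_asFiber f]
    exact isIrreducible_singleton.closure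
  exact (irreducibleSpace_def _).mpr this

theorem genericPoint_fiber :
    genericPoint (f.fiber (f (genericPoint X))) = f.asFiber (genericPoint X) := by
  apply (inseparable_iff_closure_eq.mpr _).eq
  rw [isGenericPoint_asFiber]
  exact genericPoint_closure _

end generic

/-- The fibre dimension at the generic point. -/
theorem fibreDimAt_genericPoint {X Y : Scheme.{u}} [X.Over (Spec (CommRingCat.of k))]
    [Y.Over (Spec (CommRingCat.of k))] [LocallyOfFiniteType (X ↘ (Spec (CommRingCat.of k)))]
    [LocallyOfFiniteType (Y ↘ (Spec (CommRingCat.of k)))] [IrreducibleSpace X]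
    (f : X ⟶ Y) (hf : f ≫ (Y ↘ (Spec (CommRingCat.of k))) = X ↘ (Spec (CommRingCat.of k)))
    (a b : ℕ) (ha : trd k X (genericPoint X) = a) (hb : trd k Y (f (genericPoint X)) = b) :
    b ≤ a ∧ FlatMor.fibreDimAt f (genericPoint X) = (a - b : ℕ) := by
  have hlft : LocallyOfFiniteType f := by
    have : LocallyOfFiniteType (f ≫ (Y ↘ (Spec (CommRingCat.of k)))) := by rw [hf]; infer_instance
    exact locallyOfFiniteType_of_comp f (Y ↘ (Spec (CommRingCat.of k)))
  let y := f (genericPoint X)
  let F := f.fiber y
  let κ := Y.residueField y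
  let _ : F.Over (Spec (CommRingCat.of κ)) := ⟨f.fiberToSpecResidueField y⟩
  have h1 := trd_fiber k f hf y (f.asFiber (genericPoint X))
  rw [Scheme.Hom.fiberι_asFiber, ha, hb] at h1
  have : LocallyOfFiniteType (F ↘ (Spec (CommRingCat.of κ))) :=
    inferInstanceAs (LocallyOfFiniteType (pullback.snd f (Y.fromSpecResidueField y)))
  obtain ⟨m, hm⟩ := exists_trd_eq κ F (f.asFiber (genericPoint X))
  have h2 : a = b + m := by
    rw [hm] at h1
    exact_mod_cast h1
  have : IrreducibleSpace F := irreducibleSpace_fiber f
  refine ⟨by omega, ?_⟩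
  have h3 : FlatMor.fibreDimAt f (genericPoint X) = topologicalKrullDim F :=
    localDim_eq_dim κ F _
  rw [h3]
  refine dim_eq_trd κ F _ ?_
  have h4 : genericPoint F = f.asFiber (genericPoint X) := genericPoint_fiber f
  rw [h4, hm]
  congr 1
  omega

end Groth.Agent.VarietyB.FibreGeneric
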