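import Groth.Agent.VarietyA.StalkCrit
import Groth.Agent.VarietyB.ExactLoc
import Groth.Prelude.Def_ClSub2

/-!
# Stalks of `O_Y ⟶ f_* O_X` where `f` is an isomorphism
-/

set_option autoImplicit false
universe u

open CategoryTheory CategoryTheory.Limits AlgebraicGeometry Opposite TopologicalSpace MonoidalCategory
open AlgebraicGeometry.Scheme.Modules
open Groth.Agent.CycB.StalkExact Groth.Agent.VarietyA.StalkCrit Groth.Agent.VarietyB.TensLoc
open Groth.Agent.VarietyB.ExactLoc

namespace Groth.Agent.VarietyB.UnitStalk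

variable {X Y : Scheme.{u}}

theorem stalkLin_bijective_of_app {F G : X.Modules} (φ : F ⟶ G) (U : X.Opens) 
    (h : ∀ V : X.Opens, V ≤ U → Function.Bijective (φ.app V)) {x : X} (hx : x ∈ U) : 
    Function.Bijective (stalkLin φ x) := by
  constructor
  · rw [injective_iff_map_eq_zero]
    intro m hm
    obtain ⟨V, hxV, hVU, s, rfl⟩ := exists_germ_le F hx m
    rw [stalkLin_germ] at hm
    obtain ⟨W, hWV, hxW, hs⟩ := exists_res_eq_zero G hxV _ hm
    rw [← germ_res F hWV hxW]
    have h1 : res F hWV s = 0 := by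
      apply (h W (hWV.trans hVU)).1
      rw [map_zero]
      rw [← app_res] at hs
      exact hs
    rw [h1, map_zero]
  · intro m
    obtain ⟨V, hxV, hVU, s, rfl⟩ := exists_germ_le G hx m
    obtain ⟨t, rfl⟩ := (h V hVU).2 s
    exact ⟨F.presheaf.germ V x hxV t, stalkLin_germ φ x hxV t⟩

theorem app_bijective_of_isIso (f : X ⟶ Y) (U : Y.Opens) (hf : IsIso (f ∣_ U)) (V : Y.Opens) 
    (hV : V ≤ U) : Function.Bijective (f.app V) := by
  have h1 : IsIso ((f ∣_ U).app (U.ι ⁻¹ᵁ V)) := inferInstance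
  rw [morphismRestrict_app] at h1
  have h2 : IsIso (f.app (U.ι ''ᵁ (U.ι ⁻¹ᵁ V))) :=
    @IsIso.of_isIso_comp_right _ _ _ _ _ _ _ (Functor.map_isIso X.presheaf 
      (eqToHom (image_morphismRestrict_preimage f U (U.ι ⁻¹ᵁ V))).op) h1
  have h3 : U.ι ''ᵁ (U.ι ⁻¹ᵁ V) = V := by
    rw [Scheme.Hom.image_preimage_eq_opensRange_inf]
    simpa using hV
  rw [h3] at h2
  exact ConcreteCategory.bijective_of_isIso (f.app V)

theorem unitToPush_stalk_bijective (f : X ⟶ Y) (U : Y.Opens) (hf : IsIso (f ∣_ U)) {y : Y} 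
    (hy : y ∈ U) : Function.Bijective (stalkLin (ClSub.unitToPush f) y) :=
  stalkLin_bijective_of_app (ClSub.unitToPush f) U (fun V hV => app_bijective_of_isIso f U hf V hV) hy

end Groth.Agent.VarietyB.UnitStalk
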