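import Groth.Agent.VarietyB.GeomRedAt
import Groth.Agent.S2070
import Groth.Prelude.Def_Pi1

/-!
# Normality of base changes, tested on finite purely inseparable extensions
-/

set_option autoImplicit false

universe u

open CategoryTheory CategoryTheory.Limits AlgebraicGeometry TensorProduct

namespace Groth.Agent.VarietyB.NormalBc

/-- Normal local ring (domain, integrally closed). -/
def P (R : Type u) [CommRing R] : Prop := IsDomain R ∧ IsIntegrallyClosed R

theorem P_of_equiv (R S : Type u) [CommRing R] [CommRing S] (e : R ≃+* S) (h : P R) : P S :=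
  have := h.2
  ⟨@MulEquiv.isDomain S R _ _ h.1 e.symm.toMulEquiv, IsIntegrallyClosed.of_equiv e⟩

/-- Localizations at corresponding primes under a ring isomorphism. -/
noncomputable def locEquiv {R S : Type u} [CommRing R] [CommRing S] (e : R ≃+* S) (q : Ideal S)
    [q.IsPrime] : Localization.AtPrime (q.comap (e : R →+* S)) ≃+* Localization.AtPrime q :=
  IsLocalization.ringEquivOfRingEquiv (M := (q.comap (e : R →+* S)).primeCompl)
    (T := q.primeCompl) _ _ e (by
    ext x
    constructor
    · rintro ⟨y, hy, rfl⟩
      exact hy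
    · intro hx
      refine ⟨e.symm x, ?_, by simp⟩
      intro h
      apply hx
      simpa using h)

variable (k : Type u) [Field k] (A : Type u) [CommRing A] [Algebra k A]

theorem forall_prime_comm (K : Type u) [Field K] [Algebra k K] :
    (∀ (q : Ideal (A ⊗[k] K)) [q.IsPrime], P (Localization.AtPrime q)) ↔
      (∀ (q : Ideal (K ⊗[k] A)) [q.IsPrime], P (Localization.AtPrime q)) := by
  constructor
  · intro h q _
    exact P_of_equiv _ _ (locEquiv (Algebra.TensorProduct.comm k A K).toRingEquiv q) (h _)
  · intro h q _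
    exact P_of_equiv _ _ (locEquiv (Algebra.TensorProduct.comm k K A).toRingEquiv q) (h _)

/-- Stacks 038O, (4) implies (2). -/
theorem normal_of_purelyInseparable (X : Scheme.{u}) [X.Over (Spec (CommRingCat.of k))]
    (h : ∀ (k' : Type u) [Field k'] [Algebra k k'] [FiniteDimensional k k'] [IsPurelyInseparable k k'],
      Pi1.IsNormalScheme (Curv2.bc k X k'))
    (K : Type u) [Field K] [Algebra k K] : Pi1.IsNormalScheme (Curv2.bc k X K) := by
  intro y
  obtain ⟨A, _, _, i, _, p, hi, hp⟩ := BcChart.exists_chart k X (Curv2.bcFst k X K y)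
  have h1 : ∀ (q : Ideal (K ⊗[k] A)) [q.IsPrime], P (Localization.AtPrime q) := by
    refine (S2070.result (k := k) (A := A)).mpr ?_ K
    intro k' _ _ _ _
    refine (forall_prime_comm k A k').mp fun q _ ↦ ?_
    exact (GeomRedAt.forall_stalk_iff k X i hi k' ⟨q.comap (algebraMap A (A ⊗[k] k')),
      inferInstance⟩ P P_of_equiv).mp (fun y _ ↦ h k' y) q rfl
  exact (GeomRedAt.forall_stalk_iff k X i hi K p P P_of_equiv).mpr
    (fun q _ _ ↦ (forall_prime_comm k A K).mpr h1 q) y hp.symm

end Groth.Agent.VarietyB.NormalBc
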