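import Groth.Prelude.Def_CohB1
import Mathlib.AlgebraicGeometry.Morphisms.Immersion
import Mathlib.AlgebraicGeometry.Morphisms.FiniteType

/-!
# Affine schemes of finite type over `R` immerse into `P^n_R`
-/

set_option autoImplicit false
universe u
open CategoryTheory CategoryTheory.Limits AlgebraicGeometry HomogeneousLocalization

namespace Groth.Agent.VarietyB.AffineImm

open CohB1

variable {R A : Type u} [CommRing R] [CommRing A] [Algebra R A] {n : ℕ} (a : Fin n → A)

theorem X_mem (n : ℕ) (R : Type u) [CommRing R] (i : Fin (n + 1)) :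
    (MvPolynomial.X i : MvPolynomial (Fin (n + 1)) R) ∈ polyGrading n R 1 :=
  MvPolynomial.isHomogeneous_X R i

/-- The evaluation `R[T_0, …, T_n] → A`, `T_0 ↦ 1`, `T_{i+1} ↦ a_i`. -/
noncomputable def ev : MvPolynomial (Fin (n + 1)) R →ₐ[R] A :=
  MvPolynomial.aeval (Fin.cons 1 a : Fin (n + 1) → A)

theorem ev_X_zero : ev (R := R) a (MvPolynomial.X 0) = 1 := by
  simp [ev]

theorem ev_X_succ (i : Fin n) : ev (R := R) a (MvPolynomial.X i.succ) = a i := by
  simp [ev]

/-- The induced map `(R[T]_{T_0})_0 → A`. -/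
noncomputable def evAway :
    Away (polyGrading n R) (MvPolynomial.X 0) →+* A :=
  (Localization.awayLift (ev (R := R) a).toRingHom (MvPolynomial.X 0)
    (by change IsUnit (ev a (MvPolynomial.X 0)); rw [ev_X_zero]; exact isUnit_one)).comp
    (algebraMap (Away (polyGrading n R) (MvPolynomial.X 0))
      (Localization.Away (MvPolynomial.X 0 : MvPolynomial (Fin (n + 1)) R)))

theorem evAway_mk (m : ℕ) (x : MvPolynomial (Fin (n + 1)) R)
    (hx : x ∈ polyGrading n R (m • 1)) :
    evAway (R := R) a (HomogeneousLocalization.Away.mk (polyGrading n R) (X_mem n R 0) m x hx) =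
      ev a x := by
  have h : algebraMap (Away (polyGrading n R) (MvPolynomial.X 0))
      (Localization.Away (MvPolynomial.X 0 : MvPolynomial (Fin (n + 1)) R))
        (HomogeneousLocalization.Away.mk (polyGrading n R) (X_mem n R 0) m x hx) =
      (HomogeneousLocalization.Away.mk (polyGrading n R) (X_mem n R 0) m x hx).val := rfl
  rw [evAway, RingHom.comp_apply, h, Away.val_mk, Localization.awayLift_mk (v := 1)]
  · simp
  · change ev a (MvPolynomial.X 0) * 1 = 1
    rw [ev_X_zero, one_mul]

theorem evAway_fromZero (r : R) :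
    evAway a (fromZeroRingHom (polyGrading n R) _ (algebraMap R (polyGrading n R 0) r)) =
      algebraMap R A r := by
  have h : (fromZeroRingHom (polyGrading n R)
      (Submonoid.powers (MvPolynomial.X 0 : MvPolynomial (Fin (n + 1)) R))
      (algebraMap R (polyGrading n R 0) r)) =
      HomogeneousLocalization.Away.mk (polyGrading n R) (X_mem n R 0) 0 (MvPolynomial.C r)
        (by rw [zero_smul]; exact MvPolynomial.isHomogeneous_C _ r) := by
    apply HomogeneousLocalization.val_injective
    rw [Away.val_mk]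
    simp only [pow_zero]
    rfl
  rw [h, evAway_mk]
  simp [ev]

theorem evAway_surjective (ha : Algebra.adjoin R (Set.range a) = ⊤) :
    Function.Surjective (evAway (R := R) a) := by
  let S : Subalgebra R A :=
    { (evAway (R := R) a).range with
      algebraMap_mem' := fun r => ⟨_, evAway_fromZero a r⟩ }
  have hS : S = ⊤ := by
    rw [eq_top_iff, ← ha, Algebra.adjoin_le_iff]
    rintro _ ⟨i, rfl⟩
    exact ⟨HomogeneousLocalization.Away.mk (polyGrading n R) (X_mem n R 0) 1
      (MvPolynomial.X i.succ) (by rw [one_smul]; exact X_mem n R i.succ),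
        (evAway_mk a 1 _ _).trans (ev_X_succ a i)⟩
  intro x
  have : x ∈ S := by rw [hS]; trivial
  exact this

/-- An affine scheme of finite type over `R` immerses into `P^n_R` for some `n`. -/
theorem exists_immersion_Spec (R A : Type u) [CommRing R] [CommRing A] [Algebra R A]
    [Algebra.FiniteType R A] :
    ∃ (n : ℕ) (i : Spec (CommRingCat.of A) ⟶ ProjSpace n R), IsImmersion i ∧
      i ≫ ProjSpace.toSpec n R = Spec.map (CommRingCat.ofHom (algebraMap R A)) := by
  obtain ⟨s, hs⟩ := ‹Algebra.FiniteType R A›.out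
  let a : Fin s.card → A := fun i => (s.equivFin.symm i : A)
  have hr : Set.range a = (s : Set A) := by
    ext x
    constructor
    · rintro ⟨i, rfl⟩; exact (s.equivFin.symm i).2
    · intro hx; exact ⟨s.equivFin ⟨x, hx⟩, by simp [a]⟩
  have ha : Algebra.adjoin R (Set.range a) = ⊤ := by rw [hr]; exact hs
  let j : Spec (CommRingCat.of (Away (polyGrading s.card R) (MvPolynomial.X 0))) ⟶
      ProjSpace s.card R :=
    Proj.awayι (polyGrading s.card R) (MvPolynomial.X 0) (X_mem s.card R 0) Nat.one_pos
  have hj : IsOpenImmersion j := inferInstanceAs (IsOpenImmersion (Proj.awayι _ _ _ _))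
  have hcl : IsClosedImmersion (Spec.map (CommRingCat.ofHom (evAway (R := R) a))) :=
    IsClosedImmersion.spec_of_surjective _ (evAway_surjective a ha)
  refine ⟨s.card, Spec.map (CommRingCat.ofHom (evAway (R := R) a)) ≫ j, inferInstance, ?_⟩
  rw [Category.assoc]
  have h1 : j ≫ ProjSpace.toSpec s.card R =
      Spec.map (CommRingCat.ofHom (fromZeroRingHom (polyGrading s.card R) _)) ≫
        Spec.map (CommRingCat.ofHom (algebraMap R (polyGrading s.card R 0))) := by
    exact (Proj.awayι_toSpecZero_assoc _ _ _ _ _)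
  rw [h1, ← Spec.map_comp, ← Spec.map_comp]
  congr 1
  ext r
  exact evAway_fromZero a r

/-- An affine scheme of finite type over `Spec R` immerses into `P^n_R` for some `n`. -/
theorem exists_immersion_of_isAffine (R : Type u) [CommRing R] (X : Scheme.{u}) [IsAffine X]
    (f : X ⟶ Spec (CommRingCat.of R)) [LocallyOfFiniteType f] :
    ∃ (n : ℕ) (i : X ⟶ ProjSpace n R), IsImmersion i ∧ i ≫ ProjSpace.toSpec n R = f := by
  obtain ⟨φ, hφ⟩ := Spec.map_surjective (X.isoSpec.inv ≫ f)
  have hft : φ.hom.FiniteType := by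
    have : LocallyOfFiniteType (Spec.map φ) := by rw [hφ]; infer_instance
    exact (HasRingHomProperty.Spec_iff (P := @LocallyOfFiniteType)).mp this
  algebraize [φ.hom]
  obtain ⟨n, i, hi, hif⟩ := exists_immersion_Spec R Γ(X, ⊤)
  refine ⟨n, X.isoSpec.hom ≫ i, inferInstance, ?_⟩
  rw [Category.assoc, hif]
  have : CommRingCat.ofHom (algebraMap R Γ(X, ⊤)) = φ := rfl
  rw [this, hφ, Iso.hom_inv_id_assoc]

end Groth.Agent.VarietyB.AffineImm
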