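import Groth.Agent.VarietyA.H0Equiv
import Groth.Prelude.Def_ClSub2
import Groth.Prelude.Def_Curv2
import Mathlib.AlgebraicGeometry.IdealSheaf.Functorial
import Mathlib.AlgebraicGeometry.Morphisms.ClosedImmersion
import Mathlib.LinearAlgebra.Dimension.Finrank

/-!
# Global sections of direct images, intersections of closed subschemes

* `hZeroPush k f h M`: `H⁰(X, f_* M) ≃ H⁰(W, M)`, `k`-linearly, for a `k`-morphism `f : W ⟶ X`.
* `comap_map_eq_sup`: `(Z.comap i).map i = Z ⊔ i.ker` for a closed immersion `i`.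
* `finrank_hZero_quotMod_sup`: `H⁰(X, O/(Z ⊔ J))` and `H⁰(Y, O/(Z|_Y))` have the same dimension, `Y = V(J)`.
-/

set_option autoImplicit false
universe u
open CategoryTheory CategoryTheory.Limits AlgebraicGeometry Opposite TopologicalSpace

namespace Groth.Agent.VarietyB.ClosedInter

open Groth.Agent.VarietyA.H0Equiv

section hZero

/-- Two additive equivalences with the same target, compatible with the action of `k`, give a
linear equivalence. -/
def linOf {k A A' B : Type*} [Semiring k] [AddCommGroup A] [AddCommGroup A'] [AddCommGroup B]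
    [Module k A] [Module k A'] (e₁ : A ≃+ B) (e₂ : A' ≃+ B) (φ : k → B → B)
    (h₁ : ∀ c x, e₁ (c • x) = φ c (e₁ x)) (h₂ : ∀ c x, e₂ (c • x) = φ c (e₂ x)) : A ≃ₗ[k] A' :=
  { e₁.trans e₂.symm with
    map_smul' := fun c x => by
      apply e₂.injective
      simp [h₁, h₂] }

variable (k : Type u) [Field k] {W X : Scheme.{u}} [X.Over (Spec (CommRingCat.of k))]
  [W.Over (Spec (CommRingCat.of k))]

/-- The image of a scalar in the global sections. -/
noncomputable def glob (c : k) : Γ(W, ⊤) := Coh.toGlobal (W ↘ Spec (CommRingCat.of k)) c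

theorem toGlobal_comp (f : W ⟶ X)
    (h : f ≫ (X ↘ Spec (CommRingCat.of k)) = W ↘ Spec (CommRingCat.of k)) (c : k) :
    (Coh.toGlobal (W ↘ Spec (CommRingCat.of k)) c : Γ(W, ⊤)) =
      f.appTop (Coh.toGlobal (X ↘ Spec (CommRingCat.of k)) c : Γ(X, ⊤)) := by
  rw [← h]
  simp only [Coh.toGlobal, Scheme.Hom.comp_appTop]
  rfl

/-- `H⁰(X, f_* M) ≃ H⁰(W, M)` over the base field. -/
noncomputable def hZeroPush (f : W ⟶ X)
    (h : f ≫ (X ↘ Spec (CommRingCat.of k)) = W ↘ Spec (CommRingCat.of k)) (M : W.Modules) :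
    Coh.HH X ((Scheme.Modules.pushforward f).obj M) 0 ≃ₗ[k] Coh.HH W M 0 :=
  linOf (B := M.val.obj (op (⊤ : Opens W))) (hZeroEquiv ((Scheme.Modules.pushforward f).obj M))
    (hZeroEquiv M)
    (fun c x => @HSMul.hSMul (W.ringCatSheaf.obj.obj (op ⊤)) (M.val.obj (op (⊤ : Opens W))) _ _
      (Coh.toGlobal (W ↘ Spec (CommRingCat.of k)) c) x)
    (fun c x => by
      have h1 := hZeroEquiv_smul ((Scheme.Modules.pushforward f).obj M)
          (Coh.toGlobal (X ↘ Spec (CommRingCat.of k)) c) x
      refine h1.trans ?_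
      rw [toGlobal_comp k f h c]
      rfl)
    (fun c x => hZeroEquiv_smul M (Coh.toGlobal (W ↘ Spec (CommRingCat.of k)) c) x)

theorem finrank_hZero_push (f : W ⟶ X)
    (h : f ≫ (X ↘ Spec (CommRingCat.of k)) = W ↘ Spec (CommRingCat.of k)) (M : W.Modules) :
    Module.finrank k (Coh.HH X ((Scheme.Modules.pushforward f).obj M) 0) =
      Module.finrank k (Coh.HH W M 0) :=
  (hZeroPush k f h M).finrank_eq

/-- Isomorphic `k`-schemes have the same `dim H⁰` of the structure sheaf. -/
theorem finrank_hZero_of_iso (e : W ≅ X)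
    (h : e.hom ≫ (X ↘ Spec (CommRingCat.of k)) = W ↘ Spec (CommRingCat.of k)) :
    Module.finrank k (Coh.HH W (Coh.structureModule W) 0) =
      Module.finrank k (Coh.HH X (Coh.structureModule X) 0) := by
  have hiso : IsIso (e.hom.app ⊤) := inferInstance
  let ε : Γ(X, ⊤) ≃+* Γ(W, ⊤) := RingEquiv.ofBijective (e.hom.app ⊤).hom
    ((ConcreteCategory.bijective_of_isIso (e.hom.app ⊤)))
  refine (linOf (B := Γ(W, ⊤)) (hZeroEquiv (Coh.structureModule W))
    ((hZeroEquiv (Coh.structureModule X)).trans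
      (show ((Coh.structureModule X).val.obj (op (⊤ : Opens X))) ≃+ Γ(W, ⊤) from ε.toAddEquiv))
    (fun c x => glob k c * x) ?_ ?_).finrank_eq
  · intro c x
    exact hZeroEquiv_smul _ _ _
  · intro c x
    have h1 := hZeroEquiv_smul (Coh.structureModule X)
      (Coh.toGlobal (X ↘ Spec (CommRingCat.of k)) c) x
    refine (congrArg (fun y : Γ(X, ⊤) => ε y) h1).trans ?_
    rw [show glob k c = ε (glob k c) from toGlobal_comp k e.hom h c]
    exact map_mul ε (glob k c) _

end hZero

section ideal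

variable {X Y : Scheme.{u}} (i : Y ⟶ X) [IsClosedImmersion i]

theorem isIso_pullback_snd_of_le (K : X.IdealSheafData) (h : i.ker ≤ K) :
    IsIso (pullback.snd i K.subschemeι) := by
  have hmono : Mono (pullback.snd i K.subschemeι) := inferInstance
  let s : K.subscheme ⟶ Y := IsClosedImmersion.lift i K.subschemeι (by simpa using h)
  have hs : s ≫ i = K.subschemeι := IsClosedImmersion.lift_fac _ _ _
  let t : K.subscheme ⟶ pullback i K.subschemeι := pullback.lift s (𝟙 _) (by simp [hs])
  have h1 : t ≫ pullback.snd i K.subschemeι = 𝟙 _ := pullback.lift_snd _ _ _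
  refine ⟨t, ?_, h1⟩
  rw [← cancel_mono (pullback.snd i K.subschemeι), Category.assoc, h1, Category.comp_id,
    Category.id_comp]

omit [IsClosedImmersion i] in
theorem comap_ker : i.ker.comap i = ⊥ := by
  have := Scheme.IdealSheafData.comap_map_le (I := (⊥ : Y.IdealSheafData)) (f := i)
  rw [Scheme.IdealSheafData.map_bot] at this
  exact le_bot_iff.mp this

/-- The closed subscheme of `Y` cut out by `K ≥ i.ker` is that of `X` cut out by `K`. -/
noncomputable def comapIsoOfLe (K : X.IdealSheafData) (h : i.ker ≤ K) :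
    (K.comap i).subscheme ≅ K.subscheme :=
  haveI := isIso_pullback_snd_of_le i K h
  K.comapIso i ≪≫ asIso (pullback.snd i K.subschemeι)

theorem comapIsoOfLe_hom (K : X.IdealSheafData) (h : i.ker ≤ K) :
    (comapIsoOfLe i K h).hom ≫ K.subschemeι = (K.comap i).subschemeι ≫ i := by
  simp [comapIsoOfLe]

theorem comap_map_of_le (K : X.IdealSheafData) (h : i.ker ≤ K) : (K.comap i).map i = K := by
  rw [Scheme.IdealSheafData.map, ← comapIsoOfLe_hom i K h, Scheme.Hom.ker_comp_of_isIso,
    K.ker_subschemeι]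

omit [IsClosedImmersion i] in
theorem comap_sup_ker (Z : X.IdealSheafData) : (Z ⊔ i.ker).comap i = Z.comap i := by
  rw [Scheme.IdealSheafData.comap_sup, comap_ker, sup_bot_eq]

theorem comap_map_eq_sup (Z : X.IdealSheafData) : (Z.comap i).map i = Z ⊔ i.ker := by
  rw [← comap_sup_ker, comap_map_of_le i _ le_sup_right]

/-- `(Z|_Y) ≅ Z ∩ Y`. -/
noncomputable def interIso (Z : X.IdealSheafData) :
    (Z.comap i).subscheme ≅ (Z ⊔ i.ker).subscheme :=
  eqToIso (congrArg Scheme.IdealSheafData.subscheme (comap_sup_ker i Z).symm) ≪≫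
    comapIsoOfLe i (Z ⊔ i.ker) le_sup_right

theorem eqToIso_subschemeι {I J : X.IdealSheafData} (h : I = J) :
    (eqToIso (congrArg Scheme.IdealSheafData.subscheme h)).hom ≫ J.subschemeι = I.subschemeι := by
  subst h
  simp

theorem interIso_hom (Z : X.IdealSheafData) :
    (interIso i Z).hom ≫ (Z ⊔ i.ker).subschemeι = (Z.comap i).subschemeι ≫ i := by
  rw [interIso, Iso.trans_hom, Category.assoc, comapIsoOfLe_hom, ← Category.assoc]
  exact congrArg (· ≫ i) (eqToIso_subschemeι (comap_sup_ker i Z).symm)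

/-- `H⁰(X, O/(Z ⊔ J))` and `H⁰(Y, O/(Z|_Y))` have the same dimension, for `Y = V(J)`. -/
theorem finrank_hZero_quotMod_sup (k : Type u) [Field k] [X.Over (Spec (CommRingCat.of k))]
    [Y.Over (Spec (CommRingCat.of k))]
    (h : i ≫ (X ↘ Spec (CommRingCat.of k)) = Y ↘ Spec (CommRingCat.of k)) (Z : X.IdealSheafData) :
    Module.finrank k (Coh.HH X (ClSub.quotMod (Z ⊔ i.ker)) 0) =
      Module.finrank k (Coh.HH Y (ClSub.quotMod (Z.comap i)) 0) := by
  let _ : (Z ⊔ i.ker).subscheme.Over (Spec (CommRingCat.of k)) :=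
    ⟨(Z ⊔ i.ker).subschemeι ≫ (X ↘ Spec (CommRingCat.of k))⟩
  let _ : (Z.comap i).subscheme.Over (Spec (CommRingCat.of k)) :=
    ⟨(Z.comap i).subschemeι ≫ (Y ↘ Spec (CommRingCat.of k))⟩
  refine (finrank_hZero_push k (Z ⊔ i.ker).subschemeι rfl (Coh.structureModule _)).trans ?_
  refine Eq.trans ?_ (finrank_hZero_push k (Z.comap i).subschemeι rfl (Coh.structureModule _)).symm
  refine (finrank_hZero_of_iso k (interIso i Z) ?_).symm
  change (interIso i Z).hom ≫ (Z ⊔ i.ker).subschemeι ≫ (X ↘ Spec (CommRingCat.of k)) =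
    (Z.comap i).subschemeι ≫ (Y ↘ Spec (CommRingCat.of k))
  rw [← Category.assoc, interIso_hom, Category.assoc, h]

end ideal

end Groth.Agent.VarietyB.ClosedInter
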