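import Groth.Agent.VarietyB.MVScheme
import Mathlib.Algebra.Polynomial.Reverse
import Mathlib.Algebra.Polynomial.Inductions

/-!
# Functions with prescribed poles on a proper curve

`exists_pole`: if `H^1(Y, O_Y)` is finite-dimensional over `k`, `U ⊔ V = ⊤`, and `t ∈ Γ(Y, V)` has
`D(t) = U ⊓ V`, there is `f ∈ Γ(Y, U)` such that near every `p ∉ U` one has `f * g = 1` with `g`
a function vanishing at `p`.
-/

set_option autoImplicit false
universe u

open CategoryTheory Limits Opposite TopologicalSpace AlgebraicGeometry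

namespace Groth.Agent.VarietyB.CurvePole

open Groth.Agent.VarietyB.MVScheme

variable {Y : Scheme.{u}}

/-- Restriction of functions, as a ring homomorphism. -/
noncomputable def rs {A B : Y.Opens} (h : B ≤ A) : Γ(Y, A) →+* Γ(Y, B) :=
  (Y.presheaf.map (homOfLE h).op).hom

theorem rs_rs {A B C : Y.Opens} (h : B ≤ A) (h' : C ≤ B) (s : Γ(Y, A)) :
    rs h' (rs h s) = rs (h'.trans h) s := by
  change (Y.presheaf.map (homOfLE h).op ≫ Y.presheaf.map (homOfLE h').op).hom s = _
  rw [← Y.presheaf.map_comp]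
  rfl

theorem rs_refl {A : Y.Opens} (h : A ≤ A) (s : Γ(Y, A)) : rs h s = s := by
  change (Y.presheaf.map (𝟙 (op A))).hom s = s
  rw [Y.presheaf.map_id]
  rfl

theorem rs_kMap {k : Type u} [CommRing k] (f : Y ⟶ Spec (CommRingCat.of k))
    {A B : Y.Opens} (h : B ≤ A) (c : k) : rs h (kMap f A c) = kMap f B c := map_kMap f h c

theorem basicOpen_rs {A B : Y.Opens} (h : B ≤ A) (s : Γ(Y, A)) :
    Y.basicOpen (rs h s) = B ⊓ Y.basicOpen s := Y.basicOpen_res s (homOfLE h).op

theorem isUnit_rs {A B : Y.Opens} (h : B ≤ A) (s : Γ(Y, A)) (hB : B ≤ Y.basicOpen s) :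
    IsUnit (rs h s) := by
  have h1 : IsUnit (rs (Y.basicOpen_le s) s) := Y.toRingedSpace.isUnit_res_basicOpen s
  have h2 := h1.map (rs hB)
  rwa [rs_rs] at h2

/-- A function `f` on `U` has a pole at `p`: there is a function `g` near `p`, vanishing at `p`,
with `f * g = 1` on the common domain. -/
def HasPoleAt {U : Y.Opens} (f : Γ(Y, U)) (p : Y) : Prop :=
  ∃ (V : Y.Opens) (_ : p ∈ V) (g : Γ(Y, V)), p ∉ Y.basicOpen g ∧
    rs (inf_le_left : U ⊓ V ≤ U) f * rs (inf_le_right : U ⊓ V ≤ V) g = 1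

theorem exists_pole (k : Type u) [Field k] (Y : Scheme.{u})
    [Y.Over (Spec (CommRingCat.of k))] (hfin : Module.Finite k (Coh.HH Y (Coh.structureModule Y) 1))
    (U V : Y.Opens) (hUV : U ⊔ V = ⊤) (t : Γ(Y, V)) (ht : Y.basicOpen t = U ⊓ V) :
    ∃ f : Γ(Y, U), ∀ p ∉ U, HasPoleAt f p := by
  classical
  have hVW : U ⊓ V ≤ V := inf_le_right
  have hUW : U ⊓ V ≤ U := inf_le_left
  have htu : IsUnit (rs hVW t) := isUnit_rs hVW t ht.ge
  obtain ⟨t', ht'⟩ := htu
  let w : Γ(Y, U ⊓ V) := (t'⁻¹ : (Γ(Y, U ⊓ V))ˣ)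
  have htw : rs hVW t * w = 1 := by rw [← ht']; exact t'.mul_inv
  obtain ⟨N, c, hc, a, b, hab⟩ := exists_relation k Y hfin U V hUV (fun i => w ^ (i + 1))
  let φV := kMap (Y ↘ Spec (CommRingCat.of k)) V
  let φ := kMap (Y ↘ Spec (CommRingCat.of k)) (U ⊓ V)
  let P : Polynomial k := ∑ i : Fin N, Polynomial.monomial i (c i)
  have hP : P ≠ 0 := by
    intro hP
    apply hc
    funext i
    have h1 : P.coeff i = c i := by
      simp only [P, Polynomial.finsetSum_coeff, Polynomial.coeff_monomial]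
      rw [Finset.sum_eq_single i]
      · simp
      · intro j _ hj
        rw [if_neg]
        intro h
        exact hj (Fin.ext h)
      · simp
    rw [← h1, hP]; simp
  have hPe : Polynomial.eval₂ φ w P = ∑ i : Fin N, φ (c i) * w ^ (i : ℕ) := by
    simp only [P, Polynomial.eval₂_finsetSum, Polynomial.eval₂_monomial]
  let R := P.reverse
  let d := P.natDegree
  have hR0 : R.coeff 0 ≠ 0 := by
    rw [Polynomial.coeff_zero_reverse]; exact Polynomial.leadingCoeff_ne_zero.mpr hP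
  let inv : Invertible w := ⟨rs hVW t, htw, by rw [mul_comm]; exact htw⟩
  have hrev : Polynomial.eval₂ φ (rs hVW t) R * w ^ d = Polynomial.eval₂ φ w P :=
    Polynomial.eval₂_reverse_mul_pow φ w P
  have htwd : ∀ n : ℕ, rs hVW t ^ n * w ^ n = 1 := fun n => by rw [← mul_pow, htw, one_pow]
  have h1 : rs hUW a - rs hVW b = w * Polynomial.eval₂ φ w P := by
    rw [hPe, Finset.mul_sum]
    refine hab.trans (Finset.sum_congr rfl fun i _ => ?_)
    change φ (c i) * w ^ ((i : ℕ) + 1) = _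
    ring
  have h2 : rs hVW t ^ (d + 1) * (rs hUW a - rs hVW b) = Polynomial.eval₂ φ (rs hVW t) R := by
    rw [h1, ← hrev]
    have := htwd (d + 1)
    calc rs hVW t ^ (d + 1) * (w * (Polynomial.eval₂ φ (rs hVW t) R * w ^ d))
        = Polynomial.eval₂ φ (rs hVW t) R * (rs hVW t ^ (d + 1) * w ^ (d + 1)) := by ring
      _ = _ := by rw [this, mul_one]
  let u : Γ(Y, V) := Polynomial.eval₂ φV t R + t ^ (d + 1) * b
  have hu : rs hVW u = rs hVW t ^ (d + 1) * rs hUW a := by
    have h3 : rs hVW (Polynomial.eval₂ φV t R) = Polynomial.eval₂ φ (rs hVW t) R := by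
      rw [Polynomial.hom_eval₂]
      congr 1
      ext c
      exact rs_kMap _ _ _
    change rs hVW (Polynomial.eval₂ φV t R + t ^ (d + 1) * b) = _
    rw [map_add, h3, ← h2, map_mul, map_pow]
    ring
  refine ⟨a, fun p hp => ?_⟩
  have hpV : p ∈ V := by
    have : p ∈ U ⊔ V := by rw [hUV]; trivial
    exact this.resolve_left hp
  have hpt : p ∉ Y.basicOpen t := by rw [ht]; exact fun h => hp h.1
  have hpu : p ∈ Y.basicOpen u := by
    have h4 : φV (R.coeff 0) = u + -(t * (Polynomial.eval₂ φV t R.divX + t ^ d * b)) := by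
      have h5 : Polynomial.eval₂ φV t R =
          Polynomial.eval₂ φV t R.divX * t + φV (R.coeff 0) := by
        conv_lhs => rw [← Polynomial.divX_mul_X_add R]
        rw [Polynomial.eval₂_add, Polynomial.eval₂_mul, Polynomial.eval₂_X, Polynomial.eval₂_C]
      change _ = (Polynomial.eval₂ φV t R + t ^ (d + 1) * b) + _
      rw [h5]; ring
    have h6 : Y.basicOpen (φV (R.coeff 0)) = V :=
      Y.basicOpen_of_isUnit ((IsUnit.mk0 _ hR0).map φV)
    have h7 : p ∈ Y.basicOpen (φV (R.coeff 0)) := by rw [h6]; exact hpV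
    rw [h4] at h7
    rcases Y.basicOpen_add_le _ _ h7 with h8 | h8
    · exact h8
    · exfalso
      apply hpt
      have h9 : -(t * (Polynomial.eval₂ φV t R.divX + t ^ d * b)) =
        t * (-(Polynomial.eval₂ φV t R.divX + t ^ d * b)) := by ring
      rw [h9, Y.basicOpen_mul] at h8
      exact h8.1
  have hV'V : Y.basicOpen u ≤ V := Y.basicOpen_le u
  obtain ⟨v, hv⟩ := (isUnit_rs hV'V u le_rfl).exists_right_inv
  refine ⟨Y.basicOpen u, hpu, rs hV'V t ^ (d + 1) * v, ?_, ?_⟩
  · intro h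
    rw [Y.basicOpen_mul, Y.basicOpen_pow _ (Nat.succ_pos d), basicOpen_rs] at h
    exact hpt h.1.2
  · have hW' : U ⊓ Y.basicOpen u ≤ U ⊓ V := inf_le_inf_left U hV'V
    rw [map_mul, map_pow, rs_rs]
    have e1 : rs (inf_le_left : U ⊓ Y.basicOpen u ≤ U) a = rs hW' (rs hUW a) := by rw [rs_rs]
    have e2 : rs (inf_le_right.trans hV'V : U ⊓ Y.basicOpen u ≤ V) t = rs hW' (rs hVW t) := by
      rw [rs_rs]
    have e3 : rs (inf_le_right.trans hV'V : U ⊓ Y.basicOpen u ≤ V) u = rs hW' (rs hVW u) := by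
      rw [rs_rs]
    have e4 : rs (inf_le_right : U ⊓ Y.basicOpen u ≤ Y.basicOpen u) (rs hV'V u * v) = 1 := by
      rw [hv, map_one]
    rw [map_mul, rs_rs, e3, hu, map_mul, map_pow] at e4
    rw [e1, e2, ← e4]
    ring

end Groth.Agent.VarietyB.CurvePole
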