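import Groth.Agent.VarietyB.AddFun
import Groth.Agent.VarietyB.UnitStalk
import Groth.Agent.VarietyB.DegFin
import Groth.Agent.CurvesB.UnitCoh
import Groth.Agent.S0019
import Groth.Agent.CohqA.DevInd
import Groth.Agent.CycB.PushStalk
import Groth.Agent.VarietyA.GlobGen

/-!
# Additive functionals are determined by structure sheaves of integral closed subschemes (dimension `≤ 1`)
-/

set_option autoImplicit false
universe u

open CategoryTheory CategoryTheory.Limits AlgebraicGeometry Opposite TopologicalSpace MonoidalCategory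
open AlgebraicGeometry.Scheme.Modules
open Groth.Agent.CycB.StalkExact Groth.Agent.VarietyA.StalkCrit Groth.Agent.VarietyB.TensLoc
open Groth.Agent.VarietyB.ExactLoc Groth.Agent.VarietyB.AddFun Groth.Agent.VarietyB.UnitStalk

namespace Groth.Agent.VarietyB.DegDev

variable {X : Scheme.{u}}

/-- a monomorphism which is surjective on stalks over `U` is bijective on sections over `U`. -/
theorem app_bijective_of_stalk {F G : X.Modules} (φ : F ⟶ G) [Mono φ] (U : X.Opens) 
    (h : ∀ x ∈ U, Function.Surjective (stalkLin φ x)) : Function.Bijective (φ.app U) := by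
  refine ⟨app_injective_of_mono φ U, fun s => ?_⟩
  have h1 : ∀ x : U, ∃ (V : X.Opens) (hV : V ≤ U) (t : Γ(F, V)), x.1 ∈ V ∧ φ.app V t = res G hV s := by
    rintro ⟨x, hx⟩
    obtain ⟨m, hm⟩ := h x hx (G.presheaf.germ U x hx s)
    obtain ⟨V, hxV, hVU, t, rfl⟩ := exists_germ_le F hx m
    rw [stalkLin_germ, ← germ_res G hVU hxV s] at hm
    obtain ⟨W, hWV, hxW, hs⟩ := exists_res_eq_zero G hxV (φ.app V t - res G hVU s) 
      (by rw [map_sub, hm, sub_self])
    refine ⟨W, hWV.trans hVU, res F hWV t, hxW, ?_⟩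
    rw [app_res, ← sub_eq_zero, ← res_res G hVU hWV]
    exact (map_sub _ _ _).symm.trans hs
  choose V hV t hxV ht using h1
  obtain ⟨t', ht'⟩ := exists_glue (M := F) V hV hxV t (fun i j => by
    apply app_injective_of_mono φ
    rw [app_res, app_res, ht, ht, res_res, res_res])
  refine ⟨t', eq_of_locally _ _ (fun x hx => ⟨V ⟨x, hx⟩, hV _, hxV ⟨x, hx⟩, ?_⟩)⟩
  rw [← app_res, ht', ht]

/-- an ideal of an integral scheme is everything on a dense open. -/
theorem exists_dense_open {Z : Scheme.{u}} [IsIntegral Z] {I : Z.Modules} 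
    (ι : I ⟶ Coh.structureModule Z) [Mono ι] (hI : Coh.IsQCoh I) (h0 : ¬ IsZero I) : 
    ∃ U : Z.Opens, Dense (U : Set Z) ∧ ∀ x ∈ U, Function.Surjective (stalkLin ι x) := by
  have hO := CurvesB.UnitCoh.isCoh_structureModule Z
  have hQ : Coh.IsCoh (cokernel ι) := PerfA.CohSerre.isCoh_cokernel ι hI hO
  have hcl := VarietyA.GlobGen.isClosed_support (cokernel ι) hQ.2
  refine ⟨⟨(CohB1.support (cokernel ι))ᶜ, hcl.isOpen_compl⟩, ?_, fun x hx => ?_⟩
  · refine IsOpen.dense hcl.isOpen_compl ⟨genericPoint Z, ?_⟩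
    change ¬ (genericPoint Z ∈ CohB1.support (cokernel ι))
    rw [VarietyA.StalkCrit.not_mem_support_iff, subsingleton_cokernel_stalk_iff]
    obtain ⟨x, hx⟩ : ∃ x : Z, ¬ Subsingleton (I.presheaf.stalk x) := by
      by_contra hc
      push Not at hc
      exact h0 (isZero_of_stalks I hc)
    rw [not_subsingleton_iff_nontrivial] at hx
    obtain ⟨m, hm⟩ := exists_ne (0 : I.presheaf.stalk x)
    obtain ⟨V, hxV, s, rfl⟩ := I.presheaf.exists_germ_eq m
    have hs : ι.app V s ≠ 0 := by
      intro hs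
      apply hm
      rw [(map_eq_zero_iff _ (app_injective_of_mono ι V)).mp hs, map_zero]
    have hV : Nonempty V := ⟨⟨x, hxV⟩⟩
    have hη : genericPoint Z ∈ V := ((genericPoint_spec Z).mem_open_set_iff V.isOpen).mpr 
      (by simpa using ⟨x, hxV⟩)
    let r : Γ(Z, V) := ι.app V s
    have hr : Z.presheaf.germ V (genericPoint Z) hη r ≠ 0 := by
      rw [Ne, map_eq_zero_iff _ (germ_injective_of_isIntegral Z (genericPoint Z) hη)]
      exact hs
    intro m
    obtain ⟨a, rfl⟩ := (CycB.PushStalk.unitStalk Z (genericPoint Z)).surjective m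
    obtain ⟨c, hc⟩ : ∃ c : Z.presheaf.stalk (genericPoint Z), 
        c * Z.presheaf.germ V (genericPoint Z) hη r = a := by
      letI : Field (Z.presheaf.stalk (genericPoint Z)) := inferInstanceAs (Field Z.functionField)
      exact ⟨a * (Z.presheaf.germ V (genericPoint Z) hη r)⁻¹, by 
        rw [mul_assoc, inv_mul_cancel₀ hr, mul_one]⟩
    refine ⟨c • I.presheaf.germ V (genericPoint Z) hη s, ?_⟩
    rw [LinearMap.map_smul, stalkLin_germ]
    have h1 : (Coh.structureModule Z).presheaf.germ V (genericPoint Z) hη (ι.app V s) = 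
      CycB.PushStalk.unitStalk Z (genericPoint Z) (Z.presheaf.germ V (genericPoint Z) hη r) := 
        (CycB.PushStalk.unitStalkLin_germ (genericPoint Z) V hη r).symm
    rw [h1, ← LinearEquiv.map_smul, smul_eq_mul, hc]
  · rw [← subsingleton_cokernel_stalk_iff, ← VarietyA.StalkCrit.not_mem_support_iff]
    exact hx

theorem dim_image_le {Z : Scheme.{u}} (i : Z ⟶ X) [IsClosedImmersion i] (T : Set Z) 
    (hT : topologicalKrullDim T ≤ 0) : topologicalKrullDim (i '' T : Set X) ≤ 0 :=
  ((i.isClosedEmbedding.isEmbedding.homeomorphImage T).symm.isInducing.topologicalKrullDim_le).trans hT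

theorem dim_le_of_closed {Z : Scheme.{u}} (i : Z ⟶ X) [IsClosedImmersion i] : 
    topologicalKrullDim Z ≤ topologicalKrullDim X :=
  i.isClosedEmbedding.isInducing.topologicalKrullDim_le

theorem _root_.Groth.Agent.VarietyB.AddFun.IsAddFun.push_ideal [IsNoetherian X] 
    (hdim : topologicalKrullDim X ≤ 1) 
    {ψ : X.Modules → ℤ} (h : IsAddFun ψ) {Z : Scheme.{u}} (i : Z ⟶ X) [IsClosedImmersion i] 
    [IsIntegral Z] {I : Z.Modules} (ι : I ⟶ Coh.structureModule Z) [Mono ι] (hI : Coh.IsQCoh I) 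
    (h0 : ¬ IsZero I) : 
    ψ ((Coh.push i).obj I) = ψ ((Coh.push i).obj (Coh.structureModule Z)) := by
  have hZ : IsNoetherian Z := by
    have h1 : IsLocallyNoetherian Z := LocallyOfFiniteType.isLocallyNoetherian i
    have h2 : CompactSpace Z := QuasiCompact.compactSpace_of_compactSpace i
    exact { }
  obtain ⟨U, hU, hs⟩ := exists_dense_open ι hI h0
  have hdZ : topologicalKrullDim Z ≤ 1 := (dim_le_of_closed i).trans hdim
  have hT := dim_image_le i _ (DegFin.dim_compl_le_zero hdZ (U : Set Z) U.isOpen hU)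
  have hO := CurvesB.UnitCoh.isCoh_structureModule Z
  have hIc : Coh.IsCoh I := PerfA.CohSerre.isCoh_of_mono ι hI hO
  refine h.eq_of_hom ((Coh.push i).map ι) (S0019.result i I hIc) (S0019.result i _ hO) hT 
    fun x hx => ?_
  have hcl : IsClosed (i '' (U : Set Z)ᶜ) := i.isClosedEmbedding.isClosedMap _ U.isOpen.isClosed_compl
  refine stalkLin_bijective_of_app ((Coh.push i).map ι) ⟨_, hcl.isOpen_compl⟩ (fun V hV => ?_) hx
  refine app_bijective_of_stalk ι (i ⁻¹ᵁ V) fun z hz => hs z ?_
  by_contra hzU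
  exact hV hz ⟨z, hzU, rfl⟩

/-- On a Noetherian scheme of dimension `≤ 1` an additive functional vanishing on `i_* O_Z` for all integral 
closed subschemes of dimension one vanishes. -/
theorem _root_.Groth.Agent.VarietyB.AddFun.IsAddFun.eq_zero_of_push [IsNoetherian X] 
    (hdim : topologicalKrullDim X ≤ 1) 
    {ψ : X.Modules → ℤ} (h : IsAddFun ψ) 
    (H : ∀ (Z : Scheme.{u}) (i : Z ⟶ X), IsClosedImmersion i → IsIntegral Z → 
      ¬ topologicalKrullDim Z ≤ 0 → ψ ((Coh.push i).obj (Coh.structureModule Z)) = 0) 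
    (M : X.Modules) (hM : Coh.IsCoh M) : ψ M = 0 := by
  have key : Coh.IsCoh M ∧ ψ M = 0 := by
    refine CohqA.DevInd.coh_induction (fun M => Coh.IsCoh M ∧ ψ M = 0) ?_ ?_ ?_ M hM
    · rintro M N ⟨e⟩ ⟨h1, h2⟩
      exact ⟨PerfA.CohSerre.isCoh_of_iso e h1, (h.congr e h1).symm.trans h2⟩
    · intro M hM
      exact ⟨PerfA.CohSerre.isCoh_of_isZero hM, h.of_isZero hM⟩
    · rintro A B f hf hA hB ⟨Z, i, hi, hZ, I, ι, hι, hI, hI0, ⟨e⟩⟩ ⟨-, hA0⟩
      refine ⟨hB, ?_⟩
      have hQ : Coh.IsCoh (cokernel f) := PerfA.CohSerre.isCoh_cokernel f hA.1 hB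
      have h1 := h.add _ (shortExact_cokernel f) hA hB hQ
      change ψ B = ψ A + ψ (cokernel f) at h1
      rw [h1, hA0, zero_add, h.congr e hQ]
      by_cases hd : topologicalKrullDim Z ≤ 0
      · refine h.zero _ (PerfA.CohSerre.isCoh_of_iso e hQ) ?_
        refine (dim_mono (B := i '' Set.univ) fun x hx => ?_).trans 
          (dim_image_le i Set.univ ((Homeomorph.Set.univ Z).isInducing.topologicalKrullDim_le.trans hd))
        rw [Set.image_univ]
        by_contra hxr
        refine hx (CycB.PushStalk.subsingleton_stalk_push i I x ?_)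
        rwa [i.isClosedEmbedding.isClosed_range.closure_eq]
      · rw [h.push_ideal hdim i ι hI hI0, H Z i hi hZ hd]
  exact key.2

/-- On a Noetherian scheme of dimension `≤ 1` additive functionals which agree on `i_* O_Z` for all integral 
closed subschemes of dimension one agree. -/
theorem _root_.Groth.Agent.VarietyB.AddFun.IsAddFun.eq_of_push [IsNoetherian X] 
    (hdim : topologicalKrullDim X ≤ 1) 
    {ψ ψ' : X.Modules → ℤ} (h : IsAddFun ψ) (h' : IsAddFun ψ')
    (H : ∀ (Z : Scheme.{u}) (i : Z ⟶ X), IsClosedImmersion i → IsIntegral Z → 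
      ¬ topologicalKrullDim Z ≤ 0 → ψ ((Coh.push i).obj (Coh.structureModule Z)) = 
        ψ' ((Coh.push i).obj (Coh.structureModule Z))) 
    (M : X.Modules) (hM : Coh.IsCoh M) : ψ M = ψ' M :=
  sub_eq_zero.mp ((h.sub h').eq_zero_of_push hdim 
    (fun Z i hi hZ hd => sub_eq_zero.mpr (H Z i hi hZ hd)) M hM)

end Groth.Agent.VarietyB.DegDev
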