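import Groth.Agent.VarietyB.MVBd502
import Groth.Agent.CurvesC.DualPair
import Groth.Agent.CurvesC.UnitCoh
import Groth.Agent.CurvesC.DualFinAlg

/-!
# Finiteness of the sections of the dualizing module on a chart

`X = U ∪ V` over a field `k`, `(w, t)` a dual pair.  `lam m f = t (bd (f m))` for `m ∈ Γ(w, U)`, `f ∈ Γ(X, U ⊓ V)`.
`lam` is injective in `m` (`eq_zero_of_lam`).
-/

set_option autoImplicit false

universe u

open CategoryTheory CategoryTheory.Limits AlgebraicGeometry Opposite TopologicalSpace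

namespace Groth.Agent.VarietyB.DualFin

open Groth.Agent.CurvesC Groth.Agent.CohqB.QC2 Groth.Agent.CohqB.P1MV Groth.Agent.VarietyB.MVBd

section mul

variable {X : Scheme.{u}}

/-- sections of the structure module are functions -/
noncomputable def sO (W : X.Opens) : Γ(Coh.structureModule X, W) ≃+ Γ(X, W) where
  toFun x := x
  invFun x := x
  left_inv _ := rfl
  right_inv _ := rfl
  map_add' _ _ := rfl

theorem sO_res {W W' : X.Opens} (h : W' ≤ W) (x : Γ(Coh.structureModule X, W)) :
    sO W' (res _ h x) = resR h (sO W x) := rfl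

theorem sO_smul (W : X.Opens) (r : Γ(X, W)) (x : Γ(Coh.structureModule X, W)) :
    sO W (r • x) = r * sO W x := rfl

/-- the map `j_* O_U ⟶ j_* j^* w` given by a section of `w` over `U` -/
noncomputable def mulGM (w : X.Modules) (U : X.Opens) (m : Γ(w, U)) : GM (Coh.structureModule X) U ⟶ GM w U :=
  homMk (fun W => AddMonoidHom.mk'
      (fun x => (secGM w U W).symm (sO _ (secGM (Coh.structureModule X) U W x) • res w (tr_le_left U W) m))
      (fun x y => by rw [map_add, map_add, add_smul, map_add]))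
    (fun W W' h x => by
      rw [AddMonoidHom.mk'_apply, AddMonoidHom.mk'_apply, res_symm, secGM_res, sO_res, res_smul, res_res])
    (fun W r x => by
      change (secGM w U W).symm (sO _ (secGM (Coh.structureModule X) U W (r • x)) • res w (tr_le_left U W) m) =
        r • (secGM w U W).symm (sO _ (secGM (Coh.structureModule X) U W x) • res w (tr_le_left U W) m)
      rw [smul_symm, secGM_smul, sO_smul, mul_smul])

theorem mulGM_app (w : X.Modules) (U : X.Opens) (m : Γ(w, U)) (W : X.Opens)
    (x : Γ(GM (Coh.structureModule X) U, W)) : (mulGM w U m).app W x =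
      (secGM w U W).symm (sO _ (secGM (Coh.structureModule X) U W x) • res w (tr_le_left U W) m) := rfl

/-- `w ⊕ j_* O_U ⟶ j_* j^* w`, `(s, f) ↦ s - f m` -/
noncomputable abbrev dMap (w : X.Modules) (U : X.Opens) (m : Γ(w, U)) :
    w ⊞ GM (Coh.structureModule X) U ⟶ GM w U := biprod.desc (toGM w U) (-mulGM w U m)

theorem dMap_eq (w : X.Modules) (U : X.Opens) (m : Γ(w, U)) :
    dMap w U m = biprod.fst ≫ toGM w U - biprod.snd ≫ mulGM w U m := by
  rw [dMap, biprod.desc_eq, Preadditive.comp_neg, sub_eq_add_neg]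

/-- the fibre product of `w` and `j_* O_U` over `j_* j^* w` -/
noncomputable abbrev Fm (w : X.Modules) (U : X.Opens) (m : Γ(w, U)) : X.Modules := kernel (dMap w U m)

/-- the projection to `w` -/
noncomputable def prW (w : X.Modules) (U : X.Opens) (m : Γ(w, U)) : Fm w U m ⟶ w :=
  kernel.ι (dMap w U m) ≫ biprod.fst

/-- the projection to `j_* O_U` -/
noncomputable def prO (w : X.Modules) (U : X.Opens) (m : Γ(w, U)) : Fm w U m ⟶ GM (Coh.structureModule X) U :=
  kernel.ι (dMap w U m) ≫ biprod.snd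

theorem prW_toGM (w : X.Modules) (U : X.Opens) (m : Γ(w, U)) :
    prW w U m ≫ toGM w U = prO w U m ≫ mulGM w U m := by
  have h : kernel.ι (dMap w U m) ≫ (biprod.fst ≫ toGM w U - biprod.snd ≫ mulGM w U m) = 0 := by
    rw [← dMap_eq]
    exact kernel.condition (dMap w U m)
  rw [Preadditive.comp_sub, sub_eq_zero] at h
  rw [prW, prO, Category.assoc, Category.assoc]
  exact h

/-- sections of the fibre product over an open contained in `U` map to multiples of `m` -/
theorem exists_smul (w : X.Modules) (U : X.Opens) (m : Γ(w, U)) {W : X.Opens} (hW : W ≤ U) (x : Γ(Fm w U m, W)) :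
    ∃ f : Γ(X, W), (prW w U m).app W x = f • res w hW m := by
  have e : W = tr U W := by rw [tr_eq, inf_eq_right.2 hW]
  have h : (toGM w U).app W ((prW w U m).app W x) = (mulGM w U m).app W ((prO w U m).app W x) :=
    congr((Scheme.Modules.Hom.app $(prW_toGM w U m) W) x)
  rw [toGM_app, mulGM_app] at h
  have h2 := (secGM w U W).symm.injective h
  obtain ⟨f, hf⟩ := (resR_bijective_of_eq (tr_le U W) e).2
    (sO _ (secGM (Coh.structureModule X) U W ((prO w U m).app W x)))
  refine ⟨f, (res_injective_of_eq w (tr_le U W) e).1 ?_⟩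
  rw [h2, res_smul, hf, res_res]

/-- the section `(m, 1)` -/
theorem exists_section (w : X.Modules) (U : X.Opens) (m : Γ(w, U)) :
    ∃ x : Γ(Fm w U m, U), (prW w U m).app U x = m := by
  obtain ⟨x, hx⟩ := Groth.Agent.CohqB.QC4.exists_of_exact
    (S := ShortComplex.mk (kernel.ι (dMap w U m)) (dMap w U m) (kernel.condition _))
    (ShortComplex.exact_kernel _) U
    ((biprod.inl : w ⟶ w ⊞ GM (Coh.structureModule X) U).app U m +
      (biprod.inr : GM (Coh.structureModule X) U ⟶ w ⊞ GM (Coh.structureModule X) U).app U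
        ((secGM (Coh.structureModule X) U U).symm ((sO _).symm 1))) (by
      change (dMap w U m).app U _ = 0
      rw [map_add]
      have h1 : (dMap w U m).app U ((biprod.inl : w ⟶ w ⊞ GM (Coh.structureModule X) U).app U m) =
          (toGM w U).app U m := by
        change (biprod.inl ≫ dMap w U m).app U m = _
        rw [dMap, biprod.inl_desc]
      have h2 : ∀ y : Γ(GM (Coh.structureModule X) U, U), (dMap w U m).app U
          ((biprod.inr : GM (Coh.structureModule X) U ⟶ w ⊞ GM (Coh.structureModule X) U).app U y) =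
          -(mulGM w U m).app U y := by
        intro y
        change (biprod.inr ≫ dMap w U m).app U y = _
        rw [dMap, biprod.inr_desc]
        rfl
      rw [h1, h2, toGM_app, mulGM_app, AddEquiv.apply_symm_apply, AddEquiv.apply_symm_apply, one_smul]
      exact add_neg_cancel _)
  refine ⟨x, ?_⟩
  change (biprod.fst : w ⊞ GM (Coh.structureModule X) U ⟶ w).app U ((kernel.ι (dMap w U m)).app U x) = m
  have hx' : (kernel.ι (dMap w U m)).app U x = _ := hx
  rw [hx', map_add]
  have h3 : (biprod.fst : w ⊞ GM (Coh.structureModule X) U ⟶ w).app U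
      ((biprod.inl : w ⟶ w ⊞ GM (Coh.structureModule X) U).app U m) = m := by
    change (biprod.inl ≫ biprod.fst : w ⟶ w).app U m = m
    rw [biprod.inl_fst]
    rfl
  have h4 : ∀ y : Γ(GM (Coh.structureModule X) U, U), (biprod.fst : w ⊞ GM (Coh.structureModule X) U ⟶ w).app U
      ((biprod.inr : GM (Coh.structureModule X) U ⟶ w ⊞ GM (Coh.structureModule X) U).app U y) = 0 := by
    intro y
    change (biprod.inr ≫ biprod.fst : GM (Coh.structureModule X) U ⟶ w).app U y = 0
    rw [biprod.inr_fst]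
    rfl
  rw [h3, h4, add_zero]

theorem isQCoh_Fm [IsLocallyNoetherian X] {w : X.Modules} (hw : Coh.IsQCoh w) (U : X.Opens) (m : Γ(w, U)) :
    Coh.IsQCoh (Fm w U m) :=
  Groth.Agent.CohqB.QC4.isQuasicoherent_kernel _
    (Groth.Agent.CohqB.QC6.isQCoh_biprod hw (Groth.Agent.CohqB.P1Coh.P1Type.isQCoh_GM (UnitCoh.isQCoh_unit X) U))
    (Groth.Agent.CohqB.P1Coh.P1Type.isQCoh_GM hw U)

end mul

variable {k : Type u} [Field k] {X : Scheme.{u}} [X.Over (Spec (CommRingCat.of k))] {U V : X.Opens}

/-- the residue form `(m, f) ↦ t (∂ (f m))` -/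
noncomputable def lam {w : X.Modules} (t : HV X w 1 →ₗ[k] k) (hcov : U ⊔ V = ⊤) :
    Γ(w, U) →+ Γ(X, U ⊓ V) →+ k :=
  AddMonoidHom.mk' (fun m => AddMonoidHom.mk' (fun f => t (bd k w hcov (f • res w inf_le_left m)))
      (fun f g => by rw [add_smul, map_add, map_add]))
    (fun m m' => by
      ext f
      change t (bd k w hcov (f • res w inf_le_left (m + m'))) = t (bd k w hcov (f • res w inf_le_left m)) +
        t (bd k w hcov (f • res w inf_le_left m'))
      rw [map_add, smul_add, map_add, map_add])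

variable {w : X.Modules} {t : HV X w 1 →ₗ[k] k} (hcov : U ⊔ V = ⊤)

theorem lam_apply (m : Γ(w, U)) (f : Γ(X, U ⊓ V)) :
    lam t hcov m f = t (bd k w hcov (f • res w inf_le_left m)) := rfl

theorem lam_smul (g : Γ(X, U)) (m : Γ(w, U)) (f : Γ(X, U ⊓ V)) :
    lam t hcov (g • m) f = lam t hcov m (resR inf_le_left g * f) := by
  rw [lam_apply, lam_apply, res_smul, smul_smul, mul_comm]

theorem lam_res (m : Γ(w, U)) (g : Γ(X, U)) : lam t hcov m (resR inf_le_left g) = 0 := by
  rw [lam_apply, ← res_smul, bd_left, map_zero]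

theorem lam_scalar (c : k) (m : Γ(w, U)) (f : Γ(X, U ⊓ V)) :
    lam t hcov m (resR inf_le_left (HV.globOn k X U c) * f) = c * lam t hcov m f := by
  have h : resR (inf_le_left : U ⊓ V ≤ U) (HV.globOn k X U c) = HV.globOn k X (U ⊓ V) c := by
    change resR _ (resR le_top (HV.glob k X c)) = resR le_top (HV.glob k X c)
    rw [resR_resR]
  rw [lam_apply, lam_apply, h, mul_smul, bd_smul, map_smul, smul_eq_mul]

theorem lam_pow_eq_zero (hw : Coh.IsQCoh w) (hV : IsAffineOpen V) (b : Γ(X, V)) (hb : X.basicOpen b = U ⊓ V)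
    (m : Γ(w, U)) (f : Γ(X, U ⊓ V)) :
    ∃ N, ∀ n ≥ N, lam t hcov m (resR inf_le_right b ^ n * f) = 0 := by
  have hl : Loc w V := ((isQuasicoherent_iff_loc w).1 hw) V hV
  obtain ⟨N, v, hv⟩ := Groth.Agent.CohqB.P1Coh.exists_lift' hl (inf_le_right : U ⊓ V ≤ V) b hb
    (f • res w inf_le_left m)
  refine ⟨N, fun n hn => ?_⟩
  obtain ⟨d, rfl⟩ := Nat.exists_eq_add_of_le hn
  have h : (resR (inf_le_right : U ⊓ V ≤ V) b ^ (N + d) * f) • res w inf_le_left m =
      res w (inf_le_right : U ⊓ V ≤ V) (b ^ d • v) := by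
    rw [res_smul, hv, map_pow, smul_smul, smul_smul, ← pow_add, ← smul_smul, ← smul_smul, add_comm d N]
  rw [lam_apply, h, bd_right, map_zero]

theorem eq_zero_of_lam [X.IsSeparated] [IsLocallyNoetherian X] (h : IsDual w t) (hw : Coh.IsQCoh w)
    (hU : IsAffineOpen U) (hV : IsAffineOpen V) (m : Γ(w, U)) (hm : ∀ f, lam t hcov m f = 0) : m = 0 := by
  have h0 : prW w U m = 0 := by
    apply (h.bijective (isQCoh_Fm hw U m)).1
    ext y
    obtain ⟨x, rfl⟩ := bd_surjective k (Fm w U m) hcov hU hV (isQCoh_Fm hw U m) y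
    rw [LinearMap.comp_apply, LinearMap.comp_apply, bd_map, bd_map]
    obtain ⟨f, hf⟩ := exists_smul w U m (inf_le_left : U ⊓ V ≤ U) x
    rw [hf]
    refine (hm f).trans ?_
    change 0 = t (bd k w hcov 0)
    rw [map_zero, map_zero]
  obtain ⟨x, hx⟩ := exists_section w U m
  rw [← hx, h0]
  rfl

section final

variable {k : Type u} [Field k] {X : Scheme.{u}} [X.Over (Spec (CommRingCat.of k))] {U V : X.Opens}
  {w : X.Modules} {t : HV X w 1 →ₗ[k] k}

/-- sections of the dualizing module over a chart form a finite module -/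
theorem finite_sections [X.IsSeparated] [IsLocallyNoetherian X] (hcov : U ⊔ V = ⊤) (h : IsDual w t)
    (hw : Coh.IsQCoh w) (hU : IsAffineOpen U) (hV : IsAffineOpen V) (a : Γ(X, U)) (b : Γ(X, V))
    (ha : X.basicOpen a = U ⊓ V) (hb : X.basicOpen b = U ⊓ V)
    (hab : resR (inf_le_left : U ⊓ V ≤ U) a * resR (inf_le_right : U ⊓ V ≤ V) b = 1)
    (hfin : (Polynomial.eval₂RingHom (HV.globOn k X U) a).Finite) : Module.Finite Γ(X, U) Γ(w, U) := by
  refine Groth.Agent.CurvesC.DualFinAlg.finite (k := k) (B := Γ(X, U ⊓ V)) (HV.globOn k X U) (resR inf_le_left) a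
    (resR inf_le_right b) (by rw [mul_comm, hab]) (fun x => ?_) hfin (lam t hcov) (lam_smul hcov)
    (lam_res hcov) (lam_pow_eq_zero hcov hw hV b hb) (lam_scalar hcov) (eq_zero_of_lam hcov h hw hU hV)
  have hl : Loc (Coh.structureModule X) U := ((isQuasicoherent_iff_loc _).1 (UnitCoh.isQCoh_unit X)) U hU
  obtain ⟨n, y, hy⟩ := Groth.Agent.CohqB.P1Coh.exists_lift' hl (inf_le_left : U ⊓ V ≤ U) a ha x
  exact ⟨n, y, hy.symm⟩

/-- **The dualizing module is coherent** as soon as there are two charts `U`, `V` with coordinates. -/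
theorem isCoh_of_charts [X.IsSeparated] [IsLocallyNoetherian X] (hcov : U ⊔ V = ⊤) (h : IsDual w t)
    (hw : Coh.IsQCoh w) (hU : IsAffineOpen U) (hV : IsAffineOpen V) (a : Γ(X, U)) (b : Γ(X, V))
    (ha : X.basicOpen a = U ⊓ V) (hb : X.basicOpen b = U ⊓ V)
    (hab : resR (inf_le_left : U ⊓ V ≤ U) a * resR (inf_le_right : U ⊓ V ≤ V) b = 1)
    (hfinU : (Polynomial.eval₂RingHom (HV.globOn k X U) a).Finite)
    (hfinV : (Polynomial.eval₂RingHom (HV.globOn k X V) b).Finite) : Coh.IsCoh w := by
  have h1 := finite_sections hcov h hw hU hV a b ha hb hab hfinU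
  have h2 : Module.Finite Γ(X, V) Γ(w, V) := by
    refine finite_sections (by rw [sup_comm, hcov]) h hw hV hU b a (by rw [hb, inf_comm]) (by rw [ha, inf_comm]) ?_
      hfinV
    have e : V ⊓ U ≤ U ⊓ V := by rw [inf_comm]
    have h3 := congrArg (resR e) hab
    rw [map_mul, map_one, resR_resR, resR_resR, mul_comm] at h3
    exact h3
  refine ⟨hw, Groth.Agent.CohqB.FiniteType2.isFT_of_finite_sections _ fun y => ?_⟩
  have hy : y ∈ U ⊔ V := by rw [hcov]; trivial
  rcases hy with hy | hy
  · exact ⟨U, hy, hU, h1⟩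
  · exact ⟨V, hy, hV, h2⟩

end final

end Groth.Agent.VarietyB.DualFin
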