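import Groth.Agent.VarietyB.KoszulCone
import Mathlib.RingTheory.Binomial
import Mathlib.CategoryTheory.Abelian.Basic

/-!
# Finite differences of an additive function along a graded object with locally invertible operators

`GrOp C r` : family `K.obj a` (`a : ℤ`) with `r` commuting operators. If `e` is additive on short exact
sequences and the operators are jointly locally invertible, then the `r`-th finite difference of
`a ↦ e (K.obj a)` vanishes. Newton's formula for functions on the integers with vanishing difference.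
-/

set_option autoImplicit false

open CategoryTheory CategoryTheory.Limits

universe v u v' u' w

namespace Groth.Agent.VarietyB.EulerDiff

open KoszulCone

/-- forward difference -/
def dl (f : ℤ → ℤ) : ℤ → ℤ := fun a => f (a + 1) - f a

theorem dl_sub (f g : ℤ → ℤ) : dl (fun a => f a - g a) = fun a => dl f a - dl g a := by
  funext a; simp only [dl]; ring

theorem dl_iter_sub (r : ℕ) (f g : ℤ → ℤ) :
    dl^[r] (fun a => f a - g a) = fun a => dl^[r] f a - dl^[r] g a := by
  induction r generalizing f g with
  | zero => rfl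
  | succ r ih => rw [Function.iterate_succ_apply, dl_sub, ih]; rfl

theorem dl_iter_zero (r : ℕ) : dl^[r] (fun _ => 0) = fun _ => 0 := by
  induction r with
  | zero => rfl
  | succ r ih => rw [Function.iterate_succ_apply, show dl (fun _ => 0) = fun _ => 0 from by funext a; simp [dl], ih]

theorem eq_of_dl_eq (f g : ℤ → ℤ) (h : dl f = dl g) (h0 : f 0 = g 0) : f = g := by
  have key : ∀ a, f (a + 1) - g (a + 1) = f a - g a := fun a => by
    have := congrFun h a
    simp only [dl] at this
    linarith
  funext a
  have : f a - g a = 0 := by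
    induction a using Int.induction_on with
    | zero => rw [h0]; ring
    | succ i ih => rw [key, ih]
    | pred i ih =>
      have := key (-(i : ℤ) - 1)
      rw [show (-(i : ℤ) - 1 + 1) = -(i : ℤ) by ring] at this
      rw [← this, ih]
  linarith

theorem dl_choose (j : ℕ) : dl (fun t : ℤ => Ring.choose t (j + 1)) = fun t => Ring.choose t j := by
  funext t
  simp only [dl, Ring.choose_succ_succ]
  ring

/-- Newton's formula -/
theorem newton (n : ℕ) (f : ℤ → ℤ) (h : dl^[n] f = fun _ => 0) (t : ℤ) :
    f t = ∑ j : Fin n, (dl^[(j : ℕ)] f 0) * Ring.choose t (j : ℕ) := by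
  induction n generalizing f t with
  | zero => simpa using congrFun h t
  | succ n ih =>
    have h1 := ih (dl f) h
    have h2 : f = fun t => ∑ j : Fin (n + 1), (dl^[(j : ℕ)] f 0) * Ring.choose t (j : ℕ) := by
      refine eq_of_dl_eq _ _ ?_ ?_
      · funext t
        rw [h1 t]
        simp only [dl]
        rw [← Finset.sum_sub_distrib, Fin.sum_univ_succ]
        simp only [Fin.val_zero, Ring.choose_zero_right, sub_self, zero_add, Fin.val_succ]
        refine Finset.sum_congr rfl fun j _ => ?_
        rw [Ring.choose_succ_succ, Function.iterate_succ_apply]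
        ring
      · rw [Fin.sum_univ_succ]
        simp
    exact congrFun h2 t

variable {C : Type u} [Category.{v} C] [Abelian C]

/-- additivity of an integer valued function on the objects satisfying `P` -/
def IsAdd (P : ObjectProperty C) (e : C → ℤ) : Prop :=
  ∀ S : ShortComplex C, S.ShortExact → P S.X₁ → P S.X₂ → P S.X₃ → e S.X₂ = e S.X₁ + e S.X₃

/-- stable under kernels, cokernels and isomorphisms -/
structure IsKC (P : ObjectProperty C) : Prop where
  ker : ∀ {X Y : C} (f : X ⟶ Y), P X → P Y → P (kernel f)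
  cok : ∀ {X Y : C} (f : X ⟶ Y), P X → P Y → P (cokernel f)

variable {P : ObjectProperty C} {e : C → ℤ}

theorem shortExact_kernel {X Y : C} (f : X ⟶ Y) :
    (ShortComplex.mk (kernel.ι f) (cokernel.π (kernel.ι f)) (cokernel.condition _)).ShortExact where
  exact := ShortComplex.exact_cokernel _
  mono_f := inferInstanceAs (Mono (kernel.ι f))
  epi_g := inferInstanceAs (Epi (cokernel.π _))

theorem shortExact_cokernel {X Y : C} (f : X ⟶ Y) :
    (ShortComplex.mk (kernel.ι (cokernel.π f)) (cokernel.π f) (kernel.condition _)).ShortExact where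
  exact := ShortComplex.exact_kernel _
  mono_f := inferInstanceAs (Mono (kernel.ι _))
  epi_g := inferInstanceAs (Epi (cokernel.π _))

theorem shortExact_iso {X Y Z : C} (i : X ≅ Y) (hZ : IsZero Z) :
    (ShortComplex.mk i.hom (0 : Y ⟶ Z) (by simp)).ShortExact where
  exact := by
    rw [ShortComplex.exact_iff_epi _ rfl]
    exact (inferInstance : Epi i.hom)
  mono_f := (inferInstance : Mono i.hom)
  epi_g := ⟨fun _ _ _ => hZ.eq_of_src _ _⟩

theorem e_zero (h : IsAdd P e) {Z : C} (hZ : IsZero Z) (hP : P Z) : e Z = 0 := by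
  have := h _ (shortExact_iso (Iso.refl Z) hZ) hP hP hP
  simp only at this
  linarith

theorem e_iso (h : IsAdd P e) {X Y : C} (i : X ≅ Y) (hX : P X) (hY : P Y) {Z : C} (hZ : IsZero Z) (hZP : P Z) :
    e X = e Y := by
  have := h _ (shortExact_iso i hZ) hX hY hZP
  simp only at this
  rw [e_zero h hZ hZP] at this
  linarith

theorem e_map (h : IsAdd P e) (hP : IsKC P) {X Y : C} (f : X ⟶ Y) (hX : P X) (hY : P Y) :
    e Y - e X = e (cokernel f) - e (kernel f) := by
  have hk := hP.ker f hX hY
  have hc := hP.cok f hX hY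
  have h1 := h _ (shortExact_kernel f) hk hX (hP.cok _ hk hX)
  have h2 := h _ (shortExact_cokernel f) (hP.ker _ hY hc) hY hc
  have hz : P (kernel (𝟙 X)) := hP.ker _ hX hX
  have h3 : e (cokernel (kernel.ι f)) = e (kernel (cokernel.π f)) :=
    e_iso h (Abelian.coimageIsoImage f) (hP.cok _ hk hX) (hP.ker _ hY hc)
      (isZero_kernel_of_mono (𝟙 X)) hz
  simp only at h1 h2
  linarith

/-- the kernel of the last operator -/
noncomputable def kerOp {r : ℕ} (K : GrOp C (r + 1)) : GrOp C r where
  obj a := kernel (K.x (Fin.last r) a)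
  x i a := kernel.map _ _ (K.x i.castSucc a) (K.x i.castSucc (a + 1)) (K.comm _ _ _)
  comm i j a := by
    rw [← cancel_mono (kernel.ι _)]
    simp [K.comm]

/-- the cokernel of the last operator -/
noncomputable def cokOp {r : ℕ} (K : GrOp C (r + 1)) : GrOp C r where
  obj a := cokernel (K.x (Fin.last r) a)
  x i a := cokernel.map _ _ (K.x i.castSucc a) (K.x i.castSucc (a + 1)) (K.comm _ _ _)
  comm i j a := by
    rw [← cancel_epi (cokernel.π _)]
    simp [reassoc_of% (K.comm i.castSucc j.castSucc)]

variable {ι : Type w} {D : ι → Type u'} [∀ i, Category.{v'} (D i)] [∀ i, Abelian (D i)]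
  (R : ∀ i, C ⥤ D i) [∀ i, PreservesFiniteLimits (R i)] [∀ i, PreservesFiniteColimits (R i)]

/-- local invertibility of the operators -/
def Loc {r : ℕ} (K : GrOp C r) : Prop :=
  ∀ i, (∃ j, ∀ a, IsIso ((R i).map (K.x j a))) ∨ ∀ a, IsZero ((R i).obj (K.obj a))

omit [∀ i, PreservesFiniteColimits (R i)] in
theorem isZero_map_kernel (i : ι) {X Y : C} (f : X ⟶ Y) (h : IsIso ((R i).map f)) :
    IsZero ((R i).obj (kernel f)) :=
  (isZero_kernel_of_mono ((R i).map f)).of_iso (PreservesKernel.iso (R i) f)

theorem isZero_map_cokernel (i : ι) {X Y : C} (f : X ⟶ Y) (h : IsIso ((R i).map f)) :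
    IsZero ((R i).obj (cokernel f)) :=
  (isZero_cokernel_of_epi ((R i).map f)).of_iso (PreservesCokernel.iso (R i) f)

omit [∀ i, PreservesFiniteColimits (R i)] in
theorem isIso_map_kernelMap (i : ι) {X Y X' Y' : C} (f : X ⟶ Y) (g : X' ⟶ Y') (p : X ⟶ X') (q : Y ⟶ Y')
    (h : f ≫ q = p ≫ g) (hp : IsIso ((R i).map p)) (hq : IsIso ((R i).map q)) :
    IsIso ((R i).map (kernel.map f g p q h)) := by
  have e : (R i).map (kernel.map f g p q h) ≫ (PreservesKernel.iso (R i) g).hom =
      (PreservesKernel.iso (R i) f).hom ≫ kernel.map ((R i).map f) ((R i).map g) ((R i).map p)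
        ((R i).map q) (by rw [← Functor.map_comp, h, Functor.map_comp]) := by
    rw [← cancel_mono (kernel.ι _)]
    simp [← Functor.map_comp]
  have h2 : IsIso ((R i).map (kernel.map f g p q h) ≫ (PreservesKernel.iso (R i) g).hom) := by
    rw [e]; infer_instance
  exact IsIso.of_isIso_comp_right _ (PreservesKernel.iso (R i) g).hom

theorem isIso_map_cokernelMap (i : ι) {X Y X' Y' : C} (f : X ⟶ Y) (g : X' ⟶ Y') (p : X ⟶ X') (q : Y ⟶ Y')
    (h : f ≫ q = p ≫ g) (hp : IsIso ((R i).map p)) (hq : IsIso ((R i).map q)) :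
    IsIso ((R i).map (cokernel.map f g p q h)) := by
  have e : (PreservesCokernel.iso (R i) f).inv ≫ (R i).map (cokernel.map f g p q h) =
      cokernel.map ((R i).map f) ((R i).map g) ((R i).map p)
        ((R i).map q) (by rw [← Functor.map_comp, h, Functor.map_comp]) ≫ (PreservesCokernel.iso (R i) g).inv := by
    rw [← cancel_epi (cokernel.π _)]
    simp [← Functor.map_comp]
  have h2 : IsIso ((PreservesCokernel.iso (R i) f).inv ≫ (R i).map (cokernel.map f g p q h)) := by
    rw [e]; infer_instance
  exact IsIso.of_isIso_comp_left (PreservesCokernel.iso (R i) f).inv _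

theorem loc_kerOp {r : ℕ} (K : GrOp C (r + 1)) (h : Loc R K) : Loc R (kerOp K) := by
  intro i
  rcases h i with ⟨j, hj⟩ | h0
  · rcases Fin.eq_castSucc_or_eq_last j with ⟨j, rfl⟩ | rfl
    · exact Or.inl ⟨j, fun a => isIso_map_kernelMap R i _ _ _ _ (K.comm _ _ _) (hj a) (hj (a + 1))⟩
    · exact Or.inr fun a => isZero_map_kernel R i _ (hj a)
  · refine Or.inr fun a => ?_
    change IsZero ((R i).obj (kernel (K.x (Fin.last r) a)))
    have : Mono ((R i).map (kernel.ι (K.x (Fin.last r) a))) := (R i).map_mono _
    exact (h0 a).of_mono ((R i).map (kernel.ι (K.x (Fin.last r) a)))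

theorem loc_cokOp {r : ℕ} (K : GrOp C (r + 1)) (h : Loc R K) : Loc R (cokOp K) := by
  intro i
  rcases h i with ⟨j, hj⟩ | h0
  · rcases Fin.eq_castSucc_or_eq_last j with ⟨j, rfl⟩ | rfl
    · exact Or.inl ⟨j, fun a => isIso_map_cokernelMap R i _ _ _ _ (K.comm _ _ _) (hj a) (hj (a + 1))⟩
    · exact Or.inr fun a => isZero_map_cokernel R i _ (hj a)
  · refine Or.inr fun a => ?_
    change IsZero ((R i).obj (cokernel (K.x (Fin.last r) a)))
    have : Epi ((R i).map (cokernel.π (K.x (Fin.last r) a))) := (R i).map_epi _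
    exact (h0 (a + 1)).of_epi ((R i).map (cokernel.π (K.x (Fin.last r) a)))

/-- The `r`-th difference of an additive function vanishes along `r` jointly locally invertible operators. -/
theorem dl_iter_eq_zero (h : IsAdd P e) (hP : IsKC P)
    (hcons : ∀ X : C, (∀ i, IsZero ((R i).obj X)) → IsZero X) :
    ∀ (r : ℕ) (K : GrOp C r) (_ : ∀ a, P (K.obj a)) (_ : Loc R K),
      dl^[r] (fun a => e (K.obj a)) = fun _ => 0 := by
  intro r
  induction r with
  | zero =>
    intro K hK hl
    funext a
    refine e_zero h (hcons _ fun i => ?_) (hK a)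
    rcases hl i with ⟨j, -⟩ | h0
    · exact j.elim0
    · exact h0 a
  | succ r ih =>
    intro K hK hl
    rw [Function.iterate_succ_apply]
    have h1 : dl (fun a => e (K.obj a)) = fun a => e ((cokOp K).obj a) - e ((kerOp K).obj a) := by
      funext a
      exact e_map h hP (K.x (Fin.last r) a) (hK a) (hK (a + 1))
    rw [h1, dl_iter_sub, ih (cokOp K) (fun a => hP.cok _ (hK a) (hK (a + 1))) (loc_cokOp R K hl),
      ih (kerOp K) (fun a => hP.ker _ (hK a) (hK (a + 1))) (loc_kerOp R K hl)]
    simp

end Groth.Agent.VarietyB.EulerDiff
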