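import Mathlib.FieldTheory.SeparablyGenerated
import Mathlib.FieldTheory.PurelyInseparable.PerfectClosure
import Mathlib.FieldTheory.PurelyInseparable.Tower
import Mathlib.FieldTheory.IsAlgClosed.AlgebraicClosure
import Mathlib.RingTheory.AlgebraicIndependent.TranscendenceBasis

/-!
# Making a finitely generated field extension separable (Stacks, Tag 04KM)

Let `K/k` be a finitely generated field extension.  There is a finite purely inseparable extension
`k'/k` and a compositum `K'` of `K` and `k'`, finite over `K`, which has a finite separating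
transcendence basis over `k'`.
-/

set_option autoImplicit false

universe u

namespace Groth.Agent.VarietyB.FieldPI

open IntermediateField Polynomial

section Inside

variable {k Ω : Type u} [Field k] [Field Ω] [Algebra k Ω]

/-- An element of `k(P ∪ s)` lies in `k(F ∪ s)` for a finite subset `F` of `P`. -/
lemma exists_finset_mem_adjoin_union {P s : Set Ω} {x : Ω}
    (hx : x ∈ adjoin k (P ∪ s)) : ∃ F : Finset Ω, (F : Set Ω) ⊆ P ∧ x ∈ adjoin k ((F : Set Ω) ∪ s) := by
  classical
  obtain ⟨T, hT, hx⟩ := exists_finset_of_mem_adjoin hx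
  refine ⟨T.filter (· ∈ P), fun y hy => (Finset.mem_filter.mp hy).2, ?_⟩
  refine adjoin.mono _ _ _ (fun y hy => ?_) hx
  by_cases h : y ∈ P
  · exact Or.inl (Finset.mem_coe.mpr (Finset.mem_filter.mpr ⟨hy, h⟩))
  · exact Or.inr ((hT hy).resolve_left h)

/-- Finitely many elements of `k(P ∪ s)` lie in `k(F ∪ s)` for a finite subset `F` of `P`. -/
lemma exists_finset_forall_mem_adjoin_union {P s : Set Ω} (C : Finset Ω)
    (hx : ∀ x ∈ C, x ∈ adjoin k (P ∪ s)) :
    ∃ F : Finset Ω, (F : Set Ω) ⊆ P ∧ ∀ x ∈ C, x ∈ adjoin k ((F : Set Ω) ∪ s) := by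
  classical
  choose! G hG hG' using fun x hx' => exists_finset_mem_adjoin_union (hx x hx')
  refine ⟨C.biUnion G, ?_, fun x hx' => ?_⟩
  · simp only [Finset.coe_biUnion, Set.iUnion_subset_iff]
    exact fun x hx' => hG x hx'
  · refine adjoin.mono _ _ _ (Set.union_subset_union_left _ ?_) (hG' x hx')
    exact_mod_cast Finset.subset_biUnion_of_mem G hx'

/-- A criterion for separability over an abstract base field. -/
lemma isSeparable_of_coeff_mem {E A : Type*} [Field E] [Field A] [Algebra E A] [Algebra A Ω] [Algebra E Ω]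
    [IsScalarTower E A Ω] {a : A} {q : Ω[X]} (hq : q.Separable)
    (ha : q.eval (algebraMap A Ω a) = 0) (hc : ∀ n, q.coeff n ∈ (algebraMap E Ω).range) :
    IsSeparable E a := by
  have hl : q ∈ Polynomial.lifts (algebraMap E Ω) := by
    rw [Polynomial.lifts_iff_coeff_lifts]
    exact fun n => hc n
  obtain ⟨q', rfl⟩ := hl
  have hq' : q'.Separable := Polynomial.separable_map (algebraMap E Ω) |>.mp hq
  refine hq'.of_dvd (minpoly.dvd _ _ ?_)
  rw [Polynomial.coe_mapRingHom, Polynomial.eval_map_algebraMap, Polynomial.aeval_algebraMap_apply] at ha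
  exact (map_eq_zero_iff _ (algebraMap A Ω).injective).mp ha

lemma exists_finset_perfect [PerfectField Ω] (t : Finset Ω) :
    ∃ (F s : Finset Ω), (F : Set Ω) ⊆ perfectClosure k Ω ∧
      AlgebraicIndependent (perfectClosure k Ω) ((↑) : s → Ω) ∧
      (∀ x ∈ s, x ∈ adjoin k (F ∪ t : Set Ω)) ∧
      ∀ a ∈ t, ∃ q : Ω[X], q.Separable ∧ q.eval a = 0 ∧ ∀ n, q.coeff n ∈ adjoin k (F ∪ s : Set Ω) := by
  classical
  set P := perfectClosure k Ω with hP
  let L : IntermediateField P Ω := adjoin P (t : Set Ω)
  have hL : Algebra.EssFiniteType P L := essFiniteType_iff.mpr ⟨t, rfl⟩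
  obtain ⟨s, hs, hsep⟩ := exists_isTranscendenceBasis_and_isSeparable_of_perfectField P L
  let s' : Finset Ω := s.image (algebraMap L Ω)
  have hs' : (s' : Set Ω) = (algebraMap L Ω) '' (s : Set L) := by simp [s']
  -- (i) the elements of `s'` lie in `k(F₁ ∪ t)`
  have h1 : ∀ x ∈ s', x ∈ adjoin k ((P : Set Ω) ∪ t) := by
    intro x hx
    rw [← restrictScalars_adjoin, mem_restrictScalars]
    obtain ⟨y, hy, rfl⟩ := Finset.mem_image.mp hx
    exact y.2
  obtain ⟨F₁, hF₁, hF₁'⟩ := exists_finset_forall_mem_adjoin_union s' h1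
  -- (ii) separability
  have h2 : ∀ a ∈ t, ∃ q : Ω[X], q.Separable ∧ q.eval a = 0 ∧
      ∀ n, q.coeff n ∈ adjoin k ((P : Set Ω) ∪ s') := by
    intro a ha
    let a' : L := ⟨a, subset_adjoin _ _ ha⟩
    have hsa := Algebra.IsSeparable.isSeparable (adjoin P (s : Set L)) a'
    refine ⟨(minpoly (adjoin P (s : Set L)) a').map (algebraMap _ Ω), Polynomial.Separable.map hsa, ?_, fun n => ?_⟩
    · rw [Polynomial.eval_map_algebraMap]
      have : (aeval (algebraMap L Ω a')) (minpoly (adjoin P (s : Set L)) a') = 0 := by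
        rw [Polynomial.aeval_algebraMap_apply, minpoly.aeval, map_zero]
      exact this
    · rw [Polynomial.coeff_map, ← restrictScalars_adjoin, mem_restrictScalars, hs']
      have := adjoin_map P (s : Set L) (IsScalarTower.toAlgHom P L Ω)
      change _ ∈ adjoin P ((IsScalarTower.toAlgHom P L Ω) '' (s : Set L))
      rw [← this]
      exact ⟨_, ((minpoly (adjoin P (s : Set L)) a').coeff n).2, rfl⟩
  choose! q hq1 hq2 hq3 using h2
  let C : Finset Ω := t.biUnion fun a => (q a).coeffs
  have hC : ∀ x ∈ C, x ∈ adjoin k ((P : Set Ω) ∪ s') := by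
    intro x hx
    obtain ⟨a, ha, hx⟩ := Finset.mem_biUnion.mp hx
    obtain ⟨n, _, rfl⟩ := Polynomial.mem_coeffs_iff.mp hx
    exact hq3 a ha n
  obtain ⟨F₂, hF₂, hF₂'⟩ := exists_finset_forall_mem_adjoin_union C hC
  refine ⟨F₁ ∪ F₂, s', ?_, ?_, fun x hx => ?_, fun a ha => ?_⟩
  · rw [Finset.coe_union]
    exact Set.union_subset hF₁ hF₂
  · have h3 : AlgebraicIndependent P (fun x : s => (algebraMap L Ω) x.1) :=
      hs.1.map' (f := IsScalarTower.toAlgHom P L Ω) (algebraMap L Ω).injective
    have h4 : AlgebraicIndependent P (Subtype.val : ↥(s' : Set Ω) → Ω) := by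
      refine h3.coe_range.mono ?_
      rw [hs']
      rintro _ ⟨x, hx, rfl⟩
      exact ⟨⟨x, hx⟩, rfl⟩
    exact h4
  · refine adjoin.mono _ _ _ (Set.union_subset_union_left _ ?_) (hF₁' x hx)
    simp
  · refine ⟨q a, hq1 a ha, hq2 a ha, fun n => ?_⟩
    by_cases h0 : (q a).coeff n = 0
    · rw [h0]; exact zero_mem _
    refine adjoin.mono _ _ _ (Set.union_subset_union_left _ ?_)
      (hF₂' _ (Finset.mem_biUnion.mpr ⟨a, ha, Polynomial.coeff_mem_coeffs h0⟩))
    simp

end Inside

/-- Version inside a perfect field. -/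
theorem exists_separablyGenerated_aux (k K Ω : Type u) [Field k] [Field K] [Algebra k K]
    [Field Ω] [Algebra k Ω] [Algebra K Ω] [IsScalarTower k K Ω] [PerfectField Ω]
    [Algebra.EssFiniteType k K] :
    ∃ (k' : Type u) (_ : Field k') (_ : Algebra k k') (K' : Type u) (_ : Field K')
      (_ : Algebra k K') (_ : Algebra K K') (_ : Algebra k' K'),
      IsScalarTower k K K' ∧ IsScalarTower k k' K' ∧
      FiniteDimensional k k' ∧ IsPurelyInseparable k k' ∧ Module.Finite K K' ∧ IsPurelyInseparable K K' ∧
      Algebra.EssFiniteType k' K' ∧ Algebra.adjoin K (Set.range (algebraMap k' K')) = ⊤ ∧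
      ∃ s : Finset K', IsTranscendenceBasis k' ((↑) : s → K') ∧
        Algebra.IsSeparable (adjoin k' (s : Set K')) K' := by
  classical
  obtain ⟨t₀, ht₀⟩ := fg_top k K
  let t : Finset Ω := t₀.image (algebraMap K Ω)
  have ht : (t : Set Ω) = (algebraMap K Ω) '' (t₀ : Set K) := by simp [t]
  obtain ⟨F, s, hFP, hs, hst, hsep⟩ := exists_finset_perfect (k := k) (Ω := Ω) t
  let k' : IntermediateField k Ω := adjoin k (F : Set Ω)
  have hk'P : k' ≤ perfectClosure k Ω := adjoin_le_iff.mpr hFP
  let K' : IntermediateField k' Ω := adjoin k' (t : Set Ω)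
  have hK'k : K'.restrictScalars k = adjoin k ((F : Set Ω) ∪ t) := adjoin_adjoin_left _ _ _
  have hKK' : ∀ x : K, algebraMap K Ω x ∈ K' := by
    intro x
    have hx : x ∈ adjoin k (t₀ : Set K) := by rw [ht₀]; trivial
    have h1 : algebraMap K Ω x ∈ (adjoin k (t₀ : Set K)).map (IsScalarTower.toAlgHom k K Ω) := ⟨x, hx, rfl⟩
    rw [adjoin_map] at h1
    rw [← mem_restrictScalars (K := k), hK'k]
    refine adjoin.mono _ _ _ ?_ h1
    rw [ht]
    exact Set.subset_union_right
  let φ : K →+* K' := (algebraMap K Ω).codRestrict K' hKK'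
  let _ : Algebra K K' := φ.toAlgebra
  have : IsScalarTower K K' Ω := .of_algebraMap_eq' rfl
  have : IsScalarTower k K' Ω := .of_algebraMap_eq' rfl
  have : IsScalarTower k K K' := .of_algebraMap_eq fun x => by
    apply (algebraMap K' Ω).injective
    rw [← IsScalarTower.algebraMap_apply K K' Ω, ← IsScalarTower.algebraMap_apply k K Ω,
      ← IsScalarTower.algebraMap_apply k K' Ω]
  have hEF : Algebra.EssFiniteType k' K' := essFiniteType_iff.mpr ⟨t, rfl⟩
  have hint : ∀ x ∈ (F : Set Ω), IsIntegral k x := fun x hx =>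
    (Algebra.IsAlgebraic.isAlgebraic (R := k) (⟨x, hFP hx⟩ : perfectClosure k Ω)).isIntegral.map
      (perfectClosure k Ω).val
  have hfin : FiniteDimensional k k' := finiteDimensional_adjoin hint
  have hpi : IsPurelyInseparable k k' := (le_perfectClosure_iff _ _ _).mp hk'P
  -- `K'` embeds into `K(F)`
  let M : IntermediateField K Ω := adjoin K (F : Set Ω)
  have hK'M : ∀ x : K', (x : Ω) ∈ M := by
    intro x
    have hx : (x : Ω) ∈ K'.restrictScalars k := x.2
    rw [hK'k] at hx
    have : adjoin k ((F : Set Ω) ∪ t) ≤ M.restrictScalars k := by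
      rw [adjoin_le_iff]
      rintro y (hy | hy)
      · rw [SetLike.mem_coe, mem_restrictScalars]
        exact subset_adjoin _ _ hy
      · rw [ht] at hy
        obtain ⟨z, _, rfl⟩ := hy
        rw [SetLike.mem_coe, mem_restrictScalars]
        exact M.algebraMap_mem z
    exact this hx
  let ψ : K' →ₐ[K] M :=
    { toFun := fun x => ⟨x, hK'M x⟩
      map_one' := rfl
      map_mul' := fun _ _ => rfl
      map_zero' := rfl
      map_add' := fun _ _ => rfl
      commutes' := fun _ => rfl }
  have hψ : Function.Injective ψ := fun x y hxy => Subtype.ext (congrArg (fun z : M => (z : Ω)) hxy)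
  have hMfin : FiniteDimensional K M := finiteDimensional_adjoin fun x hx => (hint x hx).tower_top
  have hfin' : Module.Finite K K' := Module.Finite.of_injective ψ.toLinearMap hψ
  obtain ⟨q, hq⟩ := ExpChar.exists k
  have : ExpChar K q := expChar_of_injective_algebraMap (algebraMap k K).injective q
  have hMpi : IsPurelyInseparable K M := by
    rw [isPurelyInseparable_adjoin_iff_pow_mem K Ω q]
    intro x hx
    obtain ⟨n, y, hy⟩ := (mem_perfectClosure_iff_pow_mem q).mp (hFP hx)
    exact ⟨n, algebraMap k K y, by rw [← hy, ← IsScalarTower.algebraMap_apply]⟩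
  have hpi' : IsPurelyInseparable K K' := by
    rw [isPurelyInseparable_iff_pow_mem K q]
    intro x
    obtain ⟨n, y, hy⟩ := (isPurelyInseparable_iff_pow_mem K q).mp hMpi (ψ x)
    refine ⟨n, y, hψ ?_⟩
    rw [map_pow, ← hy, ψ.commutes]
  refine ⟨k', inferInstance, inferInstance, K', inferInstance, inferInstance, inferInstance, inferInstance,
    inferInstance, inferInstance, hfin, hpi, hfin', hpi', hEF, ?_, ?_⟩
  · have halg : Algebra.IsAlgebraic K K' := inferInstance
    rw [← adjoin_toSubalgebra_of_isAlgebraic fun x _ => halg.isAlgebraic x]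
    have hN : adjoin K (Set.range (algebraMap k' K')) = ⊤ := by
      set N : IntermediateField K K' := adjoin K (Set.range (algebraMap k' K')) with hNdef
      let N' : IntermediateField k' Ω := (N.toSubfield.map (algebraMap K' Ω)).toIntermediateField
        fun x => ⟨algebraMap k' K' x, subset_adjoin _ _ ⟨x, rfl⟩, rfl⟩
      have hKN' : K' ≤ N' := by
        rw [adjoin_le_iff, ht]
        rintro _ ⟨z, _, rfl⟩
        exact ⟨algebraMap K K' z, N.algebraMap_mem z, rfl⟩
      rw [eq_top_iff]
      intro x _
      obtain ⟨y, hy, hyx⟩ := hKN' x.2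
      have : y = x := (algebraMap K' Ω).injective hyx
      rw [← this]
      exact hy
    rw [hN, top_toSubalgebra]
  · have hsK' : ∀ x ∈ s, x ∈ K' := by
      intro x hx
      rw [← mem_restrictScalars (K := k), hK'k]
      exact hst x hx
    let s' : Finset K' := s.subtype (· ∈ K')
    have hs' : (algebraMap K' Ω) '' (s' : Set K') = (s : Set Ω) := by
      ext x
      constructor
      · rintro ⟨y, hy, rfl⟩
        exact Finset.mem_subtype.mp (Finset.mem_coe.mp hy)
      · intro hx
        exact ⟨⟨x, hsK' x hx⟩, Finset.mem_coe.mpr (Finset.mem_subtype.mpr hx), rfl⟩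
    have hmap : ∀ T : Set K', (adjoin k' T).map (IsScalarTower.toAlgHom k' K' Ω) =
        adjoin k' ((algebraMap K' Ω) '' T) := fun T => adjoin_map _ _ _
    have hsepK' : Algebra.IsSeparable (adjoin k' (s' : Set K')) K' := by
      have htop : adjoin k' ((algebraMap K' Ω) ⁻¹' (t : Set Ω)) = ⊤ := by
        rw [eq_top_iff]
        intro x _
        have hx : (x : Ω) ∈ adjoin k' (t : Set Ω) := x.2
        have h2 : (algebraMap K' Ω) '' ((algebraMap K' Ω) ⁻¹' (t : Set Ω)) = t := by
          rw [Set.image_preimage_eq_iff]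
          intro y hy
          exact ⟨⟨y, subset_adjoin _ _ hy⟩, rfl⟩
        rw [← h2, ← hmap] at hx
        obtain ⟨y, hy, hyx⟩ := hx
        have : y = x := (algebraMap K' Ω).injective hyx
        rw [← this]
        exact hy
      rw [← separableClosure.eq_top_iff, ← (restrictScalars_injective k').eq_iff,
        restrictScalars_top, eq_top_iff, ← htop, adjoin_le_iff]
      intro a ha
      rw [SetLike.mem_coe, mem_restrictScalars, mem_separableClosure_iff]
      obtain ⟨q, hq1, hq2, hq3⟩ := hsep _ ha
      refine isSeparable_of_coeff_mem (Ω := Ω) hq1 hq2 fun n => ?_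
      have h3 : q.coeff n ∈ (adjoin k' (s : Set Ω)).restrictScalars k := by
        have h4 : (adjoin k' (s : Set Ω)).restrictScalars k = adjoin k ((F : Set Ω) ∪ s) :=
          adjoin_adjoin_left _ _ _
        rw [h4]
        exact hq3 n
      rw [mem_restrictScalars, ← hs', ← hmap] at h3
      obtain ⟨y, hy, hyx⟩ := h3
      exact ⟨⟨y, hy⟩, hyx⟩
    refine ⟨s', ?_, hsepK'⟩
    have hind : AlgebraicIndependent k' (Subtype.val : s' → K') := by
      let _ : Algebra k' (perfectClosure k Ω) := (inclusion hk'P).toRingHom.toAlgebra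
      have : IsScalarTower k' (perfectClosure k Ω) Ω := .of_algebraMap_eq' rfl
      have h2 : AlgebraicIndependent k' (Subtype.val : s → Ω) :=
        hs.restrictScalars (algebraMap k' (perfectClosure k Ω)).injective
      let e : s' → s := fun x => ⟨x.1.1, Finset.mem_subtype.mp x.2⟩
      have he : Function.Injective e := fun x y hxy =>
        Subtype.ext (Subtype.ext (congrArg (fun z : s => (z : Ω)) hxy))
      exact AlgebraicIndependent.of_comp (IsScalarTower.toAlgHom k' K' Ω) (h2.comp e he)
    rw [hind.isTranscendenceBasis_iff_isAlgebraic]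
    have h1 : Algebra.IsAlgebraic (adjoin k' (s' : Set K')) K' := inferInstance
    rw [isAlgebraic_adjoin_iff_top] at h1
    have h5 : Set.range (Subtype.val : s' → K') = (s' : Set K') := Subtype.range_val
    rwa [h5]

/-- Stacks, Tag 04KM: given a finitely generated field extension `K/k`, there are a finite purely inseparable
extension `k'/k` and a compositum `K'` of `K` and `k'` (finite purely inseparable over `K`) such that `K'/k'`
is finitely generated and has a finite separating transcendence basis. -/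
theorem exists_separablyGenerated (k K : Type u) [Field k] [Field K] [Algebra k K]
    [Algebra.EssFiniteType k K] :
    ∃ (k' : Type u) (_ : Field k') (_ : Algebra k k') (K' : Type u) (_ : Field K')
      (_ : Algebra k K') (_ : Algebra K K') (_ : Algebra k' K'),
      IsScalarTower k K K' ∧ IsScalarTower k k' K' ∧
      FiniteDimensional k k' ∧ IsPurelyInseparable k k' ∧ Module.Finite K K' ∧ IsPurelyInseparable K K' ∧
      Algebra.EssFiniteType k' K' ∧ Algebra.adjoin K (Set.range (algebraMap k' K')) = ⊤ ∧
      ∃ s : Finset K', IsTranscendenceBasis k' ((↑) : s → K') ∧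
        Algebra.IsSeparable (adjoin k' (s : Set K')) K' :=
  exists_separablyGenerated_aux k K (AlgebraicClosure K)

end Groth.Agent.VarietyB.FieldPI
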