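import Mathlib.Algebra.Order.Ring.Int
import Mathlib.Algebra.Order.Group.Abs
import Mathlib.Tactic.Linarith
import Mathlib.Tactic.Ring
import Mathlib.Tactic.Push
import Mathlib.Tactic.Positivity

/-!
The combinatorial core of the Hodge index theorem: walking around a large disk in `ℤ²`.
-/

set_option autoImplicit false

namespace Groth.Agent.VarietyB.HodgeWalk

/-- If `P` is stable under unit steps outside a disk, then `P` propagates from `(S, 0)` to `(-S, 0)`. -/
theorem walk (P : ℤ → ℤ → Prop) (S : ℕ)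
    (h1 : ∀ a b : ℤ, (S : ℤ) ≤ |a| + |b| → P a b → P a (b + 1))
    (h2 : ∀ a b : ℤ, (S : ℤ) ≤ |a| + |b| → P a b → P (a - 1) b)
    (h3 : ∀ a b : ℤ, (S : ℤ) ≤ |a| + |b| → P a b → P a (b - 1))
    (h0 : P S 0) : P (-S) 0 := by
  have hS : |(S : ℤ)| = S := abs_of_nonneg (Int.natCast_nonneg S)
  have s1 : ∀ j : ℕ, P S j := by
    intro j
    induction j with
    | zero => exact_mod_cast h0
    | succ j ih =>
      have := h1 S j (by rw [hS]; linarith [abs_nonneg (j : ℤ)]) ih
      exact_mod_cast this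
  have s2 : ∀ i : ℕ, P (S - i) S := by
    intro i
    induction i with
    | zero => simpa using s1 S
    | succ i ih =>
      have := h2 (S - i) S (by rw [hS]; linarith [abs_nonneg ((S : ℤ) - i)]) ih
      have e : (S : ℤ) - i - 1 = S - ((i + 1 : ℕ) : ℤ) := by push_cast; ring
      rwa [e] at this
  have s3 : P (-S) S := by
    have := s2 (S + S)
    have e : (S : ℤ) - ((S + S : ℕ) : ℤ) = -S := by push_cast; ring
    rwa [e] at this
  have s4 : ∀ j : ℕ, P (-S) (S - j) := by
    intro j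
    induction j with
    | zero => simpa using s3
    | succ j ih =>
      have := h3 (-S) (S - j) (by rw [abs_neg, hS]; linarith [abs_nonneg ((S : ℤ) - j)]) ih
      have e : (S : ℤ) - j - 1 = S - ((j + 1 : ℕ) : ℤ) := by push_cast; ring
      rwa [e] at this
  simpa using s4 S

/-- `c (a² + b²)` beats `C (|a| + |b| + 1)` for `|a| + |b|` large. -/
theorem exists_large (c C : ℤ) (hc : 0 < c) : ∃ R : ℕ, ∀ a b : ℤ, (R : ℤ) ≤ |a| + |b| →
    C * (|a| + |b| + 1) < c * (a ^ 2 + b ^ 2) := by
  refine ⟨(4 * |C| + 4).toNat, fun a b h => ?_⟩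
  have h0 : (0 : ℤ) ≤ 4 * |C| + 4 := by positivity
  rw [Int.toNat_of_nonneg h0] at h
  have ha := abs_nonneg a
  have hb := abs_nonneg b
  have hCC : C ≤ |C| := le_abs_self C
  have hC0 := abs_nonneg C
  set x := |a| with hx
  set y := |b| with hy
  have e1 : a ^ 2 = x ^ 2 := (sq_abs a).symm
  have e2 : b ^ 2 = y ^ 2 := (sq_abs b).symm
  rw [e1, e2]
  set s := x + y with hs
  have hs2 : s ^ 2 ≤ 2 * (x ^ 2 + y ^ 2) := by nlinarith [sq_nonneg (x - y)]
  have hs4 : 4 * |C| + 4 ≤ s := h
  have k1 : C * (s + 1) ≤ |C| * (s + 1) := by nlinarith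
  have k2 : |C| * (s + 1) ≤ |C| * (2 * s) := by nlinarith
  have k3 : 2 * (|C| * (2 * s)) < s ^ 2 := by nlinarith
  have k4 : x ^ 2 + y ^ 2 ≤ c * (x ^ 2 + y ^ 2) := by nlinarith [sq_nonneg x, sq_nonneg y]
  linarith

/-- The contradiction at the heart of the Hodge index theorem. -/
theorem no_definite (h : ℤ → ℤ → ℤ) (hn : ∀ a b, 0 ≤ h a b) (ρ C c K : ℤ) (hρ : 0 ≤ ρ) (hc : 0 < c)
    (hgrow : ∀ a b : ℤ, c * (a ^ 2 + b ^ 2) ≤ ρ * (h a b + h (-a) (-b)) + C * (|a| + |b| + 1))
    (hboth : ∀ a b : ℤ, 0 < h a b → 0 < h (-a) (-b) → h a b ≤ K)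
    (hstep : ∀ a b e f : ℤ, |e| + |f| = 1 → h a b ≤ ρ * h (a + e) (b + f) + C * (|a| + |b| + 1)) :
    False := by
  -- the threshold
  obtain ⟨R, hR⟩ := exists_large c ((1 + ρ) * |C| + ρ * (2 * |K|)) hc
  have hC0 := abs_nonneg C
  have hK0 := abs_nonneg K
  have hCC : C ≤ |C| := le_abs_self C
  have hKK : K ≤ |K| := le_abs_self K
  -- outside the disk exactly one of the two is positive, and then it is large
  have key : ∀ a b : ℤ, (R : ℤ) ≤ |a| + |b| → 0 < h a b → h (-a) (-b) = 0 ∧ C * (|a| + |b| + 1) < h a b := by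
    intro a b hab hpos
    have hs : 0 ≤ |a| + |b| := by positivity
    have h1 := hR a b hab
    have h2 := hgrow a b
    have hneg : h (-a) (-b) = 0 := by
      by_contra hne
      have hpos' : 0 < h (-a) (-b) := lt_of_le_of_ne (hn _ _) (Ne.symm hne)
      have b1 := hboth a b hpos hpos'
      have b2 := hboth (-a) (-b) hpos' (by rwa [neg_neg, neg_neg])
      have b3 : ρ * (h a b + h (-a) (-b)) ≤ ρ * (2 * |K|) := by nlinarith
      have b4 : ρ * (2 * |K|) ≤ ρ * (2 * |K|) * (|a| + |b| + 1) := by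
        have : 0 ≤ ρ * (2 * |K|) := by positivity
        nlinarith
      have b5 : C * (|a| + |b| + 1) ≤ (1 + ρ) * |C| * (|a| + |b| + 1) := by
        have : C ≤ (1 + ρ) * |C| := by nlinarith
        nlinarith
      nlinarith
    refine ⟨hneg, ?_⟩
    rw [hneg, add_zero] at h2
    have c1 : ρ * |C| * (|a| + |b| + 1) < ρ * h a b := by
      have c2 : C * (|a| + |b| + 1) ≤ |C| * (|a| + |b| + 1) := by nlinarith
      have c3 : 0 ≤ ρ * (2 * |K|) * (|a| + |b| + 1) := by positivity
      nlinarith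
    have hρ' : 0 < ρ := by
      rcases hρ.lt_or_eq with h' | h'
      · exact h'
      · rw [← h'] at c1
        simp at c1
    have c4 : |C| * (|a| + |b| + 1) < h a b := by
      by_contra hle
      push Not at hle
      nlinarith
    nlinarith
  have step : ∀ e f : ℤ, |e| + |f| = 1 → ∀ a b : ℤ, (R : ℤ) ≤ |a| + |b| → 0 < h a b →
      0 < h (a + e) (b + f) := by
    intro e f hef a b hab hpos
    have h1 := hstep a b e f hef
    have h2 := (key a b hab hpos).2
    have h3 : 0 < ρ * h (a + e) (b + f) := by linarith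
    by_contra hle
    have : h (a + e) (b + f) = 0 := le_antisymm (not_lt.mp hle) (hn _ _)
    rw [this, mul_zero] at h3
    exact lt_irrefl _ h3
  -- one of the two endpoints is effective
  have hor : 0 < h R 0 ∨ 0 < h (-R) 0 := by
    by_contra hcon
    push Not at hcon
    have e1 : h R 0 = 0 := le_antisymm hcon.1 (hn _ _)
    have e2 : h (-R) 0 = 0 := le_antisymm hcon.2 (hn _ _)
    have h1 := hR R 0 (by simp)
    have h2 := hgrow R 0
    rw [neg_zero, e1, e2] at h2
    have b5 : C * (|(R : ℤ)| + |(0 : ℤ)| + 1) ≤ ((1 + ρ) * |C| + ρ * (2 * |K|)) * (|(R : ℤ)| + |(0 : ℤ)| + 1) := by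
      have : C ≤ ((1 + ρ) * |C| + ρ * (2 * |K|)) := by
        have : 0 ≤ ρ * (2 * |K|) := by positivity
        nlinarith
      have hs : 0 ≤ |(R : ℤ)| + |(0 : ℤ)| := by positivity
      nlinarith
    linarith
  have hRR : (R : ℤ) ≤ |(R : ℤ)| + |(0 : ℤ)| := by simp
  have hRR' : (R : ℤ) ≤ |(-R : ℤ)| + |(0 : ℤ)| := by simp
  rcases hor with h' | h'
  · have := walk (fun a b => 0 < h a b) R
      (fun a b hab hp => by simpa using step 0 1 (by simp) a b hab hp)
      (fun a b hab hp => by simpa [sub_eq_add_neg] using step (-1) 0 (by simp) a b hab hp)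
      (fun a b hab hp => by simpa [sub_eq_add_neg] using step 0 (-1) (by simp) a b hab hp) h'
    have h2 := (key R 0 hRR h').1
    rw [neg_zero] at h2
    change 0 < h (-R) 0 at this
    omega
  · have := walk (fun a b => 0 < h (-a) b) R
      (fun a b hab hp => by simpa using step 0 1 (by simp) (-a) b (by rwa [abs_neg]) hp)
      (fun a b hab hp => by
        have := step 1 0 (by simp) (-a) b (by rwa [abs_neg]) hp
        have e : -a + 1 = -(a - 1) := by ring
        simpa [e] using this)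
      (fun a b hab hp => by simpa [sub_eq_add_neg] using step 0 (-1) (by simp) (-a) b (by rwa [abs_neg]) hp) h'
    have h2 := (key (-R) 0 hRR' h').1
    rw [neg_zero, neg_neg] at h2
    change 0 < h (- -(R : ℤ)) 0 at this
    rw [neg_neg] at this
    omega

end Groth.Agent.VarietyB.HodgeWalk
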