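import Groth.Agent.VarietyB.ModGlue
import Groth.Agent.Fdesc.LocGenPullback

/-!
# Extending a partial lift of an invertible module across one more open
-/

set_option autoImplicit false
universe u

open CategoryTheory CategoryTheory.Limits AlgebraicGeometry Opposite TopologicalSpace

namespace Groth.Agent.VarietyB.LiftInvGlue

open Groth.Agent.Fdesc.LocGen
open Groth.Agent.VarietyB.ModGlue hiding res res_res app_res res_self
open AlgebraicGeometry.Scheme.Modules

variable {X Z : Scheme.{u}} (i : Z ⟶ X) (L : Z.Modules)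

/-- The direct image of `L`. -/
noncomputable abbrev F : X.Modules := (pushforward i).obj L

variable {i L}

/-- A section of the restricted direct image as a section of `L`. -/
noncomputable def toL {U : Scheme.{u}} (u : U ⟶ X) [IsOpenImmersion u] {O : U.Opens}
    (m : Γ((F i L).restrict u, O)) : Γ(L, i ⁻¹ᵁ u ''ᵁ O) := m

/-- A morphism `M ⟶ (i_* L)|_U` is good if locally it maps a generator to a generator. -/
def Good {U : Scheme.{u}} (u : U ⟶ X) [IsOpenImmersion u] {M : U.Modules}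
    (ψ : M ⟶ (F i L).restrict u) : Prop :=
  ∀ x : U, ∃ (O : U.Opens) (e : Γ(M, O)), x ∈ O ∧ IsGen e ∧ IsGen (toL u (ψ.app O e))

/-- The comparison of iterated restrictions. -/
noncomputable def comp {U Y : Scheme.{u}} (u : U ⟶ X) (c : U ⟶ Y) (y : Y ⟶ X) [IsOpenImmersion u]
    [IsOpenImmersion c] [IsOpenImmersion y] (h : c ≫ y = u) (G : X.Modules) :
    G.restrict u ≅ (G.restrict y).restrict c :=
  (restrictFunctorCongr h.symm).app G ≪≫ (restrictFunctorComp c y).app G

lemma comp_le {U Y : Scheme.{u}} (u : U ⟶ X) (c : U ⟶ Y) (y : Y ⟶ X) [IsOpenImmersion u]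
    [IsOpenImmersion c] [IsOpenImmersion y] (h : c ≫ y = u) (O : U.Opens) :
    y ''ᵁ c ''ᵁ O ≤ u ''ᵁ O := by
  subst h
  rw [Scheme.Hom.comp_image]

lemma comp_hom_app {U Y : Scheme.{u}} (u : U ⟶ X) (c : U ⟶ Y) (y : Y ⟶ X) [IsOpenImmersion u]
    [IsOpenImmersion c] [IsOpenImmersion y] (h : c ≫ y = u) (G : X.Modules) (O : U.Opens)
    (m : Γ(G, u ''ᵁ O)) : (comp u c y h G).hom.app O m = res G (comp_le u c y h O) m := by
  subst h
  have h1 : ((comp (c ≫ y) c y rfl G).hom.app O) m =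
      res G (comp_le (c ≫ y) c y rfl O) (res G le_rfl m) := rfl
  rw [h1, res_refl]

/-- A section of a restricted module as a section of the module. -/
noncomputable def down {U : Scheme.{u}} (u : U ⟶ X) [IsOpenImmersion u] {G : X.Modules} {O : U.Opens}
    (m : Γ(G.restrict u, O)) : Γ(G, u ''ᵁ O) := m

lemma app_comp_res {U Y : Scheme.{u}} (u : U ⟶ X) (c : U ⟶ Y) (y : Y ⟶ X) [IsOpenImmersion u]
    [IsOpenImmersion c] [IsOpenImmersion y] (h : c ≫ y = u) {G : X.Modules} {M : U.Modules}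
    (ψ : M ⟶ G.restrict u) {O O' : U.Opens} (hO : O' ≤ O) (e : Γ(M, O)) :
    down y (down c ((ψ ≫ (comp u c y h G).hom).app O' (res M hO e))) =
      res G ((comp_le u c y h O').trans (u.image_mono hO)) (down u (ψ.app O e)) := by
  have h1 : ψ.app O' (res M hO e) = res (G.restrict u) hO (ψ.app O e) := app_res ψ hO e
  have h2 : (comp u c y h G).hom.app O' (ψ.app O' (res M hO e)) =
      res G (comp_le u c y h O') (down u (ψ.app O' (res M hO e))) := comp_hom_app u c y h G O' _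
  have h3 : down u (ψ.app O' (res M hO e)) = res G (u.image_mono hO) (down u (ψ.app O e)) :=
    congrArg (down u) h1
  rw [h3, res_res] at h2
  exact h2

/-- The morphism `O_B ⟶ (i_* L)|_B` attached to a section over `i⁻¹ B`. -/
noncomputable def ofSec (B : X.Opens) (t : Γ(L, i ⁻¹ᵁ B)) :
    Coh.structureModule (B : Scheme.{u}) ⟶ (F i L).restrict B.ι :=
  homOf (toRestrict (M := F i L) B.ι (U := ⊤) (res (F i L) (by simp) (show Γ(F i L, B) from t)))

lemma sec_ofSec (B : X.Opens) (t : Γ(L, i ⁻¹ᵁ B)) (O : (B : Scheme.{u}).Opens) :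
    sec (ofSec B t) O = toRestrict (M := F i L) B.ι (res (F i L)
      (B.ι_image_le O) (show Γ(F i L, B) from t)) := by
  rw [ofSec, sec_homOf, res_toRestrict, res_res]

lemma isGen_toL_res {U Y : Scheme.{u}} (u : U ⟶ X) (c : U ⟶ Y) (y : Y ⟶ X) [IsOpenImmersion u]
    [IsOpenImmersion c] [IsOpenImmersion y] (h : c ≫ y = u) {O : U.Opens}
    (m : Γ((F i L).restrict u, O)) (hm : IsGen (toL u m)) :
    IsGen (toL y (U := Y) (O := c ''ᵁ O) (res (F i L) (comp_le u c y h O) (down u m))) :=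
  hm.res (i.preimage_mono (comp_le u c y h O))

lemma good_transfer {U Y : Scheme.{u}} (u : U ⟶ X) (c : U ⟶ Y) (y : Y ⟶ X) [IsOpenImmersion u]
    [IsOpenImmersion c] [IsOpenImmersion y] (h : c ≫ y = u) {K : Y.Modules} {N : U.Modules}
    (α : K.restrict c ≅ N) (ψ : N ⟶ (F i L).restrict u) (φ : K ⟶ (F i L).restrict y)
    (hφ : (restrictFunctor c).map φ = α.hom ≫ ψ ≫ (comp u c y h (F i L)).hom)
    {O : U.Opens} (e : Γ(N, O)) (he : IsGen e) (he' : IsGen (toL u (ψ.app O e))) :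
    ∃ e' : Γ(K, c ''ᵁ O), IsGen e' ∧ IsGen (toL y (φ.app (c ''ᵁ O) e')) := by
  refine ⟨down c (α.inv.app O e), (isGen_toRestrict_iff c _).mp (he.app α.inv), ?_⟩
  have h1 : ((restrictFunctor c).map φ).app O (α.inv.app O e) =
      (comp u c y h (F i L)).hom.app O (ψ.app O e) := by
    rw [hφ, Hom.comp_app, Hom.comp_app]
    have h2 : α.hom.app O (α.inv.app O e) = e := by
      have h3 : α.inv ≫ α.hom = 𝟙 _ := by simp
      exact congr(($(h3).app O) e)
    exact congrArg (fun z => (comp u c y h (F i L)).hom.app O (ψ.app O z)) h2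
  have h4 : φ.app (c ''ᵁ O) (down c (α.inv.app O e)) =
      (comp u c y h (F i L)).hom.app O (ψ.app O e) := h1
  rw [h4]
  have h5 := comp_hom_app u c y h (F i L) O (down u (ψ.app O e))
  have h6 := isGen_toL_res u c y h (ψ.app O e) he'
  rw [← h5] at h6
  exact h6

section Extend

variable (U B : X.Opens) {M : (U : Scheme.{u}).Modules} (ψ : M ⟶ (F i L).restrict U.ι)
  (t : Γ(L, i ⁻¹ᵁ B)) (e : Γ(M, U.ι ⁻¹ᵁ B))

/-- The inclusion of the overlap in the first open. -/
noncomputable abbrev oa : ((U ⊓ B : X.Opens) : Scheme.{u}) ⟶ U := X.homOfLE inf_le_left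

/-- The inclusion of the overlap in the second open. -/
noncomputable abbrev ob : ((U ⊓ B : X.Opens) : Scheme.{u}) ⟶ B := X.homOfLE inf_le_right

/-- The inclusion of the first open in the union. -/
noncomputable abbrev ou : (U : Scheme.{u}) ⟶ ((U ⊔ B : X.Opens) : Scheme.{u}) := X.homOfLE le_sup_left

/-- The inclusion of the second open in the union. -/
noncomputable abbrev ov : (B : Scheme.{u}) ⟶ ((U ⊔ B : X.Opens) : Scheme.{u}) := X.homOfLE le_sup_right

lemma image_oa_le : (oa U B) ''ᵁ ⊤ ≤ U.ι ⁻¹ᵁ B := by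
  rw [Scheme.Hom.image_top_eq_opensRange, Scheme.opensRange_homOfLE]
  exact U.ι.preimage_mono inf_le_right

/-- The trivialisation of `M` on the overlap. -/
noncomputable def eM : Coh.structureModule ((U ⊓ B : X.Opens) : Scheme.{u}) ⟶ M.restrict (oa U B) :=
  homOf (toRestrict (oa U B) (res M (image_oa_le U B) e))

/-- The trivialisation of `O_B` on the overlap. -/
noncomputable def eB : Coh.structureModule ((U ⊓ B : X.Opens) : Scheme.{u}) ⟶
    (Coh.structureModule (B : Scheme.{u})).restrict (ob U B) :=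
  homOf (toRestrict (ob U B) (one ((ob U B) ''ᵁ ⊤)))

variable {e} in
lemma isIso_eM (he : IsGen e) : IsIso (eM U B e) := by
  rw [isIso_iff_isGen, eM, sec_homOf, res_refl, isGen_toRestrict_iff]
  exact he.res _

instance isIso_eB : IsIso (eB U B) := by
  rw [isIso_iff_isGen, eB, sec_homOf, res_refl, isGen_toRestrict_iff]
  exact isGen_one _

/-- The gluing isomorphism. -/
noncomputable def eps (he : IsGen e) : M.restrict (oa U B) ≅
    (Coh.structureModule (B : Scheme.{u})).restrict (ob U B) :=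
  haveI := isIso_eM U B he
  (asIso (eM U B e)).symm ≪≫ asIso (eB U B)

/-- The first comparison. -/
noncomputable abbrev cu : (F i L).restrict U.ι ≅ ((F i L).restrict (U ⊔ B).ι).restrict (ou U B) :=
  comp U.ι (ou U B) (U ⊔ B).ι (by simp) (F i L)

/-- The second comparison. -/
noncomputable abbrev cv : (F i L).restrict B.ι ≅ ((F i L).restrict (U ⊔ B).ι).restrict (ov U B) :=
  comp B.ι (ov U B) (U ⊔ B).ι (by simp) (F i L)

lemma sec_map {W : Scheme.{u}} {V : Scheme.{u}} (a : W ⟶ V) [IsOpenImmersion a] {M N : V.Modules}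
    (φ : M ⟶ N) (s : Coh.structureModule W ⟶ M.restrict a) (O : W.Opens) :
    sec (s ≫ (restrictFunctor a).map φ) O =
      toRestrict a (φ.app (a ''ᵁ O) ((toRestrict a).symm (sec s O))) := rfl

lemma tau_app_down {X' U' V' W' : Scheme.{u}} {u' : U' ⟶ X'} {v' : V' ⟶ X'} {w' : W' ⟶ X'}
    {a' : W' ⟶ U'} {b' : W' ⟶ V'}
    [IsOpenImmersion u'] [IsOpenImmersion v'] [IsOpenImmersion w'] [IsOpenImmersion a']
    [IsOpenImmersion b'] (H : IsOverlap u' v' w' a' b') (K : X'.Modules) (O : W'.Opens)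
    (hle : v' ''ᵁ b' ''ᵁ O ≤ u' ''ᵁ a' ''ᵁ O) (x : Γ((K.restrict u').restrict a', O)) :
    down v' (down b' ((tau H K).hom.app O x)) = res K hle (down u' (down a' x)) := by
  rw [tau_hom_app H K O hle]
  rfl

lemma key (he : IsGen e) (hcomp : (show Γ(F i L, U.ι ''ᵁ U.ι ⁻¹ᵁ B) from ψ.app _ e) =
      res (F i L) (U.ι.image_preimage_le B) (show Γ(F i L, B) from t)) :
    (restrictFunctor (oa U B)).map (ψ ≫ (cu (i := i) (L := L) U B).hom) ≫
      (tau (isOverlap_sup U B) ((F i L).restrict (U ⊔ B).ι)).hom =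
    (eps U B e he).hom ≫ (restrictFunctor (ob U B)).map
      (ofSec B t ≫ (cv (i := i) (L := L) U B).hom) := by
  have := isIso_eM U B he
  rw [← cancel_epi (eM U B e)]
  have h1 : eM U B e ≫ (eps U B e he).hom = eB U B := by simp [eps]
  rw [← Category.assoc, ← Category.assoc (eM U B e) (eps U B e he).hom, h1]
  apply hom_ext_sec
  rw [sec_comp, sec_map, sec_map]
  have ha : (U ⊔ B).ι ''ᵁ (ou U B) ''ᵁ (oa U B) ''ᵁ ⊤ ≤ U.ι ''ᵁ U.ι ⁻¹ᵁ B :=
    (comp_le U.ι (ou U B) (U ⊔ B).ι (by simp) _).trans (U.ι.image_mono (image_oa_le U B))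
  have hb : (U ⊔ B).ι ''ᵁ (ov U B) ''ᵁ (ob U B) ''ᵁ ⊤ ≤ B :=
    (comp_le B.ι (ov U B) (U ⊔ B).ι (by simp) _).trans (B.ι_image_le _)
  have hle : (ov U B) ''ᵁ (ob U B) ''ᵁ ⊤ ≤ (ou U B) ''ᵁ (oa U B) ''ᵁ ⊤ := by
    rw [← Scheme.Hom.comp_image, ← Scheme.Hom.comp_image]
    simp
  have e0 : (toRestrict (oa U B)).symm (sec (eM U B e) ⊤) = res M (image_oa_le U B) e := by
    rw [eM, sec_homOf, res_refl, AddEquiv.symm_apply_apply]
  have e0' : (toRestrict (ob U B)).symm (sec (eB U B) ⊤) = one ((ob U B) ''ᵁ ⊤) := by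
    rw [eB, sec_homOf, res_refl, AddEquiv.symm_apply_apply]
  rw [e0, e0']
  have e1 := app_comp_res U.ι (ou U B) (U ⊔ B).ι (by simp) ψ (image_oa_le U B) e
  have e2 := app_comp_res B.ι (ov U B) (U ⊔ B).ι (by simp) (ofSec B t)
    (le_top : (ob U B) ''ᵁ ⊤ ≤ ⊤) (one ⊤)
  rw [res_one] at e2
  have e3 : down B.ι ((ofSec B t).app ⊤ (one ⊤)) = res (F i L) (B.ι_image_le ⊤)
      (show Γ(F i L, B) from t) := sec_ofSec B t ⊤
  rw [e3] at e2
  have e4 := tau_app_down (isOverlap_sup U B) ((F i L).restrict (U ⊔ B).ι) ⊤ hle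
    (toRestrict (oa U B) ((ψ ≫ (cu (i := i) (L := L) U B).hom).app ((oa U B) ''ᵁ ⊤)
      (res M (image_oa_le U B) e)))
  have e5 : down (U ⊔ B).ι (res ((F i L).restrict (U ⊔ B).ι) hle
      (down (ou U B) (down (oa U B) (toRestrict (oa U B)
        ((ψ ≫ (cu (i := i) (L := L) U B).hom).app ((oa U B) ''ᵁ ⊤) (res M (image_oa_le U B) e)))))) =
      res (F i L) ((U ⊔ B).ι.image_mono hle)
        (down (U ⊔ B).ι (down (ou U B) ((ψ ≫ (cu (i := i) (L := L) U B).hom).app ((oa U B) ''ᵁ ⊤)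
          (res M (image_oa_le U B) e)))) := rfl
  have hcomp' : down U.ι (ψ.app _ e) =
      res (F i L) (U.ι.image_preimage_le B) (show Γ(F i L, B) from t) := hcomp
  rw [e1, hcomp', res_res, res_res] at e5
  rw [res_res] at e2
  exact (congrArg (down (U ⊔ B).ι) e4).trans (e5.trans e2.symm)


/-- Extension of a partial lift across one more open. -/
theorem extend (hψ : Good U.ι ψ) (ht : IsGen t) (he : IsGen e)
    (hcomp : (show Γ(F i L, U.ι ''ᵁ U.ι ⁻¹ᵁ B) from ψ.app _ e) =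
      res (F i L) (U.ι.image_preimage_le B) (show Γ(F i L, B) from t)) :
    ∃ (K : ((U ⊔ B : X.Opens) : Scheme.{u}).Modules) (φ : K ⟶ (F i L).restrict (U ⊔ B).ι),
      Good (U ⊔ B).ι φ := by
  let H := isOverlap_sup U B
  let K := glue H (eps U B e he)
  have hfg : (restrictFunctor (oa U B)).map
      ((glueIsoU H (eps U B e he)).hom ≫ ψ ≫ (cu (i := i) (L := L) U B).hom) ≫
        (tau H ((F i L).restrict (U ⊔ B).ι)).hom =
      (tau H K).hom ≫ (restrictFunctor (ob U B)).map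
        ((glueIsoV H (eps U B e he)).hom ≫ ofSec B t ≫ (cv (i := i) (L := L) U B).hom) := by
    rw [Functor.map_comp _ (glueIsoU H (eps U B e he)).hom, Category.assoc,
      key U B ψ t e he hcomp, ← Category.assoc, glueIso_compat, Category.assoc,
      ← Functor.map_comp]
  obtain ⟨φ, h1, h2⟩ := exists_hom_glue H (cover_sup U B) _ _ hfg
  refine ⟨K, φ, fun x => ?_⟩
  rcases x.2 with hx | hx
  · obtain ⟨O, e', hxO, he', he''⟩ := hψ ⟨x.1, hx⟩
    obtain ⟨e2, he2, he3⟩ := good_transfer U.ι (ou U B) (U ⊔ B).ι (by simp)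
      (glueIsoU H (eps U B e he)) ψ φ h1 e' he' he''
    refine ⟨_, e2, ?_, he2, he3⟩
    exact ⟨⟨x.1, hx⟩, hxO, Subtype.ext (X.homOfLE_apply le_sup_left _)⟩
  · have hs : IsGen (toL B.ι ((ofSec B t).app ⊤ (one ⊤))) := by
      have h3 : toL B.ι ((ofSec B t).app ⊤ (one ⊤)) = res L (i.preimage_mono (B.ι_image_le ⊤)) t :=
        sec_ofSec B t ⊤
      rw [h3]
      exact ht.res _
    obtain ⟨e2, he2, he3⟩ := good_transfer B.ι (ov U B) (U ⊔ B).ι (by simp)
      (glueIsoV H (eps U B e he)) (ofSec B t) φ h2 (one ⊤) (isGen_one ⊤) hs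
    refine ⟨_, e2, ?_, he2, he3⟩
    exact ⟨⟨x.1, hx⟩, trivial, Subtype.ext (X.homOfLE_apply le_sup_right _)⟩

end Extend

end Groth.Agent.VarietyB.LiftInvGlue
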