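import Mathlib.Topology.NoetherianSpace
import Mathlib.Topology.Sober
import Mathlib.Topology.KrullDimension

/-!
# Topology of Noetherian sober spaces of dimension at most one
-/

set_option autoImplicit false
universe u

open TopologicalSpace

namespace Groth.Agent.VarietyB.LiftInvTop

variable {X : Type u} [TopologicalSpace X]

/-- In a Noetherian quasi-sober space, an open `N` containing all generizations of `z` in the open
`U` contains `B ∩ U` for some open neighbourhood `B` of `z`. -/
theorem exists_nhd [NoetherianSpace X] [QuasiSober X] (z : X) (U N : Opens X)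
    (hN : ∀ η ∈ U, η ⤳ z → η ∈ N) : ∃ B : Opens X, z ∈ B ∧ B ⊓ U ≤ N := by
  let C : Set X := (U : Set X) \ N
  suffices hz : z ∉ closure C by
    refine ⟨⟨(closure C)ᶜ, isClosed_closure.isOpen_compl⟩, hz, ?_⟩
    rintro x ⟨hx, hxU⟩
    by_contra hxN
    exact hx (subset_closure ⟨hxU, hxN⟩)
  intro hz
  let S : Set (Closeds X) := {T | z ∈ closure ((T : Set X) ∩ C)}
  have hS : S.Nonempty := ⟨⊤, by simpa [S] using hz⟩
  obtain ⟨T, hT, hmin⟩ := WellFounded.has_min (wellFounded_lt (α := Closeds X)) S hS
  have hmin' : ∀ T' : Closeds X, T' ≤ T → T' ∈ S → T' = T := by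
    intro T' hle hT'
    by_contra hne
    exact hmin T' hT' (lt_of_le_of_ne hle hne)
  have hne : (T : Set X).Nonempty := by
    have : ((T : Set X) ∩ C).Nonempty := by
      rw [← closure_nonempty_iff]; exact ⟨z, hT⟩
    exact this.mono Set.inter_subset_left
  have hirr : IsIrreducible (T : Set X) := by
    refine ⟨hne, ?_⟩
    rw [isPreirreducible_iff_isClosed_union_isClosed]
    intro A B hA hB hAB
    have h1 : (T : Set X) ∩ C ⊆ (((T ⊓ ⟨A, hA⟩ : Closeds X) : Set X) ∩ C) ∪
        (((T ⊓ ⟨B, hB⟩ : Closeds X) : Set X) ∩ C) := by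
      rintro x ⟨hx, hxC⟩
      rcases hAB hx with h | h
      · exact Or.inl ⟨⟨hx, h⟩, hxC⟩
      · exact Or.inr ⟨⟨hx, h⟩, hxC⟩
    have h2 := closure_mono h1 hT
    rw [closure_union] at h2
    rcases h2 with h2 | h2
    · left
      have := hmin' (T ⊓ ⟨A, hA⟩) inf_le_left h2
      intro x hx
      rw [← this] at hx
      exact hx.2
    · right
      have := hmin' (T ⊓ ⟨B, hB⟩) inf_le_left h2
      intro x hx
      rw [← this] at hx
      exact hx.2
  obtain ⟨ξ, hξ⟩ := QuasiSober.sober hirr T.isClosed
  have hξz : ξ ⤳ z := by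
    rw [specializes_iff_mem_closure, hξ.def]
    have := closure_mono Set.inter_subset_left hT
    rwa [T.isClosed.closure_eq] at this
  have hξU : ξ ∈ U := by
    have : ((T : Set X) ∩ C).Nonempty := by
      rw [← closure_nonempty_iff]; exact ⟨z, hT⟩
    obtain ⟨x, hxT, hxU, -⟩ := this
    have : ξ ⤳ x := by
      rw [specializes_iff_mem_closure, hξ.def]; exact hxT
    exact this.mem_open U.isOpen hxU
  have hξN := hN ξ hξU hξz
  have h3 : (T ⊓ ⟨(N : Set X)ᶜ, N.isOpen.isClosed_compl⟩ : Closeds X) ∈ S := by
    change z ∈ closure _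
    refine closure_mono ?_ hT
    rintro x ⟨hxT, hxU, hxN⟩
    exact ⟨⟨hxT, hxN⟩, hxU, hxN⟩
  have h4 := hmin' _ inf_le_left h3
  have h5 : ξ ∈ (T : Set X) := by rw [← hξ.def]; exact subset_closure rfl
  rw [← h4] at h5
  exact h5.2 hξN

/-- In dimension at most one, a proper generization of a point is the generic point of an
irreducible component. -/
theorem closure_mem_irreducibleComponents (hdim : topologicalKrullDim X ≤ 1) [T0Space X] {z η : X}
    (h : η ⤳ z) (hne : η ≠ z) : closure {η} ∈ irreducibleComponents X := by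
  obtain ⟨T, hT, hle⟩ := exists_mem_irreducibleComponents_subset_of_isIrreducible (closure {η})
    isIrreducible_singleton.closure
  by_cases heq : closure {η} = T
  · rw [heq]; exact hT
  exfalso
  let a : IrreducibleCloseds X := ⟨closure {z}, isIrreducible_singleton.closure, isClosed_closure⟩
  let b : IrreducibleCloseds X := ⟨closure {η}, isIrreducible_singleton.closure, isClosed_closure⟩
  let c : IrreducibleCloseds X := ⟨T, hT.1, isClosed_of_mem_irreducibleComponents T hT⟩
  have hab : a < b := by
    refine lt_of_le_of_ne ?_ ?_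
    · exact specializes_iff_closure_subset.mp h
    · intro e
      apply hne
      have h1 : closure {z} = closure {η} := congrArg (fun t : IrreducibleCloseds X => (t : Set X)) e
      have h2 : z ⤳ η := by
        rw [specializes_iff_mem_closure, h1]; exact subset_closure rfl
      exact (h.antisymm h2).eq
  have hbc : b < c := lt_of_le_of_ne hle fun e =>
    heq (congrArg (fun t : IrreducibleCloseds X => (t : Set X)) e)
  let p : LTSeries (IrreducibleCloseds X) :=
    ⟨2, ![a, b, c], fun i => by fin_cases i <;> simp [hab, hbc]⟩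
  have := (Order.LTSeries.length_le_krullDim p).trans hdim
  have h3 : (2 : WithBot ℕ∞) ≤ 1 := by simpa [p] using this
  exact absurd h3 (by decide)

/-- The open set of points lying on no irreducible component other than `T`. -/
def only [NoetherianSpace X] (T : Set X) : Opens X :=
  ⟨(⋃₀ (irreducibleComponents X \ {T}))ᶜ, by
    rw [isOpen_compl_iff, Set.sUnion_eq_biUnion]
    exact ((NoetherianSpace.finite_irreducibleComponents).subset Set.diff_subset).isClosed_biUnion
      fun t ht => isClosed_of_mem_irreducibleComponents t ht.1⟩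

lemma only_inf [NoetherianSpace X] {T T' : Set X} (h : T ≠ T') : only T ⊓ only T' = ⊥ := by
  ext x
  simp only [Opens.coe_inf, Set.mem_inter_iff, Opens.coe_bot, Set.mem_empty_iff_false, iff_false]
  rintro ⟨h1, h2⟩
  obtain ⟨S, hS, hxS⟩ : ∃ S ∈ irreducibleComponents X, x ∈ S :=
    ⟨irreducibleComponent x, irreducibleComponent_mem_irreducibleComponents x,
      mem_irreducibleComponent⟩
  by_cases hST : S = T
  · exact h2 ⟨S, ⟨hS, fun e => h (hST.symm.trans e)⟩, hxS⟩
  · exact h1 ⟨S, ⟨hS, hST⟩, hxS⟩

lemma mem_only [NoetherianSpace X] {η : X} (h : closure {η} ∈ irreducibleComponents X) :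
    η ∈ only (closure {η}) := by
  rintro ⟨S, ⟨hS, hne⟩, hηS⟩
  apply hne
  have h1 : closure {η} ⊆ S :=
    closure_minimal (Set.singleton_subset_iff.mpr hηS) (isClosed_of_mem_irreducibleComponents S hS)
  exact (h.2 hS.1 h1).antisymm h1 |>.symm ▸ rfl

end Groth.Agent.VarietyB.LiftInvTop
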