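import Groth.Agent.VarietyB.LiftInvGlue
import Groth.Agent.VarietyB.LiftInvTop
import Mathlib.AlgebraicGeometry.Morphisms.ClosedImmersion

/-!
# Lifting invertible modules along closed immersions in dimension at most one: the induction step
-/

set_option autoImplicit false
universe u

open CategoryTheory CategoryTheory.Limits AlgebraicGeometry Opposite TopologicalSpace

namespace Groth.Agent.VarietyB.LiftInvStep

open Groth.Agent.Fdesc.LocGen
open AlgebraicGeometry.Scheme.Modules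
open Groth.Agent.VarietyB.LiftInvGlue Groth.Agent.VarietyB.LiftInvTop

variable {X Z : Scheme.{u}} {i : Z ⟶ X} {L : Z.Modules}

lemma subsingleton_of_le_bot {Y : Scheme.{u}} (M : Y.Modules) {O : Y.Opens} (h : O ≤ ⊥) :
    Subsingleton Γ(M, O) := by
  constructor
  intro a b
  refine res_ext M (ι := Empty) (fun _ => O) (fun _ => le_rfl) ?_ (fun j => j.elim)
  exact h.trans bot_le

lemma subsingleton_ring_of_le_bot {Y : Scheme.{u}} {O : Y.Opens} (h : O ≤ ⊥) :
    Subsingleton Γ(Y, O) := by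
  constructor
  intro a b
  refine ores_ext (ι := Empty) (fun _ => O) (fun _ => le_rfl) ?_ (fun j => j.elim)
  exact h.trans bot_le

lemma isGen_of_le_bot {Y : Scheme.{u}} {M : Y.Modules} {O : Y.Opens} (h : O ≤ ⊥) (e : Γ(M, O)) :
    IsGen e := by
  intro V hV
  have := subsingleton_of_le_bot M (hV.trans h)
  have := subsingleton_ring_of_le_bot (hV.trans h)
  exact ⟨fun a b _ => Subsingleton.elim _ _, fun m => ⟨0, Subsingleton.elim _ _⟩⟩

/-- Off the image of the closed immersion. -/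
lemma exists_off [IsClosedImmersion i] {z : X} (hz : z ∉ Set.range i) :
    ∃ W : X.Opens, z ∈ W ∧ i ⁻¹ᵁ W ≤ ⊥ := by
  refine ⟨⟨(Set.range i)ᶜ, i.isClosedEmbedding.isClosed_range.isOpen_compl⟩, hz, ?_⟩
  intro y hy
  exact (hy ⟨y, rfl⟩).elim

/-- Local generators of `L` on preimages of opens of `X`. -/
lemma exists_gen_nhd [IsClosedImmersion i] (hL : PicF.IsInvertible L) (z : X) :
    ∃ (B : X.Opens) (t : Γ(L, i ⁻¹ᵁ B)), z ∈ B ∧ IsGen t := by
  by_cases hz : z ∈ Set.range i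
  · obtain ⟨y, rfl⟩ := hz
    obtain ⟨V, e, hy, he⟩ := (isInvertible_iff L).mp hL y
    obtain ⟨B, hB, hBV⟩ := i.isClosedEmbedding.isInducing.isOpen_iff.mp V.isOpen
    have h : i ⁻¹ᵁ ⟨B, hB⟩ = V := Opens.ext hBV
    refine ⟨⟨B, hB⟩, res L h.le e, ?_, he.res _⟩
    have : y ∈ i ⁻¹ᵁ ⟨B, hB⟩ := by rw [h]; exact hy
    exact this
  · obtain ⟨W, hzW, hW⟩ := exists_off hz
    exact ⟨W, 0, hzW, isGen_of_le_bot hW _⟩

/-- Lift a unit along a closed immersion near a point. -/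
lemma exists_lift_unit [IsClosedImmersion i] (x : X) (B : X.Opens) (hx : x ∈ B)
    (g : Γ(Z, i ⁻¹ᵁ B)) (hg : IsUnit g) :
    ∃ (W : X.Opens) (h : W ≤ B) (a : Γ(X, W)), x ∈ W ∧ IsUnit a ∧
      i.app W a = ores (i.preimage_mono h) g := by
  by_cases hz : x ∈ Set.range i
  · obtain ⟨y, rfl⟩ := hz
    obtain ⟨W, hW, hyW, hWB⟩ := exists_isAffineOpen_mem_and_subset hx
    obtain ⟨a, ha⟩ := i.app_surjective W hW (ores (i.preimage_mono hWB) g)
    refine ⟨X.basicOpen a, (X.basicOpen_le a).trans hWB, ores (X.basicOpen_le a) a, ?_, ?_, ?_⟩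
    · have h1 : y ∈ Z.basicOpen (i.app W a) := by
        rw [ha]
        have h2 : IsUnit (ores (i.preimage_mono hWB) g) := hg.map _
        rw [Z.basicOpen_of_isUnit h2]
        exact hyW
      rw [← Scheme.preimage_basicOpen] at h1
      exact h1
    · exact X.toRingedSpace.isUnit_res_basicOpen a
    · have h3 := congr(($(i.naturality (homOfLE (X.basicOpen_le a)).op)) a)
      have h4 : i.app (X.basicOpen a) (ores (X.basicOpen_le a) a) =
          ores (i.preimage_mono (X.basicOpen_le a)) (i.app W a) := h3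
      rw [h4, ha, ores_ores]
  · obtain ⟨W, hzW, hW⟩ := exists_off hz
    refine ⟨W ⊓ B, inf_le_right, 1, ⟨hzW, hx⟩, isUnit_one, ?_⟩
    have := subsingleton_ring_of_le_bot (Y := Z) ((i.preimage_mono inf_le_left).trans hW :
      i ⁻¹ᵁ (W ⊓ B) ≤ ⊥)
    exact Subsingleton.elim _ _

lemma down_smul {U : X.Opens} {G : X.Modules} {O : (U : Scheme.{u}).Opens}
    (a : Γ(X, U.ι ''ᵁ O)) (m : Γ(G.restrict U.ι, O)) :
    down U.ι ((U.ι.appIso O).hom a • m) = a • down U.ι m := by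
  have := toRestrict_smul (M := G) U.ι a (down U.ι m)
  exact this.symm

lemma F_smul {O : X.Opens} (a : Γ(X, O)) (m : Γ(F i L, O)) :
    (show Γ(L, i ⁻¹ᵁ O) from (a • m : Γ(F i L, O))) =
      (i.app O a : Γ(Z, i ⁻¹ᵁ O)) • (show Γ(L, i ⁻¹ᵁ O) from m) := rfl

/-- Correct a local generator so that it maps to a given generator. -/
lemma exists_corrected [IsClosedImmersion i] {U : X.Opens} {M : (U : Scheme.{u}).Modules}
    {ψ : M ⟶ (F i L).restrict U.ι} (hψ : Good U.ι ψ) {B : X.Opens} {t : Γ(L, i ⁻¹ᵁ B)}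
    (ht : IsGen t) (x : (U : Scheme.{u})) (hx : x.1 ∈ B) :
    ∃ (O : (U : Scheme.{u}).Opens) (hO : O ≤ U.ι ⁻¹ᵁ B) (e : Γ(M, O)), x ∈ O ∧ IsGen e ∧
      down U.ι (ψ.app O e) = res (F i L) ((U.ι.image_mono hO).trans (U.ι.image_preimage_le B))
        (show Γ(F i L, B) from t) := by
  obtain ⟨O, e, hxO, he, he'⟩ := hψ x
  let O₁ := O ⊓ U.ι ⁻¹ᵁ B
  have hO₁ : O₁ ≤ O := inf_le_left
  have hO₁B : U.ι ''ᵁ O₁ ≤ B := (U.ι.image_mono inf_le_right).trans (U.ι.image_preimage_le B)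
  obtain ⟨g, hg, hge⟩ := (he'.res (i.preimage_mono (U.ι.image_mono hO₁))).exists_unit
    (ht.res (i.preimage_mono hO₁B))
  obtain ⟨W, hW, a, hxW, ha, hag⟩ := exists_lift_unit (i := i) x.1 (U.ι ''ᵁ O₁)
    ⟨x, ⟨hxO, hx⟩, rfl⟩ g hg
  let O₂ := U.ι ⁻¹ᵁ W
  have hO₂W : U.ι ''ᵁ O₂ ≤ W := U.ι.image_preimage_le W
  have hO₂ : O₂ ≤ O₁ := by
    have := U.ι.preimage_mono hW
    rwa [U.ι.preimage_image_eq] at this
  refine ⟨O₂, hO₂.trans inf_le_right,
    (U.ι.appIso O₂).hom (ores hO₂W a) • res M (hO₂.trans hO₁) e, hxW, ?_, ?_⟩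
  · exact (he.res _).unit_smul ((ha.map (ores hO₂W)).map _)
  · rw [Hom.app_smul]
    have h0 : ψ.app O₂ (res M (hO₂.trans hO₁) e) =
        res ((F i L).restrict U.ι) (hO₂.trans hO₁) (ψ.app O e) := app_res ψ _ e
    rw [h0]
    refine (down_smul (ores hO₂W a) _).trans ?_
    have h1 : (i.app (U.ι ''ᵁ O₂) (ores hO₂W a) : Γ(Z, i ⁻¹ᵁ (U.ι ''ᵁ O₂))) =
        ores (i.preimage_mono (hO₂W.trans hW)) g := by
      have h3 := congr(($(i.naturality (homOfLE hO₂W).op)) a)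
      have h4 : i.app (U.ι ''ᵁ O₂) (ores hO₂W a) =
          ores (i.preimage_mono hO₂W) (i.app W a) := h3
      rw [h4, hag, ores_ores]
    have h2 : (i.app (U.ι ''ᵁ O₂) (ores hO₂W a) : Γ(Z, i ⁻¹ᵁ (U.ι ''ᵁ O₂))) •
        res L (i.preimage_mono (U.ι.image_mono (hO₂.trans hO₁))) (toL U.ι (ψ.app O e)) =
        res L (i.preimage_mono ((hO₂W.trans hW).trans hO₁B)) t := by
      rw [h1]
      have h5 := congrArg (res L (i.preimage_mono (hO₂W.trans hW))) hge
      rw [res_smul, res_res, res_res] at h5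
      exact h5.symm
    exact h2

/-- The union of the images of a family of opens. -/
lemma mem_iSup_image {U : X.Opens} {ι : Type*} (O : ι → (U : Scheme.{u}).Opens) (x : X)
    (hx : x ∈ ⨆ j, U.ι ''ᵁ O j) : ∃ (j : ι) (y : (U : Scheme.{u})), y ∈ O j ∧ y.1 = x := by
  obtain ⟨j, hj⟩ := Opens.mem_iSup.mp hx
  obtain ⟨y, hy, rfl⟩ := hj
  exact ⟨j, y, hy, rfl⟩

/-- The induction step: a partial lift extends across one more point. -/
theorem step [IsClosedImmersion i] [NoetherianSpace X] (hdim : topologicalKrullDim X ≤ 1)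
    (hL : PicF.IsInvertible L) {U : X.Opens} {M : (U : Scheme.{u}).Modules}
    (ψ : M ⟶ (F i L).restrict U.ι) (hψ : Good U.ι ψ) (z : X) (hz : z ∉ U) :
    ∃ (B : X.Opens) (K : ((U ⊔ B : X.Opens) : Scheme.{u}).Modules)
      (φ : K ⟶ (F i L).restrict (U ⊔ B).ι), z ∈ B ∧ Good (U ⊔ B).ι φ := by
  obtain ⟨B₀, t₀, hzB₀, ht₀⟩ := exists_gen_nhd (i := i) hL z
  let I := {η : (U : Scheme.{u}) // η.1 ⤳ z}
  have hB₀ : ∀ η : I, η.1.1 ∈ B₀ := fun η => η.2.mem_open B₀.isOpen hzB₀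
  choose O hO e hxO he hcomp using fun η : I =>
    exists_corrected hψ ht₀ η.1 (hB₀ η)
  let T : I → Set X := fun η => closure {η.1.1}
  have hT : ∀ η : I, T η ∈ irreducibleComponents X := fun η =>
    closure_mem_irreducibleComponents hdim η.2 (fun h => hz (h ▸ η.1.2))
  have hinj : ∀ η η' : I, η ≠ η' → T η ≠ T η' := by
    intro η η' hne h
    apply hne
    apply Subtype.ext
    apply Subtype.ext
    have h1 : η.1.1 ⤳ η'.1.1 := by
      rw [specializes_iff_mem_closure]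
      change _ ∈ T η
      rw [h]; exact subset_closure rfl
    have h2 : η'.1.1 ⤳ η.1.1 := by
      rw [specializes_iff_mem_closure]
      change _ ∈ T η'
      rw [← h]; exact subset_closure rfl
    exact (h1.antisymm h2).eq
  let O' : I → (U : Scheme.{u}).Opens := fun η => O η ⊓ U.ι ⁻¹ᵁ (only (T η))
  have hxO' : ∀ η, η.1 ∈ O' η := fun η => ⟨hxO η, mem_only (hT η)⟩
  have hdisj : ∀ η η', η ≠ η' → O' η ⊓ O' η' ≤ ⊥ := by
    intro η η' hne x hx
    have h1 : x.1 ∈ only (T η) ⊓ only (T η') := ⟨hx.1.2, hx.2.2⟩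
    rw [only_inf (hinj η η' hne)] at h1
    exact h1
  obtain ⟨B₁, hzB₁, hB₁⟩ := exists_nhd z U (⨆ η, U.ι ''ᵁ O' η) (by
    intro η hη hηz
    exact Opens.mem_iSup.mpr ⟨⟨⟨η, hη⟩, hηz⟩, ⟨⟨η, hη⟩, hxO' ⟨⟨η, hη⟩, hηz⟩, rfl⟩⟩)
  let B := B₁ ⊓ B₀
  let V : (U : Scheme.{u}).Opens := U.ι ⁻¹ᵁ B
  have hVB₀ : U.ι ''ᵁ V ≤ B₀ := (U.ι.image_preimage_le B).trans inf_le_right
  have hcov : V ≤ ⨆ η, V ⊓ O' η := by
    intro x hx
    have h1 : x.1 ∈ ⨆ η, U.ι ''ᵁ O' η := hB₁ ⟨hx.1, x.2⟩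
    obtain ⟨η, y, hy, hyx⟩ := mem_iSup_image O' x.1 h1
    obtain rfl : y = x := Subtype.ext hyx
    exact Opens.mem_iSup.mpr ⟨η, hx, hy⟩
  have hle : ∀ η, V ⊓ O' η ≤ O η := fun η => inf_le_right.trans inf_le_left
  obtain ⟨e', he'⟩ := res_glue M (fun η => V ⊓ O' η) (fun η => inf_le_left) hcov
    (fun η => res M (hle η) (e η)) (by
      intro η η'
      by_cases h : η = η'
      · subst h; rfl
      · have := subsingleton_of_le_bot M
          ((inf_le_inf inf_le_right inf_le_right).trans (hdisj η η' h) :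
            (V ⊓ O' η) ⊓ (V ⊓ O' η') ≤ ⊥)
        exact Subsingleton.elim _ _)
  have hgen : IsGen e' := by
    refine IsGen.of_cover _ (fun η => inf_le_left) hcov fun η => ?_
    rw [he']
    exact (he η).res _
  have hcomp' : (show Γ(F i L, U.ι ''ᵁ U.ι ⁻¹ᵁ B) from ψ.app _ e') =
      res (F i L) (U.ι.image_preimage_le B)
        (show Γ(F i L, B) from res (F i L) (inf_le_right : B ≤ B₀) t₀) := by
    rw [res_res]
    refine res_ext ((F i L).restrict U.ι) (V := V) (fun η => V ⊓ O' η) (fun η => inf_le_left)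
      hcov fun η => ?_
    have h1 : res ((F i L).restrict U.ι) (inf_le_left : V ⊓ O' η ≤ V) (ψ.app V e') =
        ψ.app (V ⊓ O' η) (res M inf_le_left e') := (app_res ψ _ e').symm
    have h2 : ψ.app (V ⊓ O' η) (res M (hle η) (e η)) =
        res ((F i L).restrict U.ι) (hle η) (ψ.app (O η) (e η)) := app_res ψ _ (e η)
    rw [he', h2] at h1
    refine h1.trans ?_
    have h3 : res (F i L) (U.ι.image_mono (hle η)) (down U.ι (ψ.app (O η) (e η))) =
        res (F i L) (U.ι.image_mono (hle η)) (res (F i L)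
          ((U.ι.image_mono (hO η)).trans (U.ι.image_preimage_le B₀)) t₀) := by rw [hcomp]
    rw [res_res] at h3
    refine Eq.trans h3 ?_
    have h4 : res (F i L) (U.ι.image_mono (inf_le_left : V ⊓ O' η ≤ V)) (res (F i L) hVB₀ t₀) =
      res (F i L) ((U.ι.image_mono (inf_le_left : V ⊓ O' η ≤ V)).trans hVB₀) t₀ := res_res _ _ _ _
    exact h4.symm
  obtain ⟨K, φ, hφ⟩ := extend U B ψ (res L (i.preimage_mono (inf_le_right : B ≤ B₀)) t₀) e' hψ
    (ht₀.res _) hgen hcomp'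
  exact ⟨B, K, φ, ⟨hzB₁, hzB₀⟩, hφ⟩

end Groth.Agent.VarietyB.LiftInvStep
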