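import Groth.Agent.CurvesC.HV0
import Groth.Agent.CohqB.P1Coh
import Groth.Agent.CohqA.BCPushH

/-!
# The Mayer-Vietoris boundary `Γ(M, U ⊓ V) → H^1(X, M)`

For `X = U ∪ V` over a field: additive, `k`-linear, natural, zero on restrictions from `U` and from `V`, and
surjective when `U`, `V` are affine, `X` is separated and `M` is quasi-coherent.
-/

set_option autoImplicit false

universe u

open CategoryTheory CategoryTheory.Limits AlgebraicGeometry Opposite TopologicalSpace

namespace Groth.Agent.VarietyB.MVBd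

open Groth.Agent.CurvesC Groth.Agent.CohqB.QC2 Groth.Agent.CohqB.P1MV

variable (k : Type u) [Field k] {X : Scheme.{u}} [X.Over (Spec (CommRingCat.of k))]

/-- global sections of `j_* j^* M` for `j : U → X` -/
noncomputable def secTop (M : X.Modules) (U : X.Opens) : Γ(M, U) →+ HV X (GM M U) 0 :=
  (HV.zero (GM M U)).symm.toAddMonoidHom.comp
    ((secGM M U ⊤).symm.toAddMonoidHom.comp (res M (tr_le_left U ⊤)))

theorem secTop_apply (M : X.Modules) (U : X.Opens) (x : Γ(M, U)) :
    secTop M U x = (HV.zero (GM M U)).symm ((secGM M U ⊤).symm (res M (tr_le_left U ⊤) x)) := rfl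

theorem secTop_bijective (M : X.Modules) (U : X.Opens) : Function.Bijective (secTop M U) := by
  have h1 : Function.Bijective (res M (tr_le_left U ⊤)) :=
    res_injective_of_eq M (tr_le_left U ⊤) (by rw [tr_eq, inf_top_eq])
  exact (HV.zero (GM M U)).symm.bijective.comp ((secGM M U ⊤).symm.bijective.comp h1)

theorem map_secTop {M N : X.Modules} (φ : M ⟶ N) (U : X.Opens) (x : Γ(M, U)) :
    HV.map k (mapGM φ U) 0 (secTop M U x) = secTop N U (φ.app U x) := by
  apply (HV.zero (GM N U)).injective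
  rw [HV.zero_map, secTop_apply, secTop_apply, AddEquiv.apply_symm_apply, AddEquiv.apply_symm_apply]
  apply (secGM N U ⊤).injective
  rw [mapGM_app, AddEquiv.apply_symm_apply, AddEquiv.apply_symm_apply, app_res]

theorem map_resGM_secTop (M : X.Modules) {U U' : X.Opens} (h : U' ≤ U) (x : Γ(M, U)) :
    HV.map k (resGM M h) 0 (secTop M U x) = secTop M U' (res M h x) := by
  apply (HV.zero (GM M U')).injective
  rw [HV.zero_map, secTop_apply, secTop_apply, AddEquiv.apply_symm_apply, AddEquiv.apply_symm_apply, resGM_app,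
    AddEquiv.apply_symm_apply, res_res, res_res]

/-- morphisms of Mayer-Vietoris sequences -/
noncomputable def mvMap {M N : X.Modules} (φ : M ⟶ N) (U V : X.Opens) : mv M U V ⟶ mv N U V where
  τ₁ := φ
  τ₂ := biprod.map (mapGM φ U) (mapGM φ V)
  τ₃ := mapGM φ (U ⊓ V)
  comm₁₂ := by
    change φ ≫ mvι N U V = mvι M U V ≫ biprod.map (mapGM φ U) (mapGM φ V)
    apply biprod.hom_ext
    · simp only [mvι, Category.assoc, biprod.lift_fst, biprod.map_fst, biprod.lift_fst_assoc]
      exact (toGM_naturality φ U).symm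
    · simp only [mvι, Category.assoc, biprod.lift_snd, biprod.map_snd, biprod.lift_snd_assoc]
      exact (toGM_naturality φ V).symm
  comm₂₃ := by
    change biprod.map (mapGM φ U) (mapGM φ V) ≫ mvδ N U V = mvδ M U V ≫ mapGM φ (U ⊓ V)
    apply biprod.hom_ext'
    · simp only [mvδ, biprod.inl_map_assoc, biprod.inl_desc, biprod.inl_desc_assoc]
      exact (resGM_naturality φ inf_le_left).symm
    · simp only [mvδ, biprod.inr_map_assoc, biprod.inr_desc, biprod.inr_desc_assoc, Preadditive.comp_neg,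
        Preadditive.neg_comp]
      rw [resGM_naturality φ inf_le_right]

variable {U V : X.Opens}

/-- the Mayer-Vietoris boundary -/
noncomputable def bd (M : X.Modules) (hcov : U ⊔ V = ⊤) : Γ(M, U ⊓ V) →+ HV X M 1 :=
  (HV.δ k (mv_shortExact M hcov) 0).toAddMonoidHom.comp (secTop M (U ⊓ V))

theorem bd_apply (M : X.Modules) (hcov : U ⊔ V = ⊤) (x : Γ(M, U ⊓ V)) :
    bd k M hcov x = HV.δ k (mv_shortExact M hcov) 0 (secTop M (U ⊓ V) x) := rfl

theorem bd_map {M N : X.Modules} (φ : M ⟶ N) (hcov : U ⊔ V = ⊤) (x : Γ(M, U ⊓ V)) :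
    HV.map k φ 1 (bd k M hcov x) = bd k N hcov (φ.app (U ⊓ V) x) := by
  rw [bd_apply, bd_apply, ← map_secTop k φ]
  exact (HV.δ_naturality k (mv_shortExact M hcov) (mv_shortExact N hcov) (mvMap φ U V) 0 _).symm

theorem bd_left (M : X.Modules) (hcov : U ⊔ V = ⊤) (a : Γ(M, U)) :
    bd k M hcov (res M inf_le_left a) = 0 := by
  rw [bd_apply, ← map_resGM_secTop k]
  have h : resGM M (inf_le_left : U ⊓ V ≤ U) = biprod.inl ≫ mvδ M U V := by
    rw [mvδ, biprod.inl_desc]
  rw [h, HV.map_comp_apply]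
  exact HV.δ_map k (mv_shortExact M hcov) 0 _

theorem bd_right (M : X.Modules) (hcov : U ⊔ V = ⊤) (b : Γ(M, V)) :
    bd k M hcov (res M inf_le_right b) = 0 := by
  rw [bd_apply, ← map_resGM_secTop k]
  have h : resGM M (inf_le_right : U ⊓ V ≤ V) = (-biprod.inr) ≫ mvδ M U V := by
    rw [mvδ, Preadditive.neg_comp, biprod.inr_desc, neg_neg]
  rw [h, HV.map_comp_apply]
  exact HV.δ_map k (mv_shortExact M hcov) 0 _

theorem bd_smul (M : X.Modules) (hcov : U ⊔ V = ⊤) (c : k) (x : Γ(M, U ⊓ V)) :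
    bd k M hcov (HV.globOn k X (U ⊓ V) c • x) = c • bd k M hcov x := by
  rw [← HV.map_smulMod_apply, bd_map, HV.smulMod_app]

omit k in
theorem isAffineHom_ι [X.IsSeparated] (hU : IsAffineOpen U) : IsAffineHom U.ι where
  isAffine_preimage W hW := by
    have h : IsAffineOpen (U.ι ''ᵁ (U.ι ⁻¹ᵁ W)) := by
      rw [Scheme.Hom.image_preimage_eq_opensRange_inf, Scheme.Opens.opensRange_ι]
      exact hU.inf hW
    exact (U.ι.isAffineOpen_iff_of_isOpenImmersion).mp h

theorem subsingleton_GM [X.IsSeparated] (hU : IsAffineOpen U) (M : X.Modules) (hM : Coh.IsQCoh M) :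
    Subsingleton (HV X (GM M U) 1) := by
  have h0 : IsAffine U := hU
  have h1 : IsAffineHom U.ι := isAffineHom_ι hU
  have h2 : Coh.IsQCoh (M.restrict U.ι) := Ega1.QCohLoc.isQCoh_restrict M U.ι
  have h3 : Subsingleton (Coh.HH (U : Scheme.{u}) (M.restrict U.ι) 1) :=
    CohqA.AffineVanish.HH_subsingleton _ _ 1 one_pos
  exact (CohqA.BCPushH.pushMap_bijective_of_isAffineHom U.ι (M.restrict U.ι) 1).injective.subsingleton

include k in
theorem subsingleton_biprod {M N : X.Modules} (n : ℕ) (hM : Subsingleton (HV X M n)) (hN : Subsingleton (HV X N n)) :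
    Subsingleton (HV X (M ⊞ N) n) := by
  refine subsingleton_of_forall_eq 0 fun x => ?_
  have h : (biprod.fst ≫ biprod.inl + biprod.snd ≫ biprod.inr : M ⊞ N ⟶ M ⊞ N) = 𝟙 _ := biprod.total
  have h1 : HV.map k (biprod.fst ≫ biprod.inl + biprod.snd ≫ biprod.inr : M ⊞ N ⟶ M ⊞ N) n x =
      HV.map k (𝟙 (M ⊞ N)) n x := by rw [h]
  rw [HV.map_id, HV.map_add, LinearMap.add_apply, HV.map_comp_apply, HV.map_comp_apply,
    hM.elim (HV.map k biprod.fst n x) 0, hN.elim (HV.map k biprod.snd n x) 0, _root_.map_zero,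
    _root_.map_zero, add_zero] at h1
  exact h1.symm

theorem bd_surjective [X.IsSeparated] (M : X.Modules) (hcov : U ⊔ V = ⊤) (hU : IsAffineOpen U)
    (hV : IsAffineOpen V) (hM : Coh.IsQCoh M) : Function.Surjective (bd k M hcov) := by
  intro y
  have h : Subsingleton (HV X (mv M U V).X₂ 1) :=
    subsingleton_biprod k 1 (subsingleton_GM hU M hM) (subsingleton_GM hV M hM)
  obtain ⟨z, hz⟩ := HV.exact₁ k (mv_shortExact M hcov) 0 y (Subsingleton.elim _ _)
  obtain ⟨x, hx⟩ := (secTop_bijective M (U ⊓ V)).2 z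
  exact ⟨x, by rw [bd_apply, hx, hz]⟩

end Groth.Agent.VarietyB.MVBd
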