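import Groth.Agent.VarietyB.MVSection
import Groth.Prelude.Def_Coh

/-!
# Splitting functions on an overlap, up to finitely many linear conditions

If `X` is a scheme over a field `k` with `H^1(X, O_X)` finite-dimensional and `U ⊔ V = ⊤`, then
among infinitely many functions on `U ⊓ V` some nontrivial `k`-linear combination is the
difference of a function on `U` and a function on `V`.
-/

set_option autoImplicit false
universe u

open CategoryTheory Limits Abelian Opposite TopologicalSpace AlgebraicGeometry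

namespace Groth.Agent.VarietyB.MVScheme

open Groth.Agent.VarietyB.MVSection

/-- The structure map `k → Γ(X, V)` of an open subscheme of a scheme over `Spec k`. -/
noncomputable def kMap {k : Type u} [CommRing k] {X : Scheme.{u}} (f : X ⟶ Spec (CommRingCat.of k))
    (V : X.Opens) : k →+* Γ(X, V) :=
  ((Scheme.ΓSpecIso (CommRingCat.of k)).inv ≫ f.appTop ≫
    X.presheaf.map (homOfLE (le_top : V ≤ ⊤)).op).hom

theorem kMap_apply {k : Type u} [CommRing k] {X : Scheme.{u}} (f : X ⟶ Spec (CommRingCat.of k))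
    (V : X.Opens) (c : k) : kMap f V c = X.presheaf.map (homOfLE (le_top : V ≤ ⊤)).op
      (f.appTop ((Scheme.ΓSpecIso (CommRingCat.of k)).inv c)) := rfl

theorem map_kMap {k : Type u} [CommRing k] {X : Scheme.{u}} (f : X ⟶ Spec (CommRingCat.of k))
    {V W : X.Opens} (h : W ≤ V) (c : k) :
    X.presheaf.map (homOfLE h).op (kMap f V c) = kMap f W c := by
  rw [kMap_apply, kMap_apply, ← CommRingCat.comp_apply, ← X.presheaf.map_comp]
  rfl

theorem exists_relation (k : Type u) [Field k] (X : Scheme.{u})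
    [X.Over (Spec (CommRingCat.of k))] (hfin : Module.Finite k (Coh.HH X (Coh.structureModule X) 1))
    (U V : X.Opens) (hUV : U ⊔ V = ⊤) (s : ℕ → Γ(X, U ⊓ V)) :
    ∃ (N : ℕ) (c : Fin N → k), c ≠ 0 ∧ ∃ (a : Γ(X, U)) (b : Γ(X, V)),
      X.presheaf.map (homOfLE (inf_le_left : U ⊓ V ≤ U)).op a -
        X.presheaf.map (homOfLE (inf_le_right : U ⊓ V ≤ V)).op b =
      ∑ i : Fin N, kMap (X ↘ Spec (CommRingCat.of k)) (U ⊓ V) (c i) * s i := by
  classical
  let S := Opens.mayerVietorisSquare U V
  have hT : IsTerminal S.X₄ := by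
    have : S.X₄ = ⊤ := hUV
    rw [this]
    exact IsTerminal.ofUniqueHom (fun W => homOfLE le_top) (fun _ _ => Subsingleton.elim _ _)
  let F := Coh.toAb (Coh.structureModule X)
  let δ : Γ(X, U ⊓ V) →+ Coh.HH X (Coh.structureModule X) 1 := connSec S hT F
  have hδ : ∀ (c : k) (t : Γ(X, U ⊓ V)),
      c • δ t = δ (kMap (X ↘ Spec (CommRingCat.of k)) (U ⊓ V) c * t) := by
    intro c t
    exact (connSec_map S hT (Coh.smulAb (Coh.structureModule X)
      (Coh.toGlobal (X ↘ Spec (CommRingCat.of k)) c)) t).symm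
  let N := Module.finrank k (Coh.HH X (Coh.structureModule X) 1) + 1
  have hdep : ¬ LinearIndependent k (fun i : Fin N => δ (s i)) := by
    intro hli
    have := hli.fintype_card_le_finrank
    simp [N] at this
  rw [Fintype.not_linearIndependent_iff] at hdep
  obtain ⟨c, hc, i, hi⟩ := hdep
  refine ⟨N, c, fun h => hi (by rw [h]; rfl), ?_⟩
  have h0 : δ (∑ i : Fin N, kMap (X ↘ Spec (CommRingCat.of k)) (U ⊓ V) (c i) * s i) = 0 := by
    rw [map_sum, ← hc]
    exact Finset.sum_congr rfl fun i _ => (hδ _ _).symm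
  exact exists_of_connSec_eq_zero S hT F _ h0

end Groth.Agent.VarietyB.MVScheme
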