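import Groth.Agent.CohqA.SheafHLocal
import Mathlib.Topology.Sheaves.MayerVietoris

/-!
# The Mayer–Vietoris connecting map on sections

For a Mayer–Vietoris square with `X₄` terminal, the connecting map `F(X₁) → H^1(F)`, natural in
the abelian sheaf `F`, with kernel contained in `F(X₂)| + F(X₃)|`.
-/

set_option autoImplicit false
universe w v u

open CategoryTheory Limits Abelian Opposite

namespace Groth.Agent.VarietyB.MVSection

open Groth.Agent.CohqA.SheafH

section Abstract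

variable {A : Type u} [Category.{v} A] [Abelian A] {X₁ X₂ X₃ X₄ : A}

/-- The sequence `0 → X₁ → X₂ ⊞ X₃ → X₄ → 0` with maps `(f, -g)` and `(h, k)` is short exact. -/
def IsMVExact (f : X₁ ⟶ X₂) (g : X₁ ⟶ X₃) (h : X₂ ⟶ X₄) (k : X₃ ⟶ X₄) : Prop :=
  ∃ w : biprod.lift f (-g) ≫ biprod.desc h k = 0,
    (ShortComplex.mk (biprod.lift f (-g)) (biprod.desc h k) w).ShortExact

variable {f : X₁ ⟶ X₂} {g : X₁ ⟶ X₃} {h : X₂ ⟶ X₄} {k : X₃ ⟶ X₄} [HasExt.{w} A]

/-- The extension class of a Mayer–Vietoris sequence. -/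
noncomputable def mvClass (H : IsMVExact f g h k) : Ext X₄ X₁ 1 := H.choose_spec.extClass

/-- Kernel of the Mayer–Vietoris connecting map, in an abstract abelian category. -/
theorem exists_of_mvClass_comp_eq_zero (H : IsMVExact f g h k)
    (F : A) (n m : ℕ) (hnm : 1 + n = m) (x : Ext X₁ F n)
    (hx : (mvClass H).comp x hnm = 0) :
    ∃ (a : Ext X₂ F n) (b : Ext X₃ F n),
      (Ext.mk₀ f).comp a (zero_add n) - (Ext.mk₀ g).comp b (zero_add n) = x := by
  obtain ⟨y, hy⟩ := Ext.contravariant_sequence_exact₁ H.choose_spec F _ _ hx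
  obtain ⟨⟨a, b⟩, rfl⟩ := Ext.biprodAddEquiv.symm.surjective y
  refine ⟨a, b, ?_⟩
  rw [← hy, Ext.biprodAddEquiv_symm_apply]
  simp [sub_eq_add_neg]

end Abstract

variable {C : Type u} [Category.{v} C] {J : GrothendieckTopology C}
  [HasSheafify J AddCommGrpCat.{v}] [HasExt.{w} (Sheaf J AddCommGrpCat.{v})]
  [HasWeakSheafify J (Type v)] (S : J.MayerVietorisSquare)

omit [HasExt.{w} (Sheaf J AddCommGrpCat.{v})] in
/-- The short exact sequence of free sheaves attached to a Mayer–Vietoris square. -/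
theorem isMVExact : IsMVExact (freeSheafMap J S.f₁₂) (freeSheafMap J S.f₁₃)
    (freeSheafMap J S.f₂₄) (freeSheafMap J S.f₃₄) :=
  ⟨S.shortComplex.zero, S.shortComplex_shortExact⟩

/-- The connecting map. -/
noncomputable def conn (F : Sheaf J AddCommGrpCat.{v}) (n m : ℕ) (h : 1 + n = m) :
    HU F n S.X₁ →+ HU F m S.X₄ :=
  (mvClass (isMVExact S)).precomp F h

theorem conn_apply (F : Sheaf J AddCommGrpCat.{v}) (n m : ℕ) (h : 1 + n = m) (x : HU F n S.X₁) :
    conn S F n m h x = (mvClass (isMVExact S)).comp x h := rfl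

theorem conn_map {F G : Sheaf J AddCommGrpCat.{v}} (φ : F ⟶ G) (n m : ℕ) (h : 1 + n = m)
    (x : HU F n S.X₁) :
    conn S G n m h (map φ n _ x) = map φ m _ (conn S F n m h x) := by
  rw [conn_apply, conn_apply, map_apply, map_apply, Ext.comp_assoc_of_third_deg_zero]

theorem exists_of_conn_eq_zero (F : Sheaf J AddCommGrpCat.{v}) (n m : ℕ) (h : 1 + n = m)
    (x : HU F n S.X₁)
    (hx : conn S F n m h x = 0) : ∃ (a : HU F n S.X₂) (b : HU F n S.X₃),
      res F n S.f₁₂ a - res F n S.f₁₃ b = x :=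
  exists_of_mvClass_comp_eq_zero (isMVExact S) F n m h x hx

/-- The connecting map on sections. -/
noncomputable def connSec (hT : IsTerminal S.X₄) (F : Sheaf J AddCommGrpCat.{v}) :
    F.obj.obj (op S.X₁) →+ Sheaf.H.{w} F 1 :=
  ((HEquivHU F 1 hT).symm.toAddMonoidHom.comp (conn S F 0 1 rfl)).comp
    (H0 F S.X₁).symm.toAddMonoidHom

theorem connSec_apply (hT : IsTerminal S.X₄) (F : Sheaf J AddCommGrpCat.{v})
    (s : F.obj.obj (op S.X₁)) :
    connSec S hT F s = (HEquivHU F 1 hT).symm (conn S F 0 1 rfl ((H0 F S.X₁).symm s)) := rfl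

theorem connSec_map (hT : IsTerminal S.X₄) {F G : Sheaf J AddCommGrpCat.{v}} (φ : F ⟶ G)
    (s : F.obj.obj (op S.X₁)) :
    connSec S hT G (φ.hom.app (op S.X₁) s) = Sheaf.H.map φ 1 (connSec S hT F s) := by
  rw [connSec_apply, connSec_apply, AddEquiv.symm_apply_eq, HEquivHU_map,
    AddEquiv.apply_symm_apply]
  have h1 : (H0 G S.X₁).symm (φ.hom.app (op S.X₁) s) = map φ 0 S.X₁ ((H0 F S.X₁).symm s) := by
    rw [AddEquiv.symm_apply_eq, H0_map, AddEquiv.apply_symm_apply]
  rw [h1, conn_map]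

theorem exists_of_connSec_eq_zero (hT : IsTerminal S.X₄) (F : Sheaf J AddCommGrpCat.{v})
    (s : F.obj.obj (op S.X₁)) (hs : connSec S hT F s = 0) :
    ∃ (a : F.obj.obj (op S.X₂)) (b : F.obj.obj (op S.X₃)),
      F.obj.map S.f₁₂.op a - F.obj.map S.f₁₃.op b = s := by
  rw [connSec_apply, AddEquiv.symm_apply_eq, map_zero] at hs
  obtain ⟨a, b, hab⟩ := exists_of_conn_eq_zero S F 0 1 rfl _ hs
  refine ⟨H0 F S.X₂ a, H0 F S.X₃ b, ?_⟩
  rw [← H0_res, ← H0_res, ← map_sub, hab, AddEquiv.apply_symm_apply]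

end Groth.Agent.VarietyB.MVSection
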