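import Mathlib.RingTheory.Binomial
import Mathlib.Algebra.Group.ForwardDiff

/-!
# Newton expansion of integer valued functions on `ℤ` with vanishing difference

* `exists_newton`: `f : ℤ → ℤ` whose `(n + 1)`-st difference vanishes is `∑ j ≤ n, a j * Ring.choose t j` with
  integers `a j`, for all `t : ℤ` (also negative ones).
-/

set_option autoImplicit false

open Finset fwdDiff

namespace Groth.Agent.VarietyB.NewtonInt

/-- `f` with `Δ^n f = 0` on all of `ℤ` is an integer combination of `t ↦ Ring.choose t j`, `j < n`. -/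
theorem exists_of_fwdDiff_iter_eq_zero (n : ℕ) : ∀ (f : ℤ → ℤ), (∀ t : ℤ, Δ_[(1 : ℤ)]^[n] f t = 0) →
    ∃ a : ℕ → ℤ, ∀ t : ℤ, f t = ∑ j ∈ range n, a j * Ring.choose t j := by
  induction n with
  | zero => exact fun f h => ⟨0, fun t => by simpa using h t⟩
  | succ n ih =>
    intro f h
    obtain ⟨b, hb⟩ := ih (Δ_[(1 : ℤ)] f) h
    have h1 : ∀ t : ℤ, f (t + 1) - ∑ j ∈ range n, b j * Ring.choose (t + 1) (j + 1) =
        f t - ∑ j ∈ range n, b j * Ring.choose t (j + 1) := by
      intro t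
      have h2 := hb t
      simp only [Ring.choose_succ_succ, mul_add, sum_add_distrib, ← h2, fwdDiff]
      ring
    have h3 : ∀ t : ℤ, f t - ∑ j ∈ range n, b j * Ring.choose t (j + 1) =
        f 0 - ∑ j ∈ range n, b j * Ring.choose (0 : ℤ) (j + 1) := by
      intro t
      induction t using Int.induction_on with
      | zero => rfl
      | succ i hi => rw [h1, hi]
      | pred i hi =>
        rw [← hi, ← h1 (-(i : ℤ) - 1), sub_add_cancel]
    refine ⟨fun j => Nat.casesOn j (f 0 - ∑ j ∈ range n, b j * Ring.choose (0 : ℤ) (j + 1)) b, fun t => ?_⟩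
    rw [sum_range_succ']
    have h4 : f t = ∑ j ∈ range n, b j * Ring.choose t (j + 1) +
        (f 0 - ∑ j ∈ range n, b j * Ring.choose (0 : ℤ) (j + 1)) := by
      rw [← h3 t]; ring
    rw [Ring.choose_zero_right, mul_one]
    exact h4

/-- Newton expansion: if the `(n + 1)`-st (backward) difference of `f : ℤ → ℤ` vanishes then
`f t = ∑ j ≤ n, a j * Ring.choose t j` for all `t : ℤ`. -/
theorem exists_newton (n : ℕ) (f : ℤ → ℤ)
    (h : ∀ t : ℤ, ∑ i ∈ Finset.range (n + 2), (-1 : ℤ) ^ i * ((n + 1).choose i : ℤ) * f (t - i) = 0) :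
    ∃ a : Fin (n + 1) → ℤ, ∀ t : ℤ, f t = ∑ j, a j * Ring.choose t (j : ℕ) := by
  have h1 : ∀ t : ℤ, Δ_[(1 : ℤ)]^[n + 1] f t = 0 := by
    intro t
    rw [fwdDiff_iter_eq_sum_shift, ← h (t + (n + 1 : ℕ)), ← sum_range_reflect]
    refine sum_congr rfl fun k hk => ?_
    have hk' : k ≤ n + 1 := Nat.lt_succ_iff.mp (mem_range.mp hk)
    have e1 : n + 1 + 1 - 1 - k = n + 1 - k := by omega
    have e2 : n + 1 - (n + 1 - k) = k := by omega
    rw [e1, e2, Nat.choose_symm hk', smul_eq_mul]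
    congr 2
    simp only [mul_one, nsmul_eq_mul]
    push_cast [Nat.cast_sub hk']
    ring
  obtain ⟨a, ha⟩ := exists_of_fwdDiff_iter_eq_zero (n + 1) f h1
  exact ⟨fun j => a j, fun t => by rw [ha t, ← Fin.sum_univ_eq_sum_range (fun j => a j * Ring.choose t j)]⟩

end Groth.Agent.VarietyB.NewtonInt
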