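import Groth.Agent.VarietyB.CurvePole
import Mathlib.AlgebraicGeometry.ValuativeCriterion
import Mathlib.AlgebraicGeometry.Morphisms.Proper
import Mathlib.AlgebraicGeometry.GammaSpecAdjunction

/-!
# A function with poles along the whole boundary is a proper map to the line

Let `π : Y → Spec k` be proper, `U` an open of `Y` and `F ∈ Γ(Y, U)` with a pole at every point
outside `U`. Then `F : U → Spec k[T]` is universally closed.
-/

set_option autoImplicit false
universe u

open CategoryTheory Limits Opposite TopologicalSpace AlgebraicGeometry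

namespace Groth.Agent.VarietyB.PoleProper

open Groth.Agent.VarietyB.MVScheme Groth.Agent.VarietyB.CurvePole

variable {k : Type u} [CommRing k] {Y : Scheme.{u}} (π : Y ⟶ Spec (CommRingCat.of k))
  (U : Y.Opens) (F : Γ(Y, U))

/-- The ring map `k[T] → Γ(X, ⊤)` determined by a function `f`. -/
noncomputable def polyMap {X : Scheme.{u}} (q : X ⟶ Spec (CommRingCat.of k)) (f : Γ(X, ⊤)) :
    Polynomial k →+* Γ(X, ⊤) :=
  Polynomial.eval₂RingHom (kMap q ⊤) f

/-- The morphism `X → Spec k[T]` determined by a function `f`. -/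
noncomputable def toLine {X : Scheme.{u}} (q : X ⟶ Spec (CommRingCat.of k)) (f : Γ(X, ⊤)) :
    X ⟶ Spec (CommRingCat.of (Polynomial k)) :=
  X.toSpecΓ ≫ Spec.map (CommRingCat.ofHom (polyMap q f))

theorem toSpecΓ_map_kMap {X : Scheme.{u}} (q : X ⟶ Spec (CommRingCat.of k)) :
    X.toSpecΓ ≫ Spec.map (CommRingCat.ofHom (kMap q ⊤)) = q := by
  have h1 : CommRingCat.ofHom (kMap q ⊤) =
      (Scheme.ΓSpecIso (CommRingCat.of k)).inv ≫ q.appTop := by
    ext c
    change X.presheaf.map (𝟙 (op ⊤)) _ = _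
    rw [X.presheaf.map_id]
    rfl
  rw [h1, Spec.map_comp, ← Scheme.toSpecΓ_naturality_assoc, toSpecΓ_SpecMap_ΓSpecIso_inv,
    Category.comp_id]

theorem toLine_comp {X : Scheme.{u}} (q : X ⟶ Spec (CommRingCat.of k)) (f : Γ(X, ⊤)) :
    toLine q f ≫ Spec.map (CommRingCat.ofHom Polynomial.C) = q := by
  rw [toLine, Category.assoc, ← Spec.map_comp, ← CommRingCat.ofHom_comp]
  have : (polyMap q f).comp Polynomial.C = kMap q ⊤ := by
    ext c; simp [polyMap]
  rw [this, toSpecΓ_map_kMap]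

/-- The coordinate function on the line. -/
noncomputable def coord (k : Type u) [CommRing k] : Γ(Spec (CommRingCat.of (Polynomial k)), ⊤) :=
  (Scheme.ΓSpecIso (CommRingCat.of (Polynomial k))).inv (Polynomial.X)

theorem toLine_appTop_coord {X : Scheme.{u}} (q : X ⟶ Spec (CommRingCat.of k)) (f : Γ(X, ⊤)) :
    (toLine q f).appTop (coord k) = f := by
  have h1 : (toLine q f).appTop = (Spec.map (CommRingCat.ofHom (polyMap q f))).appTop ≫
      X.toSpecΓ.appTop := Scheme.Hom.comp_appTop _ _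
  have h2 : (Scheme.ΓSpecIso (CommRingCat.of (Polynomial k))).inv ≫
      (Spec.map (CommRingCat.ofHom (polyMap q f))).appTop =
      CommRingCat.ofHom (polyMap q f) ≫ (Scheme.ΓSpecIso _).inv :=
    (Scheme.ΓSpecIso_inv_naturality _).symm
  have h3 : (Scheme.ΓSpecIso (CommRingCat.of (Polynomial k))).inv ≫ (toLine q f).appTop =
      CommRingCat.ofHom (polyMap q f) := by
    rw [h1, reassoc_of% h2, Scheme.toSpecΓ_appTop]
    simp
  have h4 := congrArg (fun φ => φ.hom Polynomial.X) h3
  refine Eq.trans h4 ?_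
  simp [polyMap]

/-- A function on an open subscheme as a global section of that subscheme. -/
noncomputable def glob {U : Y.Opens} (F : Γ(Y, U)) : Γ(U.toScheme, ⊤) :=
  U.ι.appLE U ⊤ (by simp) F

/-- The line map attached to a function on an open subscheme. -/
noncomputable def lineMap : U.toScheme ⟶ Spec (CommRingCat.of (Polynomial k)) :=
  toLine (U.ι ≫ π) (glob F)

theorem lineMap_comp : lineMap π U F ≫ Spec.map (CommRingCat.ofHom Polynomial.C) = U.ι ≫ π :=
  toLine_comp _ _

/-- Injectivity on global sections of `Spec K → Spec R`. -/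
theorem appTop_injective_of_injective {R K : Type u} [CommRing R] [CommRing K] (φ : R →+* K)
    (hφ : Function.Injective φ) :
    Function.Injective (Spec.map (CommRingCat.ofHom φ)).appTop := by
  have h := Scheme.ΓSpecIso_inv_naturality (CommRingCat.ofHom φ)
  intro a b hab
  obtain ⟨a, rfl⟩ := (ConcreteCategory.bijective_of_isIso
    (Scheme.ΓSpecIso (CommRingCat.of R)).inv).2 a
  obtain ⟨b, rfl⟩ := (ConcreteCategory.bijective_of_isIso
    (Scheme.ΓSpecIso (CommRingCat.of R)).inv).2 b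
  have ha := ConcreteCategory.congr_hom h a
  have hb := ConcreteCategory.congr_hom h b
  have h0 : (Scheme.ΓSpecIso (CommRingCat.of K)).inv (φ a) =
      (Scheme.ΓSpecIso (CommRingCat.of K)).inv (φ b) := ha.trans (hab.trans hb.symm)
  have h1 := (ConcreteCategory.bijective_of_isIso
    (Scheme.ΓSpecIso (CommRingCat.of K)).inv).1 h0
  rw [hφ h1]

theorem appLE_eq_appLE_rs {X : Scheme.{u}} (m : X ⟶ Y) {A B : Y.Opens} (h : B ≤ A)
    (W : X.Opens) (hA : W ≤ m ⁻¹ᵁ A) (hB : W ≤ m ⁻¹ᵁ B) (s : Γ(Y, A)) :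
    m.appLE A W hA s = m.appLE B W hB (rs h s) :=
  (ConcreteCategory.congr_hom (m.map_appLE hB (homOfLE h).op) s).symm

/-- Existence part of the valuative criterion. -/
theorem existence [IsProper π] (hF : ∀ p ∉ U, HasPoleAt F p) :
    ValuativeCriterion.Existence (lineMap π U F) := by
  rintro ⟨R, K, i₁, i₂, ⟨w⟩⟩
  let σ : Spec (CommRingCat.of K) ⟶ Spec (CommRingCat.of R) :=
    Spec.map (CommRingCat.ofHom (algebraMap R K))
  have hσ : Function.Injective σ.appTop :=
    appTop_injective_of_injective _ (IsFractionRing.injective R K)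
  -- lift to Y
  have hE : ValuativeCriterion.Existence π := by
    have h1 : UniversallyClosed π := inferInstance
    rw [UniversallyClosed.eq_valuativeCriterion] at h1
    exact h1.1
  have hsq : CommSq (i₁ ≫ U.ι) σ π (i₂ ≫ Spec.map (CommRingCat.ofHom Polynomial.C)) := by
    refine ⟨?_⟩
    rw [← Category.assoc σ, ← w, Category.assoc, Category.assoc, lineMap_comp]
  obtain ⟨⟨l, hl1, hl2⟩⟩ := (hE ⟨R, K, i₁ ≫ U.ι, _, hsq⟩).exists_lift
  change σ ≫ l = i₁ ≫ U.ι at hl1
  have hloc : ∀ W : Y.Opens, l (IsLocalRing.closedPoint R) ∈ W →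
      (⊤ : (Spec (CommRingCat.of R)).Opens) ≤ l ⁻¹ᵁ W := by
    intro W hW
    have h1 : IsLocalRing.closedPoint R ∈ (l ⁻¹ᵁ W : (Spec (CommRingCat.of R)).Opens) := hW
    exact ((IsLocalRing.closedPoint_mem_iff _).mp h1).ge
  -- `l` lands in `U`
  have hlU : l (IsLocalRing.closedPoint R) ∈ U := by
    by_contra hp
    obtain ⟨V, hpV, g, hg, hfg⟩ := hF _ hp
    have hlV : (⊤ : (Spec (CommRingCat.of R)).Opens) ≤ l ⁻¹ᵁ V := hloc V hpV
    have hmU : (⊤ : (Spec (CommRingCat.of K)).Opens) ≤ (i₁ ≫ U.ι) ⁻¹ᵁ U := by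
      intro x _
      exact (i₁ x).2
    have hmV : (⊤ : (Spec (CommRingCat.of K)).Opens) ≤ (i₁ ≫ U.ι) ⁻¹ᵁ V := by
      intro x _
      have : (σ ≫ l) x ∈ V := hlV (x := σ x) trivial
      rw [hl1] at this
      exact this
    have hmUV : (⊤ : (Spec (CommRingCat.of K)).Opens) ≤ (i₁ ≫ U.ι) ⁻¹ᵁ (U ⊓ V) :=
      fun x hx => ⟨hmU hx, hmV hx⟩
    have e1 : σ.appTop (i₂.appTop (coord k)) = (i₁ ≫ U.ι).appLE U ⊤ hmU F := by
      have h1 : σ.appTop (i₂.appTop (coord k)) = (σ ≫ i₂).appTop (coord k) := by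
        rw [Scheme.Hom.comp_appTop]; rfl
      rw [h1, ← w, Scheme.Hom.comp_appTop, CommRingCat.comp_apply]
      have h2 : (lineMap π U F).appTop (coord k) = glob F := toLine_appTop_coord _ _
      rw [h2, glob]
      have h3 := Scheme.Hom.appLE_comp_appLE i₁ U.ι U ⊤ ⊤ (by simp) (by simp)
      have h4 := ConcreteCategory.congr_hom h3 F
      rw [CommRingCat.comp_apply] at h4
      rw [← h4]
      congr 1
    have e2 : σ.appTop (l.appLE V ⊤ hlV g) = (i₁ ≫ U.ι).appLE V ⊤ hmV g := by
      have key : ∀ (m : Spec (CommRingCat.of K) ⟶ Y) (_ : σ ≫ l = m)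
          (hm : (⊤ : (Spec (CommRingCat.of K)).Opens) ≤ m ⁻¹ᵁ V),
          σ.appTop (l.appLE V ⊤ hlV g) = m.appLE V ⊤ hm g := by
        rintro _ rfl hm
        have h3 := Scheme.Hom.appLE_comp_appLE σ l V ⊤ ⊤ hlV (by simp)
        have h4 := ConcreteCategory.congr_hom h3 g
        have h5 : σ.appTop = σ.appLE ⊤ ⊤ (by simp) := Scheme.Hom.app_eq_appLE σ
        rw [h5]
        exact h4
      exact key _ hl1 hmV
    have e3 : (i₁ ≫ U.ι).appLE U ⊤ hmU F * (i₁ ≫ U.ι).appLE V ⊤ hmV g = 1 := by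
      rw [appLE_eq_appLE_rs (i₁ ≫ U.ι) inf_le_left ⊤ hmU hmUV F,
        appLE_eq_appLE_rs (i₁ ≫ U.ι) inf_le_right ⊤ hmV hmUV g, ← map_mul, hfg, map_one]
    have e4 : i₂.appTop (coord k) * l.appLE V ⊤ hlV g = 1 := by
      apply hσ
      rw [map_mul, e1, e2, e3, map_one]
    have e5 : IsUnit (l.appLE V ⊤ hlV g) := IsUnit.of_mul_eq_one_right _ e4
    have e6 := (Spec (CommRingCat.of R)).basicOpen_of_isUnit e5
    rw [Scheme.basicOpen_appLE] at e6
    have e7 : IsLocalRing.closedPoint R ∈ (⊤ : (Spec (CommRingCat.of R)).Opens) := trivial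
    rw [← e6] at e7
    exact hg e7.2
  have hrange : Set.range l ⊆ Set.range U.ι := by
    rw [Scheme.Opens.range_ι]
    rintro _ ⟨x, rfl⟩
    exact hloc U hlU (x := x) trivial
  refine ⟨⟨⟨IsOpenImmersion.lift U.ι l hrange, ?_, ?_⟩⟩⟩
  · rw [← cancel_mono U.ι, Category.assoc, IsOpenImmersion.lift_fac]
    exact hl1
  · -- both maps `Spec R → Spec k[T]` agree on `Spec K`
    obtain ⟨a, ha⟩ := Spec.map_surjective (IsOpenImmersion.lift U.ι l hrange ≫ lineMap π U F)
    obtain ⟨b, hb⟩ := Spec.map_surjective i₂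
    have h1 : σ ≫ Spec.map a = σ ≫ Spec.map b := by
      rw [ha, hb, ← Category.assoc]
      have : σ ≫ IsOpenImmersion.lift U.ι l hrange = i₁ := by
        rw [← cancel_mono U.ι, Category.assoc, IsOpenImmersion.lift_fac]
        exact hl1
      rw [this]
      exact w
    rw [← Spec.map_comp, ← Spec.map_comp] at h1
    have h2 := Spec.map_injective h1
    have h3 : a = b := by
      ext x
      · apply IsFractionRing.injective R K
        exact ConcreteCategory.congr_hom h2 _
      · apply IsFractionRing.injective R K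
        exact ConcreteCategory.congr_hom h2 _
    exact ha.symm.trans ((congrArg Spec.map h3).trans hb)

end Groth.Agent.VarietyB.PoleProper
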