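import Groth.Agent.VarietyB.ProjForm
import Groth.Agent.VarietyA.StalkCrit
import Groth.Agent.CohqA.IdealMod

/-!
# `0 → E ⊗ I_Z → E → i_* i^* E → 0`
-/

set_option autoImplicit false
universe u

open CategoryTheory CategoryTheory.Limits AlgebraicGeometry Opposite TopologicalSpace MonoidalCategory
open AlgebraicGeometry.Scheme.Modules
open Groth.Agent.VarietyB.TensLoc Groth.Agent.VarietyB.ExactLoc Groth.Agent.VarietyB.TensCoh
open Groth.Agent.VarietyB.ProjForm

namespace Groth.Agent.VarietyB.RestrSeq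

variable {X : Scheme.{u}}

theorem epi_toSubscheme (D : X.IdealSheafData) : Epi (C := X.Modules) (ClSub.toSubscheme D) := by
  have h := CohqA.H1Lift.epi_toAb_of_locSurj (ClSub.toSubscheme D)
    (CohqA.IdealMod.toSubscheme_locSurj D)
  exact (SheafOfModules.toSheaf X.ringCatSheaf).epi_of_epi_map h

/-- `0 → I → O_X → i_* O_Z → 0` -/
noncomputable def idealSeq (D : X.IdealSheafData) : ShortComplex X.Modules :=
  ShortComplex.mk (ClSub.idealModι D) (ClSub.toSubscheme D) (kernel.condition _)

theorem idealSeq_shortExact (D : X.IdealSheafData) : (idealSeq D).ShortExact :=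
  have := epi_toSubscheme D
  VarietyA.StalkCrit.shortExact_kernel (ClSub.toSubscheme D)

variable {E : X.Modules} (hE : HasBases E) (D : X.IdealSheafData)

/-- `E ⊗ φ` -/
noncomputable def tensMap (E : X.Modules) {F G : X.Modules} (φ : F ⟶ G) : 
    CohB1.tensorMod E F ⟶ CohB1.tensorMod E G := (DCoh.tensorBi.obj E).map φ

theorem tensMap_comp_zero (E : X.Modules) {F G H : X.Modules} (φ : F ⟶ G) (ψ : G ⟶ H) 
    (h : φ ≫ ψ = 0) : tensMap E φ ≫ tensMap E ψ = 0 := by
  have h1 : (DCoh.tensorBi.obj E).map (φ ≫ ψ) = (DCoh.tensorBi.obj E).map φ ≫ 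
    (DCoh.tensorBi.obj E).map ψ := Functor.map_comp _ _ _
  refine h1.symm.trans ?_
  rw [h]
  exact Functor.map_zero _ _ _

/-- `E ⊗ I → E` -/
noncomputable def tensIdealι (E : X.Modules) (D : X.IdealSheafData) : 
    CohB1.tensorMod E (ClSub.idealMod D) ⟶ E :=
  tensMap E (ClSub.idealModι D) ≫ (Ega2.Tens.runit E).hom

/-- `E → i_* i^* E` -/
noncomputable def toRestr : E ⟶ (Scheme.Modules.pushforward D.subschemeι).obj 
    ((Scheme.Modules.pullback D.subschemeι).obj E) :=
  (Ega2.Tens.runit E).inv ≫ tensMap E (ClSub.toSubscheme D) ≫ 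
    (projIsoUnit D.subschemeι hE).hom

theorem tensIdealι_toRestr : tensIdealι E D ≫ toRestr hE D = 0 := by
  unfold tensIdealι toRestr
  rw [Category.assoc, Iso.hom_inv_id_assoc, ← Category.assoc, 
    tensMap_comp_zero E (ClSub.idealModι D) (ClSub.toSubscheme D) (kernel.condition _), zero_comp]

/-- `0 → E ⊗ I → E → i_* i^* E → 0` -/
noncomputable def restrSeq : ShortComplex X.Modules :=
  ShortComplex.mk (tensIdealι E D) (toRestr hE D) (tensIdealι_toRestr hE D)

theorem restr_comm₁ : 𝟙 (CohB1.tensorMod E (ClSub.idealMod D)) ≫ tensIdealι E D = 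
    tensMap E (ClSub.idealModι D) ≫ (Ega2.Tens.runit E).hom := Category.id_comp _

theorem restr_comm₂ : (Ega2.Tens.runit E).hom ≫ toRestr hE D = 
    tensMap E (ClSub.toSubscheme D) ≫ (projIsoUnit D.subschemeι hE).hom := by
  unfold toRestr
  rw [Iso.hom_inv_id_assoc]

/-- comparison with the tensor product of `E` with `0 → I → O → i_* O → 0` -/
noncomputable def restrSeqIso : (idealSeq D).map (DCoh.tensorBi.obj E) ≅ restrSeq hE D :=
  ShortComplex.isoMk (Iso.refl _) (Ega2.Tens.runit E) (projIsoUnit D.subschemeι hE) 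
    (restr_comm₁ D) (restr_comm₂ hE D)

theorem restrSeq_shortExact : (restrSeq hE D).ShortExact :=
  ShortComplex.shortExact_of_iso (restrSeqIso hE D) (tensor_shortExact hE _ (idealSeq_shortExact D))

end Groth.Agent.VarietyB.RestrSeq
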