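import Groth.Agent.CohtopA.RpushSheafify
import Groth.Agent.CohqA.AffVan

/-!
# Higher direct images along affine morphisms vanish

* `isZero_presheafToSheaf`: the sheafification of a locally zero presheaf of abelian groups is zero.
* `isZero_RpushAb_of_forall`: `R^n f_* F = 0` as soon as `H^n(f⁻¹ V, F) = 0` for the `V` of a basis.
* `isZero_RpushAb_of_isAffineHom`: Stacks 01XC.
-/

set_option autoImplicit false
universe u

open CategoryTheory CategoryTheory.Limits AlgebraicGeometry Opposite TopologicalSpace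

namespace Groth.Agent.VarietyB.RpushAffVan

section Site

variable {C : Type u} [SmallCategory C] (J : GrothendieckTopology C)

/-- The sheafification of a locally zero presheaf of abelian groups is zero. -/
theorem isZero_presheafToSheaf (P : Cᵒᵖ ⥤ AddCommGrpCat.{u})
    (h : ∀ (U : C) (s : P.obj (op U)), ∃ R ∈ J U, ∀ ⦃V : C⦄ (g : V ⟶ U), R g → P.map g.op s = 0) :
    IsZero ((presheafToSheaf J AddCommGrpCat.{u}).obj P) := by
  have h0 : toSheafify J P = 0 := by
    ext ⟨U⟩ s
    obtain ⟨R, hR, hs⟩ := h U s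
    have hsh := (isSheaf_iff_isSheaf_of_type J _).1
      ((Presheaf.isSheaf_iff_isSheaf_forget J (sheafify J P) (forget AddCommGrpCat.{u})).1
        ((presheafToSheaf J AddCommGrpCat.{u}).obj P).property)
    refine (hsh R hR).isSeparatedFor.ext (fun V g hg => ?_)
    have h1 := ConcreteCategory.congr_hom ((toSheafify J P).naturality g.op) s
    have h2 : (sheafify J P).map g.op ((toSheafify J P).app (op U) s) = 0 := by
      refine h1.symm.trans ?_
      change (toSheafify J P).app (op V) (P.map g.op s) = 0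
      rw [hs g hg, map_zero]
    refine Eq.trans h2 ?_
    exact (map_zero ((sheafify J P).map g.op).hom).symm
  rw [IsZero.iff_id_eq_zero]
  apply (sheafificationAdjunction J AddCommGrpCat.{u}).homEquiv _ _ |>.injective
  rw [Adjunction.homEquiv_unit, Adjunction.homEquiv_unit]
  have h1 : (sheafificationAdjunction J AddCommGrpCat.{u}).unit.app P = toSheafify J P := rfl
  rw [h1, h0, zero_comp, zero_comp]

end Site

section Space

variable {X Y : Scheme.{u}} (f : X ⟶ Y)

/-- `R^n f_* F = 0` as soon as every point of `Y` has a basis of open neighbourhoods `V` with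
`H^n(f⁻¹ V, F) = 0`. -/
theorem isZero_RpushAb_of_forall (F : Sheaf (Opens.grothendieckTopology X) AddCommGrpCat.{u})
    (n : ℕ) (h : ∀ (y : Y) (U : Y.Opens), y ∈ U → ∃ V : Y.Opens, y ∈ V ∧ V ≤ U ∧
      Subsingleton (CohTop.HU (X := X.toTopCat) F n (f ⁻¹ᵁ V))) :
    IsZero ((Coh.RpushAb f n).obj F) := by
  refine IsZero.of_iso (isZero_presheafToSheaf (Opens.grothendieckTopology Y)
    ((Opens.map f.base).op ⋙ F.cohomologyPresheaf n) ?_)
    (CohtopA.RpushSheafify.rpushObjIso (Opens.grothendieckTopology X)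
      (Opens.grothendieckTopology Y) (Opens.map f.base) F n)
  intro U s
  refine ⟨⟨fun V g => ((Opens.map f.base).op ⋙ F.cohomologyPresheaf n).map g.op s = 0, ?_⟩, ?_,
    fun V g hg => hg⟩
  · intro V W g hg k
    rw [op_comp, Functor.map_comp, ConcreteCategory.comp_apply, hg, map_zero]
  · intro y hy
    obtain ⟨V, hyV, hVU, hV⟩ := h y U hy
    exact ⟨V, homOfLE hVU, Subsingleton.elim (α := CohTop.HU (X := X.toTopCat) F n (f ⁻¹ᵁ V)) _ _,
      hyV⟩

/-- Stacks 01XC. -/
theorem isZero_RpushAb_of_isAffineHom [IsAffineHom f] (M : X.Modules) [Coh.IsQCoh M] (n : ℕ)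
    (hn : 0 < n) : IsZero ((Coh.RpushAb f n).obj (Coh.toAb M)) := by
  obtain ⟨m, rfl⟩ : ∃ m, n = m + 1 := ⟨n - 1, by omega⟩
  refine isZero_RpushAb_of_forall f (Coh.toAb M) (m + 1) (fun y U hy => ?_)
  obtain ⟨_, ⟨V, hV, rfl⟩, hyV, hVU⟩ := Y.isBasis_affineOpens.exists_subset_of_mem_open hy U.2
  exact ⟨V, hyV, hVU, CohqA.AffVan.subsingleton_HU_of_isAffineOpen M (hV.preimage f) m⟩

end Space

end Groth.Agent.VarietyB.RpushAffVan
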