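import Mathlib.AlgebraicGeometry.FunctionField
import Mathlib.AlgebraicGeometry.Morphisms.Separated
import Mathlib.AlgebraicGeometry.Stalk

/-!
# Sections on an affine open and a one-dimensional local ring outside it generate the function field
(separated integral schemes), cf. the proof of Stacks 09NB.
-/

universe u

open CategoryTheory CategoryTheory.Limits AlgebraicGeometry TopologicalSpace

namespace Groth.Agent.VarietyB.SepGen

/-- Let `X` be an integral separated scheme, `U` an affine open and `x ∉ U` a point whose local ring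
has dimension `≤ 1`. Then `Γ(X, U)` and `𝒪_{X,x}` generate the function field of `X` as a ring. -/
theorem sup_eq_top (X : Scheme.{u}) [IsIntegral X] [X.IsSeparated] (U : X.Opens)
    (hU : IsAffineOpen U) [Nonempty U] (x : X) (hxU : x ∉ U)
    [Ring.KrullDimLE 1 (X.presheaf.stalk x)] :
    (algebraMap Γ(X, U) X.functionField).range ⊔
      (algebraMap (X.presheaf.stalk x) X.functionField).range = ⊤ := by
  set A : Subring X.functionField := (algebraMap Γ(X, U) X.functionField).range with hA
  set B : Subring X.functionField := (algebraMap (X.presheaf.stalk x) X.functionField).range with hB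
  set R : Subring X.functionField := A ⊔ B with hR
  by_contra hRtop
  have hBR : B ≤ R := le_sup_right
  have hAR : A ≤ R := le_sup_left
  -- `R` is not a field
  have hnf : ¬ IsField R := by
    intro h
    apply hRtop
    rw [eq_top_iff]
    intro z _
    obtain ⟨b, c, hc, rfl⟩ := IsFractionRing.div_surjective (A := X.presheaf.stalk x) z
    have hb : algebraMap (X.presheaf.stalk x) X.functionField b ∈ R := hBR ⟨b, rfl⟩
    have hc' : algebraMap (X.presheaf.stalk x) X.functionField c ∈ R := hBR ⟨c, rfl⟩
    have hc0 : algebraMap (X.presheaf.stalk x) X.functionField c ≠ 0 := by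
      intro h0
      rw [map_eq_zero_iff _ (IsFractionRing.injective _ _)] at h0
      exact nonZeroDivisors.ne_zero hc h0
    obtain ⟨d, hd⟩ := h.mul_inv_cancel (a := ⟨_, hc'⟩) (fun h0 ↦ hc0 (congrArg Subtype.val h0))
    have hd' : algebraMap (X.presheaf.stalk x) X.functionField c * d.1 = 1 :=
      congrArg Subtype.val hd
    rw [div_eq_mul_inv, ← eq_inv_of_mul_eq_one_right hd']
    exact R.mul_mem hb d.2
  obtain ⟨P, hP⟩ := Ideal.exists_maximal R
  have hP0 : P ≠ ⊥ := Ring.ne_bot_of_isMaximal_of_not_isField hP hnf
  let φA : Γ(X, U) →+* R :=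
    (algebraMap Γ(X, U) X.functionField).codRestrict R (fun a ↦ hAR ⟨a, rfl⟩)
  let φB : X.presheaf.stalk x →+* R :=
    (algebraMap (X.presheaf.stalk x) X.functionField).codRestrict R (fun a ↦ hBR ⟨a, rfl⟩)
  have hPB : P.comap φB = IsLocalRing.maximalIdeal (X.presheaf.stalk x) := by
    have hp : (P.comap φB).IsPrime := Ideal.comap_isPrime φB P
    refine IsLocalRing.eq_maximalIdeal (hp.isMaximal_of_ne_bot ?_)
    obtain ⟨z, hz, hz0⟩ := Submodule.exists_mem_ne_zero_of_ne_bot hP0
    obtain ⟨b, c, hc, hbc⟩ := IsFractionRing.div_surjective (A := X.presheaf.stalk x) z.1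
    have hc0 : algebraMap (X.presheaf.stalk x) X.functionField c ≠ 0 := by
      intro h0
      rw [map_eq_zero_iff _ (IsFractionRing.injective _ _)] at h0
      exact nonZeroDivisors.ne_zero hc h0
    have hbz : φB b = z * φB c := by
      apply Subtype.ext
      show algebraMap (X.presheaf.stalk x) X.functionField b = z.1 * _
      rw [← hbc]
      exact (div_mul_cancel₀ _ hc0).symm
    have hb : b ∈ P.comap φB := by
      rw [Ideal.mem_comap, hbz]
      exact Ideal.mul_mem_right _ _ hz
    intro hbot
    rw [hbot, Ideal.mem_bot] at hb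
    rw [hb, map_zero] at hbz
    rcases mul_eq_zero.1 hbz.symm with h | h
    · exact hz0 h
    · exact hc0 (congrArg Subtype.val h)
  let α : Γ(X, U) ⟶ CommRingCat.of R := CommRingCat.ofHom φA
  let β : X.presheaf.stalk x ⟶ CommRingCat.of R := CommRingCat.ofHom φB
  let ψ : CommRingCat.of R ⟶ X.functionField := CommRingCat.ofHom R.subtype
  let fA : Spec (CommRingCat.of R) ⟶ X := Spec.map α ≫ hU.fromSpec
  let fB : Spec (CommRingCat.of R) ⟶ X := Spec.map β ≫ X.fromSpecStalk x
  let ι : Spec X.functionField ⟶ Spec (CommRingCat.of R) := Spec.map ψ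
  have hdom : IsDominant ι := ⟨by
    refine (PrimeSpectrum.denseRange_comap_iff_ker_le_nilRadical _).2 ?_
    have : RingHom.ker R.subtype = ⊥ := (RingHom.injective_iff_ker_eq_bot _).1 R.subtype_injective
    show RingHom.ker R.subtype ≤ _
    rw [this]
    exact bot_le⟩
  have hgen : genericPoint X ∈ U :=
    ((genericPoint_spec X).mem_open_set_iff U.isOpen).mpr (by
      simpa using (inferInstance : Nonempty U))
  have h1 : ι ≫ fA = X.fromSpecStalk (genericPoint X) := by
    have e0 : α ≫ ψ = X.presheaf.germ U (genericPoint X) hgen := rfl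
    have e : ι ≫ Spec.map α = Spec.map (X.presheaf.germ U (genericPoint X) hgen) := by
      rw [← e0]; exact (Spec.map_comp α ψ).symm
    rw [← hU.fromSpecStalk_eq_fromSpecStalk hgen, IsAffineOpen.fromSpecStalk, ← e, Category.assoc]
  have h2 : ι ≫ fB = X.fromSpecStalk (genericPoint X) := by
    have e0 : β ≫ ψ = X.presheaf.stalkSpecializes
        ((genericPoint_spec X).specializes (Set.mem_univ x)) := rfl
    have e : ι ≫ Spec.map β = Spec.map (X.presheaf.stalkSpecializes
        ((genericPoint_spec X).specializes (Set.mem_univ x))) := by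
      rw [← e0]; exact (Spec.map_comp β ψ).symm
    rw [← Scheme.SpecMap_stalkSpecializes_fromSpecStalk
      ((genericPoint_spec X).specializes (Set.mem_univ x)), ← e, Category.assoc]
  have hEq : fA = fB := ext_of_isDominant ι (h1.trans h2.symm)
  let p : Spec (CommRingCat.of R) := ⟨P, hP.isPrime⟩
  have h3 : fA p ∈ U := by
    have : fA p ∈ Set.range hU.fromSpec := ⟨Spec.map α p, rfl⟩
    rw [hU.range_fromSpec] at this
    exact this
  have h4 : fB p = x := by
    have : Spec.map β p = IsLocalRing.closedPoint (X.presheaf.stalk x) :=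
      PrimeSpectrum.ext hPB
    show X.fromSpecStalk x (Spec.map β p) = x
    rw [this]
    exact Scheme.fromSpecStalk_closedPoint
  rw [hEq, h4] at h3
  exact hxU h3

end Groth.Agent.VarietyB.SepGen
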