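import Groth.Agent.CurvesC.ValCousin
import Groth.Agent.Lipman.ZR158

/-!
# Solvability of Cousin problems passes to the local rings of an affine model

`K` is a field.  A Cousin problem on a set `W` of valuation rings of `K` is given by finitely many finite sets
`T i ⊆ K` and elements `f i`, such that every `V ∈ W` contains one of the `T i` and `f i - f j ∈ V` if
`T i, T j ⊆ V`.  A solution is a `g ∈ K` with `g - f i ∈ V` if `T i ⊆ V`.

Main result (`SolOn.of_localization`): let `C` be the integral closure of `A[t]` in `K`, assumed to be Noetherian,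
and `p` a maximal ideal of `C` of height `≤ 2` containing `t`.  If all Cousin problems on the valuation rings
containing `A` are solvable then this holds for the valuation rings containing `C_p`.
-/

set_option autoImplicit false
universe u v

namespace Groth.Agent.VarietyB.SolLocal

open Groth.Agent.CurvesC.ValCousin

variable {K : Type u} [Field K]

/-- `g` solves the Cousin problem `(T, f)` on `W`. -/
def Sols {σ : Type v} (W : Set (ValuationSubring K)) (T : σ → Finset K) (f : σ → K) (g : K) : Prop :=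
  ∀ V ∈ W, ∀ i, (T i : Set K) ⊆ V → g - f i ∈ V

/-- Every Cousin problem on `W` is solvable. -/
def SolOn (W : Set (ValuationSubring K)) : Prop :=
  ∀ (σ : Type) [Finite σ] (T : σ → Finset K) (f : σ → K),
    (∀ V ∈ W, ∃ i, (T i : Set K) ⊆ V) →
    (∀ V ∈ W, ∀ i j, (T i : Set K) ⊆ V → (T j : Set K) ⊆ V → f i - f j ∈ V) → ∃ g, Sols W T f g

theorem Sols.mono {σ : Type v} {W W' : Set (ValuationSubring K)} {T : σ → Finset K} {f : σ → K} {g : K}
    (h : Sols W T f g) (hW : W' ⊆ W) : Sols W' T f g := fun V hV => h V (hW hV)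

/-- Spreading out from the localization at a prime, for finitely many memberships. -/
theorem exists_notMem_forall {B : Type v} [CommRing B] [Algebra B K]
    (hinj : Function.Injective (algebraMap B K)) {κ : Type*} [Finite κ] (F : κ → Set K) (z : κ → K) (p : Ideal B)
    [hp : p.IsPrime]
    (h : ∀ k, ∀ V : ValuationSubring K, Contains B V → (∀ s ∉ p, (algebraMap B K s)⁻¹ ∈ V) → F k ⊆ V → z k ∈ V) :
    ∃ s ∉ p, ∀ k, ∀ V : ValuationSubring K, Contains B V → (algebraMap B K s)⁻¹ ∈ V → F k ⊆ V → z k ∈ V := by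
  classical
  cases nonempty_fintype κ
  choose S hS hSV using fun k => exists_notMem_of_localization hinj p (F k) (h k)
  have hprod : ∀ T : Finset κ, (∏ k ∈ T, S k) ∉ p := by
    intro T
    rw [hp.prod_mem_iff]
    rintro ⟨k, _, hk⟩
    exact hS k hk
  refine ⟨∏ k, S k, hprod _, fun i V hV h2 hF => hSV i V hV ?_ hF⟩
  rw [← Finset.mul_prod_erase _ _ (Finset.mem_univ i)] at h2
  exact (inv_mem_of_inv_mul_mem hinj (ne_zero_of_notMem (hS i)) (ne_zero_of_notMem (hprod _)) hV h2).1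

/-- Passage from local to global for Cousin problems on a basic open set of the spectrum of an integrally closed
ring. -/
theorem exists_sols_of_local {B : Type v} [CommRing B] [Algebra B K]
    (hinj : Function.Injective (algebraMap B K)) (hB : IC (K := K) B) {σ : Type*} [Finite σ]
    (T : σ → Finset K) (f : σ → K) (w : B) (hw : w ≠ 0)
    (hcov : ∀ V : ValuationSubring K, Contains B V → (algebraMap B K w)⁻¹ ∈ V → ∃ i, (T i : Set K) ⊆ V)
    (h : ∀ p : Ideal B, p.IsPrime → w ∉ p →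
      ∃ g, Sols {V | Contains B V ∧ ∀ s ∉ p, (algebraMap B K s)⁻¹ ∈ V} T f g) :
    ∃ g, Sols {V | Contains B V ∧ (algebraMap B K w)⁻¹ ∈ V} T f g := by
  classical
  let S : Set B := {s | ∃ g, Sols {V | Contains B V ∧ (algebraMap B K s)⁻¹ ∈ V} T f g}
  have hrad : w ∈ (Ideal.span S).radical := by
    rw [Ideal.radical_eq_sInf, Submodule.mem_sInf]
    rintro p ⟨hle, hp⟩
    by_contra hwp
    obtain ⟨g, hg⟩ := h p hp hwp
    obtain ⟨s, hs, hs'⟩ := exists_notMem_forall hinj (fun i => (T i : Set K)) (fun i => g - f i) p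
      (fun i V hV hV' hF => hg V ⟨hV, hV'⟩ i hF)
    exact hs (hle (Ideal.subset_span ⟨g, fun V hV i hi => hs' i V hV.1 hV.2 hi⟩))
  by_cases h0 : (0 : B) ∈ S
  · obtain ⟨g, hg⟩ := h0
    exact ⟨g, fun V hV i hi => hg V ⟨hV.1, by rw [map_zero, inv_zero]; exact V.zero_mem⟩ i hi⟩
  have hw' : algebraMap B K w ≠ 0 := (map_ne_zero_iff _ hinj).mpr hw
  obtain ⟨k, hk⟩ := hrad
  obtain ⟨T0, hTS, hT⟩ := Submodule.mem_span_finite_of_mem_span hk
  have hTne : ∀ s : T0, s.1 ≠ 0 := fun s hs => h0 (hs ▸ hTS s.2)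
  have hTne' : ∀ s : T0, algebraMap B K s.1 ≠ 0 := fun s => (map_ne_zero_iff _ hinj).mpr (hTne s)
  choose g hg using fun s : T0 => hTS s.2
  have hwV : ∀ V : ValuationSubring K, Contains B V → ∀ c : B, (algebraMap B K (c * w))⁻¹ ∈ V → c ≠ 0 →
      (algebraMap B K c)⁻¹ ∈ V ∧ (algebraMap B K w)⁻¹ ∈ V := fun V hV c hc hc0 =>
    inv_mem_of_inv_mul_mem hinj hc0 hw hV hc
  have hpair : ∀ s t : T0, ∃ (n : ℕ) (b : B),
      algebraMap B K (s.1 * t.1 * w) ^ n * (g s - g t) = algebraMap B K b := by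
    intro s t
    have hst : s.1 * t.1 ≠ 0 := by
      intro h1
      have := congrArg (algebraMap B K) h1
      rw [map_mul, map_zero] at this
      exact mul_ne_zero (hTne' s) (hTne' t) this
    refine exists_pow_mul_eq hB ?_ (fun V hV hV' => ?_)
    · rw [map_mul, map_mul]
      exact mul_ne_zero (mul_ne_zero (hTne' s) (hTne' t)) hw'
    · obtain ⟨h1, h2⟩ := hwV V hV _ hV' hst
      obtain ⟨h3, h4⟩ := inv_mem_of_inv_mul_mem hinj (hTne s) (hTne t) hV h1
      obtain ⟨i, hi⟩ := hcov V hV h2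
      have := sub_mem (hg s V ⟨hV, h3⟩ i hi) (hg t V ⟨hV, h4⟩ i hi)
      simpa using this
  choose n b hnb using hpair
  let N := Finset.univ.sup (fun p : T0 × T0 => n p.1 p.2)
  have hN : ∀ s t : T0, ∃ b' : B, algebraMap B K (s.1 * t.1 * w) ^ N * (g s - g t) = algebraMap B K b' := by
    intro s t
    have hle : n s t ≤ N := Finset.le_sup (f := fun p : T0 × T0 => n p.1 p.2) (Finset.mem_univ (s, t))
    refine ⟨(s.1 * t.1 * w) ^ (N - n s t) * b s t, ?_⟩
    calc algebraMap B K (s.1 * t.1 * w) ^ N * (g s - g t)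
        = algebraMap B K (s.1 * t.1 * w) ^ (N - n s t) *
            (algebraMap B K (s.1 * t.1 * w) ^ n s t * (g s - g t)) := by
          rw [← mul_assoc, ← pow_add, Nat.sub_add_cancel hle]
      _ = algebraMap B K ((s.1 * t.1 * w) ^ (N - n s t)) * algebraMap B K (b s t) := by
          rw [hnb s t, map_pow]
      _ = algebraMap B K ((s.1 * t.1 * w) ^ (N - n s t) * b s t) := (map_mul _ _ _).symm
  -- a partition of unity
  have hradN : w ∈ (Ideal.span (Set.range (fun s : T0 => s.1 ^ N))).radical := by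
    rw [Ideal.radical_eq_sInf, Submodule.mem_sInf]
    rintro p ⟨hle, hp⟩
    refine hp.mem_of_pow_mem k ((Ideal.span_le.mpr ?_ : Ideal.span (T0 : Set B) ≤ p) hT)
    intro s hs
    exact hp.mem_of_pow_mem N (hle (Ideal.subset_span ⟨⟨s, hs⟩, rfl⟩))
  obtain ⟨M, hM⟩ := hradN
  obtain ⟨c, hc⟩ := Ideal.mem_span_range_iff_exists_fun.mp hM
  have hcK : ∑ s : T0, algebraMap B K (c s * s.1 ^ N) * (algebraMap B K w)⁻¹ ^ M = 1 := by
    rw [← Finset.sum_mul, ← map_sum, hc, map_pow, ← mul_pow, mul_inv_cancel₀ hw', one_pow]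
  refine ⟨∑ s : T0, algebraMap B K (c s * s.1 ^ N) * (algebraMap B K w)⁻¹ ^ M * g s, fun V hV i hi => ?_⟩
  obtain ⟨hV, hVw⟩ := hV
  -- one of the `s` is invertible in `V`
  have hex : ∃ s : T0, (algebraMap B K s.1)⁻¹ ∈ V := by
    by_contra hcon
    push Not at hcon
    have hmem : ∀ s : T0, V.valuation (algebraMap B K s.1) < 1 := by
      intro s
      have h1 := hcon s
      rw [← V.valuation_le_one_iff, map_inv₀, not_le] at h1
      have h2 : 0 < V.valuation (algebraMap B K s.1) := zero_lt_iff.mpr ((map_ne_zero _).mpr (hTne' s))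
      exact (one_lt_inv₀ h2).mp h1
    let φ : B →+* V := (algebraMap B K).codRestrict V.toSubring hV
    have hsub : (T0 : Set B) ⊆ ((IsLocalRing.maximalIdeal V).comap φ : Set B) := by
      intro s hs
      change φ s ∈ IsLocalRing.maximalIdeal V
      rw [V.valuation_lt_one_iff]
      exact hmem ⟨s, hs⟩
    have h3 : w ^ k ∈ (IsLocalRing.maximalIdeal V).comap φ := Ideal.span_le.mpr hsub hT
    have h4 : w ∈ (IsLocalRing.maximalIdeal V).comap φ :=
      (Ideal.comap_isPrime φ (IsLocalRing.maximalIdeal V)).mem_of_pow_mem k h3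
    have h5 : V.valuation (algebraMap B K w) < 1 := by
      have h6 : φ w ∈ IsLocalRing.maximalIdeal V := h4
      rw [V.valuation_lt_one_iff] at h6
      exact h6
    have h6 : V.valuation (algebraMap B K w)⁻¹ ≤ 1 := (V.valuation_le_one_iff _).mpr hVw
    rw [map_inv₀] at h6
    have h7 : 0 < V.valuation (algebraMap B K w) := zero_lt_iff.mpr ((map_ne_zero _).mpr hw')
    exact absurd h6 (not_le.mpr ((one_lt_inv₀ h7).mpr h5))
  obtain ⟨t, htV⟩ := hex
  have hgt := hg t V ⟨hV, htV⟩ i hi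
  have hdiff : (∑ s : T0, algebraMap B K (c s * s.1 ^ N) * (algebraMap B K w)⁻¹ ^ M * g s) - g t ∈ V := by
    have h2 : (∑ s : T0, algebraMap B K (c s * s.1 ^ N) * (algebraMap B K w)⁻¹ ^ M * g s) - g t =
        ∑ s : T0, algebraMap B K (c s * s.1 ^ N) * (algebraMap B K w)⁻¹ ^ M * (g s - g t) := by
      simp only [mul_sub, Finset.sum_sub_distrib, ← Finset.sum_mul]
      rw [Finset.sum_mul, hcK, one_mul]
    rw [h2]
    refine sum_mem fun s _ => ?_
    obtain ⟨b', hb'⟩ := hN s t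
    have h3 : algebraMap B K (c s * s.1 ^ N) * (algebraMap B K w)⁻¹ ^ M * (g s - g t) =
        algebraMap B K (c s) * ((algebraMap B K t.1)⁻¹ ^ N * (algebraMap B K w)⁻¹ ^ N *
          (algebraMap B K w)⁻¹ ^ M * algebraMap B K b') := by
      rw [← hb', map_mul, map_mul, map_mul, map_pow, mul_pow, mul_pow]
      have := hTne' t
      simp only [inv_pow]
      field_simp
    rw [h3]
    exact V.mul_mem _ _ (hV _) (V.mul_mem _ _ (V.mul_mem _ _ (V.mul_mem _ _ (pow_mem htV N) (pow_mem hVw N))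
      (pow_mem hVw M)) (hV _))
  have := V.add_mem _ _ hdiff hgt
  simpa using this

section Main

variable {C : Subring K}

/-- Local solvability at primes of height at most one. -/
theorem exists_sols_of_height_le_one [IsFractionRing C K] [IsNoetherianRing C] [IsIntegrallyClosed C]
    (q : Ideal C) [q.IsPrime] (hmin : ∀ q' : Ideal C, q'.IsPrime → q' ≠ ⊥ → q' ≤ q → q' = q)
    {σ : Type*} (T : σ → Finset K) (f : σ → K)
    (hcov : ∀ V : ValuationSubring K, ∃ i, (T i : Set K) ⊆ V)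
    (hf : ∀ V : ValuationSubring K, Contains C V → (∀ s ∉ q, (algebraMap C K s)⁻¹ ∈ V) →
      ∀ i j, (T i : Set K) ⊆ V → (T j : Set K) ⊆ V → f i - f j ∈ V) :
    ∃ g, Sols {V | Contains C V ∧ ∀ s ∉ q, (algebraMap C K s)⁻¹ ∈ V} T f g := by
  obtain ⟨V0, hV0⟩ := Groth.Agent.Lipman.ZR158.exists_valuationSubring_of_height_one q hmin
  obtain ⟨i0, hi0⟩ := hcov V0
  refine ⟨f i0, fun V hV i hi => hf V hV.1 hV.2 i0 i (fun x hx => ?_) hi⟩
  have h1 : x ∈ (LocalSubring.ofPrime C q).toSubring := by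
    rw [← hV0]
    exact hi0 hx
  obtain ⟨a, s, hs, rfl⟩ := Groth.Agent.Lipman.ZR158.mem_ofPrime_iff.1 h1
  have h2 := V.mul_mem _ _ (hV.1 a) (hV.2 s hs)
  change (a : K) / (s : K) ∈ V
  rw [div_eq_mul_inv]
  exact h2

/-- The bad locus of a Cousin problem near a closed point of height `≤ 2` is the point. -/
theorem exists_shrink [IsFractionRing C K] [IsNoetherianRing C] [IsIntegrallyClosed C]
    (p : Ideal C) [hpm : p.IsMaximal]
    (hht : ∀ q q' : Ideal C, q.IsPrime → q'.IsPrime → ⊥ < q → q < q' → q' < p → False)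
    {σ : Type*} [Finite σ] (T : σ → Finset K) (f : σ → K)
    (hcov : ∀ V : ValuationSubring K, ∃ i, (T i : Set K) ⊆ V) (s0 : C) (hs0 : s0 ∉ p)
    (hf : ∀ V : ValuationSubring K, Contains C V → (algebraMap C K s0)⁻¹ ∈ V →
      ∀ i j, (T i : Set K) ⊆ V → (T j : Set K) ⊆ V → f i - f j ∈ V) :
    ∃ s1 ∉ p, s0 ∣ s1 ∧ ∀ q : Ideal C, q.IsPrime → s1 ∉ q → q ≠ p →
      ∃ g, Sols {V | Contains C V ∧ ∀ s ∉ q, (algebraMap C K s)⁻¹ ∈ V} T f g := by
  classical
  have hinj : Function.Injective (algebraMap C K) := Subtype.val_injective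
  let S : Set C := {s | ∃ g, Sols {V | Contains C V ∧ (algebraMap C K s)⁻¹ ∈ V} T f g}
  let J : Ideal C := Ideal.span S
  have hJ : ∀ q : Ideal C, q.IsPrime → ¬ J ≤ q →
      ∃ g, Sols {V | Contains C V ∧ ∀ s ∉ q, (algebraMap C K s)⁻¹ ∈ V} T f g := by
    intro q _ hq
    have h1 : ¬ S ⊆ q := fun h => hq (Ideal.span_le.mpr h)
    obtain ⟨s, ⟨g, hg⟩, hs'⟩ := Set.not_subset.mp h1
    exact ⟨g, hg.mono fun V hV => ⟨hV.1, hV.2 s hs'⟩⟩
  have hJ' : ∀ q : Ideal C, q.IsPrime → J ≤ q →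
      ¬ ∃ g, Sols {V | Contains C V ∧ ∀ s ∉ q, (algebraMap C K s)⁻¹ ∈ V} T f g := by
    rintro q hq hle ⟨g, hg⟩
    obtain ⟨s, hs, hs'⟩ := exists_notMem_forall hinj (fun i => (T i : Set K)) (fun i => g - f i) q
      (fun i V hV hV' hF => hg V ⟨hV, hV'⟩ i hF)
    exact hs (hle (Ideal.subset_span ⟨g, fun V hV i hi => hs' i V hV.1 hV.2 hi⟩))
  have hfin : J.minimalPrimes.Finite := J.finite_minimalPrimes_of_isNoetherianRing C
  -- the minimal primes not contained in `p`
  have hex : ∀ q : Ideal C, ∃ r : C, r ∉ p ∧ (¬ q ≤ p → r ∈ q) := by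
    intro q
    by_cases h : q ≤ p
    · exact ⟨1, (Ideal.ne_top_iff_one p).mp hpm.ne_top, fun h' => absurd h h'⟩
    · obtain ⟨r, hr, hrp⟩ := Set.not_subset.mp h
      exact ⟨r, hrp, fun _ => hr⟩
  choose r hrp hr using hex
  refine ⟨s0 * ∏ q ∈ hfin.toFinset, r q, ?_, Dvd.intro _ rfl, ?_⟩
  · intro h
    rcases hpm.isPrime.mem_or_mem h with h | h
    · exact hs0 h
    · obtain ⟨q, _, hq⟩ := (hpm.isPrime.prod_mem_iff).mp h
      exact hrp q hq
  · intro q hq hsq hqp
    by_contra hcon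
    have hle : J ≤ q := by
      by_contra h
      exact hcon (hJ q hq h)
    obtain ⟨q', hq', hq'le⟩ := Ideal.exists_minimalPrimes_le hle
    have hq'p : q' ≤ p := by
      by_contra h
      refine hsq (Ideal.mul_mem_left _ _ (hq'le ?_))
      rw [← Finset.mul_prod_erase _ _ (hfin.mem_toFinset.mpr hq')]
      exact Ideal.mul_mem_right _ _ (hr q' h)
    have hs0q' : s0 ∉ q' := fun h => hsq (Ideal.mul_mem_right _ _ (hq'le h))
    have hq'prime : q'.IsPrime := hq'.1.1
    have hq'eq : q' = p := by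
      by_contra hne
      have hlt : q' < p := lt_of_le_of_ne hq'p hne
      refine hJ' q' hq'prime hq'.1.2 (exists_sols_of_height_le_one q' ?_ T f hcov
        (fun V hV hV' => hf V hV (hV' s0 hs0q')))
      intro q'' hq'' hne'' hle''
      by_contra h
      exact hht q'' q' hq'' hq'prime (bot_lt_iff_ne_bot.mpr hne'') (lt_of_le_of_ne hle'' h) hlt
    exact hqp (hpm.eq_of_le hq.ne_top (hq'eq ▸ hq'le)).symm

/-- The main step. -/
theorem exists_sols {A : Type v} [CommRing A] [Algebra A K] (hA : SolOn {V : ValuationSubring K | Contains A V})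
    [IsFractionRing C K] [IsNoetherianRing C] [IsIntegrallyClosed C] (t : C) (ht0 : t ≠ 0)
    (hC : ∀ V : ValuationSubring K, Contains C V ↔ Contains A V ∧ (t : K) ∈ V)
    (p : Ideal C) [hpm : p.IsMaximal] (htp : t ∈ p)
    (hht : ∀ q q' : Ideal C, q.IsPrime → q'.IsPrime → ⊥ < q → q < q' → q' < p → False)
    {σ : Type} [Finite σ] (T : σ → Finset K) (f : σ → K)
    (hcov : ∀ V : ValuationSubring K, ∃ i, (T i : Set K) ⊆ V)
    (hf : ∀ V : ValuationSubring K, Contains C V → (∀ s ∉ p, (algebraMap C K s)⁻¹ ∈ V) →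
      ∀ i j, (T i : Set K) ⊆ V → (T j : Set K) ⊆ V → f i - f j ∈ V) :
    ∃ g, Sols {V | Contains C V ∧ ∀ s ∉ p, (algebraMap C K s)⁻¹ ∈ V} T f g := by
  classical
  have hinj : Function.Injective (algebraMap C K) := Subtype.val_injective
  have hIC : IC (K := K) C := fun z hz => IsIntegrallyClosed.isIntegral_iff.mp hz
  have ht0' : (t : K) ≠ 0 := fun h => ht0 (Subtype.ext h)
  -- spread out the compatibility
  obtain ⟨s0, hs0, hf0⟩ := exists_notMem_forall hinj (κ := σ × σ) (fun k => (T k.1 : Set K) ∪ (T k.2 : Set K))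
    (fun k => f k.1 - f k.2) p (fun k V hV hV' hF => hf V hV hV' k.1 k.2 (Set.subset_union_left.trans hF)
      (Set.subset_union_right.trans hF))
  obtain ⟨s1, hs1, hs01, hloc⟩ := exists_shrink p hht T f hcov s0 hs0
    (fun V hV hV' i j hi hj => hf0 (i, j) V hV hV' (Set.union_subset hi hj))
  have hs1ne : s1 ≠ 0 := ne_zero_of_notMem hs1
  have hs0ne : s0 ≠ 0 := ne_zero_of_notMem hs0
  have hf1 : ∀ V : ValuationSubring K, Contains C V → (algebraMap C K s1)⁻¹ ∈ V →
      ∀ i j, (T i : Set K) ⊆ V → (T j : Set K) ⊆ V → f i - f j ∈ V := by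
    intro V hV hV' i j hi hj
    obtain ⟨c, hc⟩ := hs01
    rw [hc] at hV' hs1ne
    have hc0 : c ≠ 0 := by
      rintro rfl
      exact hs1ne (mul_zero _)
    exact hf0 (i, j) V hV (inv_mem_of_inv_mul_mem hinj hs0ne hc0 hV hV').1 (Set.union_subset hi hj)
  -- an element of `p` congruent to one modulo `s1`
  obtain ⟨w, hw0, hwp, y, y', hy⟩ : ∃ w : C, w ≠ 0 ∧ w ∈ p ∧ ∃ y y' : C, y * s1 + y' * w = 1 := by
    obtain ⟨y, i, hi, hyi⟩ := hpm.exists_inv hs1
    by_cases h : i = 0
    · exact ⟨t, ht0, htp, y, 0, by rw [zero_mul, ← h, hyi]⟩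
    · exact ⟨i, h, hi, y, 1, by rw [one_mul, hyi]⟩
  have hnot : ∀ q : Ideal C, q.IsPrime → s1 ∈ q → w ∉ q := by
    intro q hq h1 h2
    refine hq.ne_top ((Ideal.eq_top_iff_one q).mpr ?_)
    rw [← hy]
    exact q.add_mem (q.mul_mem_left _ h1) (q.mul_mem_left _ h2)
  have hunit : ∀ V : ValuationSubring K, Contains C V →
      (algebraMap C K s1)⁻¹ ∈ V ∨ (algebraMap C K w)⁻¹ ∈ V := by
    intro V hV
    have hspan : Ideal.span ({s1, w} : Set C) = ⊤ := by
      rw [Ideal.eq_top_iff_one, ← hy]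
      exact Ideal.add_mem _ (Ideal.mul_mem_left _ _ (Ideal.subset_span (Or.inl rfl)))
        (Ideal.mul_mem_left _ _ (Ideal.subset_span (Or.inr rfl)))
    obtain ⟨s, hs, hsV⟩ := exists_inv_mem hV hspan
    rcases hs with rfl | rfl
    · exact Or.inl hsV
    · exact Or.inr hsV
  -- solve outside `p`
  obtain ⟨g1, hg1⟩ := exists_sols_of_local hinj hIC T f (s1 * w) (mul_ne_zero hs1ne hw0) (fun V _ _ => hcov V)
    (fun q hq hq' => hloc q hq (fun h => hq' (q.mul_mem_right _ h)) (fun h => hq' (q.mul_mem_left _ (h ▸ hwp))))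
  have hg1' : ∀ V : ValuationSubring K, Contains C V → (algebraMap C K s1)⁻¹ ∈ V → (algebraMap C K w)⁻¹ ∈ V →
      ∀ i, (T i : Set K) ⊆ V → g1 - f i ∈ V := by
    intro V hV h1 h2
    refine hg1 V ⟨hV, ?_⟩
    rw [map_mul, mul_inv]
    exact V.mul_mem _ _ h1 h2
  -- the problem over `C`
  let T2 : Option σ → Finset K := fun o => o.elim {(algebraMap C K w)⁻¹} (fun i => insert (algebraMap C K s1)⁻¹ (T i))
  let f2 : Option σ → K := fun o => o.elim 0 (fun i => f i - g1)
  have hT2none : ∀ V : ValuationSubring K, (T2 none : Set K) ⊆ V ↔ (algebraMap C K w)⁻¹ ∈ V := by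
    intro V
    simp [T2]
  have hT2some : ∀ V : ValuationSubring K, ∀ i, (T2 (some i) : Set K) ⊆ V ↔
      (algebraMap C K s1)⁻¹ ∈ V ∧ (T i : Set K) ⊆ V := by
    intro V i
    simp [T2, Set.insert_subset_iff]
  have hcov2 : ∀ V : ValuationSubring K, Contains C V → ∃ x, (T2 x : Set K) ⊆ V := by
    intro V hV
    rcases hunit V hV with h | h
    · obtain ⟨i, hi⟩ := hcov V
      exact ⟨some i, (hT2some V i).mpr ⟨h, hi⟩⟩
    · exact ⟨none, (hT2none V).mpr h⟩
  have hf2 : ∀ V : ValuationSubring K, Contains C V → ∀ x y, (T2 x : Set K) ⊆ V → (T2 y : Set K) ⊆ V →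
      f2 x - f2 y ∈ V := by
    rintro V hV (_ | i) (_ | j) hx hy
    · simp
    · rw [hT2none] at hx
      rw [hT2some] at hy
      have := hg1' V hV hy.1 hx j hy.2
      simpa [f2] using this
    · rw [hT2some] at hx
      rw [hT2none] at hy
      have := V.neg_mem _ (hg1' V hV hx.1 hy i hx.2)
      simpa [f2] using this
    · rw [hT2some] at hx hy
      have := hf1 V hV hx.1 i j hx.2 hy.2
      simpa [f2] using this
  -- solve over `C[1/t]`
  obtain ⟨g2, hg2⟩ := exists_sols_of_local hinj hIC T2 f2 t ht0 (fun V hV _ => hcov2 V hV) (by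
    intro q hq htq
    by_cases hsq : s1 ∈ q
    · have hwq := hnot q hq hsq
      refine ⟨0, fun V hV x hx => ?_⟩
      have := hf2 V hV.1 none x ((hT2none V).mpr (hV.2 w hwq)) hx
      simpa [f2] using this
    · obtain ⟨g', hg'⟩ := hloc q hq hsq (fun h => htq (h ▸ htp))
      refine ⟨g' - g1, ?_⟩
      rintro V hV (_ | i) hx
      · rw [hT2none] at hx
        obtain ⟨i, hi⟩ := hcov V
        have h1 := sub_mem (hg' V hV i hi) (hg1' V hV.1 (hV.2 s1 hsq) hx i hi)
        simpa [f2] using h1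
      · rw [hT2some] at hx
        have := hg' V hV i hx.2
        simpa [f2] using this)
  -- the problem over `A`
  let T3 : Option (Option σ) → Finset K := fun o => o.elim {(t : K)⁻¹} (fun x => insert (t : K) (T2 x))
  let f3 : Option (Option σ) → K := fun o => o.elim g2 f2
  have hT3none : ∀ V : ValuationSubring K, (T3 none : Set K) ⊆ V ↔ (t : K)⁻¹ ∈ V := by
    intro V
    simp [T3]
  have hT3some : ∀ V : ValuationSubring K, ∀ x, (T3 (some x) : Set K) ⊆ V ↔
      (t : K) ∈ V ∧ (T2 x : Set K) ⊆ V := by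
    intro V x
    simp [T3, Set.insert_subset_iff]
  obtain ⟨g3, hg3⟩ := hA (Option (Option σ)) T3 f3 (by
    intro V hV
    rcases V.mem_or_inv_mem (t : K) with h | h
    · obtain ⟨x, hx⟩ := hcov2 V ((hC V).mpr ⟨hV, h⟩)
      exact ⟨some x, (hT3some V x).mpr ⟨h, hx⟩⟩
    · exact ⟨none, (hT3none V).mpr h⟩) (by
    rintro V hV (_ | x) (_ | y) hx hy
    · simp
    · rw [hT3none] at hx
      rw [hT3some] at hy
      exact hg2 V ⟨(hC V).mpr ⟨hV, hy.1⟩, hx⟩ y hy.2
    · rw [hT3some] at hx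
      rw [hT3none] at hy
      have := V.neg_mem _ (hg2 V ⟨(hC V).mpr ⟨hV, hx.1⟩, hy⟩ x hx.2)
      rwa [neg_sub] at this
    · rw [hT3some] at hx hy
      exact hf2 V ((hC V).mpr ⟨hV, hx.1⟩) x y hx.2 hy.2)
  refine ⟨g3 + g1, fun V hV i hi => ?_⟩
  obtain ⟨hVA, htV⟩ := (hC V).mp hV.1
  have := hg3 V hVA (some (some i)) ((hT3some V _).mpr ⟨htV, (hT2some V i).mpr ⟨hV.2 s1 hs1, hi⟩⟩)
  have h2 : g3 + g1 - f i = g3 - (f i - g1) := by ring
  rw [h2]
  exact this

end Main

end Groth.Agent.VarietyB.SolLocal
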